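import Mathlib.Tactic
import Mathlib.GroupTheory.GroupAction.Quotient
import Mathlib.GroupTheory.NoncommCoprod
import Mathlib.Algebra.Order.Chebyshev

/-! Arithmetic and orbit counting for the eigenvalue estimate behind Turull's bound on the Fitting height. -/

set_option autoImplicit false

namespace Cfsg.Agent.TurullTwo

/-- The multiplicities of the eigenvalues of an operator of order `r` on a space of dimension `e` whose
commutant has dimension `M + 1` where `e * e = r * M + 1` lie near `e / r`. -/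
theorem mult_bound {ι : Type*} (s : Finset ι) (m : ι → ℕ) {e M r : ℕ} (hr : 2 ≤ r) (hcard : s.card = r)
    (hsum : ∑ i ∈ s, m i = e) (hsq : ∑ i ∈ s, m i ^ 2 = M + 1) (he : e * e = r * M + 1) {a : ι}
    (ha : a ∈ s) : e ≤ r * m a + (r - 1) ∧ r * m a ≤ e + (r - 1) := by
  classical
  set x : ι → ℤ := fun i => (r : ℤ) * m i - e with hx
  have h1 : ∑ i ∈ s, x i = 0 := by
    rw [hx, Finset.sum_sub_distrib, ← Finset.mul_sum, Finset.sum_const, hcard, nsmul_eq_mul]
    rw [show (∑ i ∈ s, (m i : ℤ)) = (e : ℤ) by exact_mod_cast hsum]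
    ring
  have h2 : ∑ i ∈ s, x i ^ 2 = (r : ℤ) * (r - 1) := by
    have e1 : ∀ i, x i ^ 2 = (r : ℤ) ^ 2 * (m i : ℤ) ^ 2 - 2 * r * e * m i + (e : ℤ) ^ 2 := fun i => by
      simp only [hx]; ring
    simp only [e1, Finset.sum_add_distrib, Finset.sum_sub_distrib, ← Finset.mul_sum, Finset.sum_const,
      hcard, nsmul_eq_mul]
    rw [show (∑ i ∈ s, (m i : ℤ) ^ 2) = (M : ℤ) + 1 by exact_mod_cast hsq,
      show (∑ i ∈ s, (m i : ℤ)) = (e : ℤ) by exact_mod_cast hsum]
    have : (e : ℤ) * e = r * M + 1 := by exact_mod_cast he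
    linear_combination -(r : ℤ) * this
  rw [← Finset.add_sum_erase s _ ha] at h1 h2
  have h3 := sq_sum_le_card_mul_sum_sq (s := s.erase a) (f := x)
  rw [show ∑ i ∈ s.erase a, x i = -x a by linarith, Finset.card_erase_of_mem ha, hcard,
    show ∑ i ∈ s.erase a, x i ^ 2 = (r : ℤ) * (r - 1) - x a ^ 2 by linarith,
    Nat.cast_sub (by omega : 1 ≤ r), Nat.cast_one] at h3
  have hr' : (2 : ℤ) ≤ r := by exact_mod_cast hr
  have h4 : x a ^ 2 ≤ ((r : ℤ) - 1) ^ 2 := by nlinarith
  have h5 : |x a| ≤ (r : ℤ) - 1 := abs_le_of_sq_le_sq h4 (by linarith)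
  rw [abs_le] at h5
  simp only [hx] at h5
  constructor <;> omega

/-- A dimension is congruent to `1` or `-1`. -/
theorem dim_cases {e M r : ℕ} (hr : r.Prime) (he : e * e = r * M + 1) :
    ∃ q, e = r * q + 1 ∨ e + 1 = r * q := by
  rcases e with _ | e
  · simp at he
  have hd : r ∣ e * (e + 2) := ⟨M, by nlinarith⟩
  rcases hr.dvd_mul.1 hd with ⟨q, hq⟩ | ⟨q, hq⟩
  · exact ⟨q, Or.inl (by omega)⟩
  · exact ⟨q, Or.inr (by omega)⟩

set_option maxHeartbeats 800000 in
/-- A point which is moved needs a quotient of size `r + 1`. -/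
theorem arith_moved {r e m F C M : ℕ} (hr : r.Prime) (he : e * e = r * M + 1) (hFC : F * C = e * e)
    (hF : ∃ k, F = r * (k + 1) + 1) (hC : ∃ k, C = r * (k + 1) + 1) (hm : e ≤ r * m + (r - 1))
    (hsq : r * m * m + 1 ≤ r + F) : C = r + 1 := by
  by_contra hne
  obtain ⟨kF, hkF⟩ := hF
  obtain ⟨kC, hkC⟩ := hC
  have hr2 := hr.two_le
  have hk : 1 ≤ kC := by
    rcases Nat.eq_zero_or_pos kC with h | h
    · subst h; simp at hkC; exact absurd hkC hne
    · exact h
  have hC2 : 2 * r + 1 ≤ C := by subst hkC; nlinarith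
  have hF1 : r + 1 ≤ F := by subst hkF; nlinarith
  have hFe : F * (2 * r + 1) ≤ e * e := hFC ▸ Nat.mul_le_mul_left F hC2
  have hlow : r + 2 ≤ e := by
    by_contra h
    nlinarith [Nat.mul_le_mul hF1 (le_refl (2 * r + 1)), show e ≤ r + 1 by omega]
  have hhigh : e + 2 ≤ 4 * r := by
    by_contra h
    have h0 : (4 : ℤ) * r - 1 ≤ e := by omega
    have h1 : ((e : ℤ) - r + 1) * ((e : ℤ) - r + 1) ≤ ((r : ℤ) * m) * (r * m) :=
      mul_self_le_mul_self (by omega) (by omega)
    have h2 : (r : ℤ) * (r * m * m + 1) ≤ r * (r + F) := by exact_mod_cast Nat.mul_le_mul_left r hsq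
    have h3 : (F : ℤ) * (2 * r + 1) ≤ e * e := by exact_mod_cast hFe
    have h4 : ((2 : ℤ) * r + 1) * (((e : ℤ) - r + 1) * ((e : ℤ) - r + 1)) ≤
        (2 * r + 1) * (r * r - r) + r * (e * e) := by
      calc ((2 : ℤ) * r + 1) * (((e : ℤ) - r + 1) * ((e : ℤ) - r + 1))
          ≤ (2 * r + 1) * (r * r - r + r * F) := mul_le_mul_of_nonneg_left (by linarith) (by positivity)
        _ ≤ _ := by nlinarith
    have h5 : (e : ℤ) * ((r + 1) * e) ≤ e * ((2 * r + 1) * (r - 1) * 2) + (2 * r + 1) * (r - 1) := by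
      linarith
    have h6 : ((2 : ℤ) * r + 1) * (r - 1) * 2 + r < (r + 1) * e := by
      nlinarith [mul_le_mul_of_nonneg_left h0 (show (0 : ℤ) ≤ r + 1 by positivity)]
    nlinarith [mul_lt_mul_of_pos_left h6 (show (0 : ℤ) < e by omega),
      mul_le_mul_of_nonneg_left h0 (show (0 : ℤ) ≤ r by positivity)]
  obtain ⟨q, hq | hq⟩ := dim_cases hr he
  · have hq1 : 2 ≤ q := by
      by_contra h
      have : r * q ≤ r * 1 := Nat.mul_le_mul_left r (by omega)
      omega
    have hq3 : q ≤ 3 := by
      by_contra h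
      have : r * 4 ≤ r * q := Nat.mul_le_mul_left r (by omega)
      omega
    have hmq : q ≤ m := by
      by_contra h
      have : r * (m + 1) ≤ r * q := Nat.mul_le_mul_left r (by omega)
      rw [Nat.mul_add, mul_one] at this
      omega
    have h1 := le_trans (Nat.add_le_add_right (Nat.mul_le_mul (Nat.mul_le_mul_left r hmq) hmq) 1) hsq
    subst hq
    interval_cases q <;> nlinarith
  · have hq1 : 2 ≤ q := by
      by_contra h
      have : r * q ≤ r * 1 := Nat.mul_le_mul_left r (by omega)
      omega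
    have hq3 : q ≤ 3 := by
      by_contra h
      have : r * 4 ≤ r * q := Nat.mul_le_mul_left r (by omega)
      omega
    interval_cases q
    · have hk0 : kF = 0 := by
        by_contra h
        have : r * 2 ≤ r * (kF + 1) := Nat.mul_le_mul_left r (by omega)
        nlinarith [Nat.mul_le_mul (show 2 * r + 1 ≤ F by omega) hC2, show e ≤ 2 * r by omega]
      subst hk0
      have hd : F ∣ 9 := by
        have hd0 : (F : ℤ) ∣ (e : ℤ) * e := ⟨C, by exact_mod_cast hFC.symm⟩
        have he2 : (e : ℤ) = 2 * F - 3 := by omega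
        have : (F : ℤ) ∣ 9 := by
          have h9 : (9 : ℤ) = e * e - F * (4 * F - 12) := by rw [he2]; ring
          rw [h9]; exact dvd_sub hd0 (dvd_mul_right _ _)
        exact_mod_cast this
      have hr8 : r ≤ 8 := by have := Nat.le_of_dvd (by norm_num) hd; omega
      interval_cases r
      all_goals norm_num [hkF] at hd
      all_goals first | (norm_num at hr; done) | skip
      subst hkF
      have : e = 3 := by omega
      subst this
      omega
    · have hmq : 2 ≤ m := by
        by_contra h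
        have : r * m ≤ r * 1 := Nat.mul_le_mul_left r (by omega)
        omega
      have h3r : 3 * r + 1 ≤ F := by
        have := le_trans (Nat.add_le_add_right (Nat.mul_le_mul (Nat.mul_le_mul_left r hmq) hmq) 1) hsq
        omega
      have hk1 : kC = 1 := by
        by_contra h
        have : r * 3 ≤ r * (kC + 1) := Nat.mul_le_mul_left r (by omega)
        have h1 := Nat.mul_le_mul h3r (show 3 * r + 1 ≤ C by omega)
        have h2 := Nat.mul_le_mul (show e ≤ 3 * r by omega) (show e ≤ 3 * r by omega)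
        rw [hFC] at h1
        have h4 := Nat.mul_self_lt_mul_self (show 3 * r < 3 * r + 1 by omega)
        omega
      subst hk1
      have hd : C ∣ 25 := by
        have hd0 : (C : ℤ) ∣ (e : ℤ) * e :=
          ⟨(F : ℤ), by rw [mul_comm (C : ℤ) F, ← Nat.cast_mul, ← Nat.cast_mul, hFC]⟩
        have he2 : 2 * (e : ℤ) = 3 * C - 5 := by omega
        have : (C : ℤ) ∣ 25 := by
          have h25 : (25 : ℤ) = 4 * (e * e) - C * (9 * C - 30) := by
            rw [show 4 * ((e : ℤ) * e) = (2 * e) * (2 * e) by ring, he2]; ring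
          rw [h25]; exact dvd_sub (hd0.mul_left 4) (dvd_mul_right _ _)
        exact_mod_cast this
      have hr12 : r ≤ 12 := by have := Nat.le_of_dvd (by norm_num) hd; omega
      interval_cases r
      all_goals norm_num [hkC] at hd
      all_goals first | (norm_num at hr; done) | skip
      subst hkC
      have : e = 5 := by omega
      subst this
      omega

/-- The number of orbits of a pair of commuting permutations of coprime orders, the first of which moves every
point but one. -/
theorem orbit_count {I : Type*} [Fintype I] [DecidableEq I] (π ε : Equiv.Perm I) {r o : ℕ} (hr : r.Prime)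
    (hπ : orderOf π = r) (hε : orderOf ε = o) (hεfree : ∀ l : ℕ, ε ^ l ≠ 1 → ∀ i, (ε ^ l) i = i → ε i = i) (hro : r.Coprime o) (hc : Commute π ε) (i₀ : I)
    (hfree : ∀ i, i ≠ i₀ → π i ≠ i) (R : Finset I)
    (hR : ∀ i ∈ R, ∀ j ∈ R, ∀ a b : ℕ, (π ^ a * ε ^ b) i = j → i = j) :
    R.card * (r * o) ≤
      Fintype.card I + (o - 1) * (Finset.univ.filter fun i => ε i = i).card + (r - 1) * o := by
  classical
  let Γ := ↥(Subgroup.zpowers π) × ↥(Subgroup.zpowers ε)
  let φ : Γ →* Equiv.Perm I :=
    MonoidHom.noncommCoprod (Subgroup.zpowers π).subtype (Subgroup.zpowers ε).subtype fun a b => by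
      obtain ⟨x, k, rfl⟩ := a
      obtain ⟨y, l, rfl⟩ := b
      exact (hc.zpow_zpow k l)
  let : MulAction Γ I := MulAction.compHom I φ
  have hφ : ∀ (γ : Γ) i, γ • i = ((γ.1 : Equiv.Perm I) * γ.2) i := fun γ i => rfl
  have key := MulAction.sum_card_fixedBy_eq_card_orbits_mul_card_group Γ I
  have hcard : Fintype.card Γ = r * o := by
    rw [Fintype.card_prod, Fintype.card_zpowers, Fintype.card_zpowers, hπ, hε]
  have hRle : R.card ≤ Fintype.card (Quotient (MulAction.orbitRel Γ I)) := by
    refine Finset.card_le_card_of_injOn (fun i => (Quotient.mk _ i : Quotient (MulAction.orbitRel Γ I)))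
      (fun i _ => Finset.mem_univ _) fun i hi j hj e => ?_
    obtain ⟨⟨⟨a, ha⟩, ⟨b, hb⟩⟩, hγ⟩ := Quotient.exact e.symm
    obtain ⟨a', ha'⟩ := mem_powers_iff_mem_zpowers.2 ha
    obtain ⟨b', hb'⟩ := mem_powers_iff_mem_zpowers.2 hb
    simp only at ha' hb' hγ
    refine hR i hi j hj a' b' ?_
    rw [ha', hb']
    exact hγ
  have hpowfree : ∀ a : Equiv.Perm I, a ∈ Subgroup.zpowers π → a ≠ 1 → ∀ i, a i = i → i = i₀ := by
    intro a ha ha1 i hi
    by_contra hne
    have h1 : π ∈ Subgroup.zpowers a := by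
      have := Fact.mk hr
      have h2 : Subgroup.zpowers a ≤ Subgroup.zpowers π := Subgroup.zpowers_le.2 ha
      have h3 : orderOf a = r := by
        obtain ⟨k, rfl⟩ := ha
        refine orderOf_eq_prime ?_ ha1
        show (π ^ k) ^ r = 1
        rw [← zpow_natCast, ← zpow_mul, mul_comm, zpow_mul, zpow_natCast, ← hπ, pow_orderOf_eq_one,
          one_zpow]
      rw [Subgroup.eq_of_le_of_card_ge h2 (by rw [Nat.card_zpowers, Nat.card_zpowers, h3, hπ])]
      exact Subgroup.mem_zpowers π
    obtain ⟨k, hk⟩ := mem_powers_iff_mem_zpowers.2 h1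
    refine hfree i hne ?_
    rw [← hk]
    clear hk h1
    induction k with
    | zero => rfl
    | succ k ih =>
      show (a ^ (k + 1)) i = i
      rw [pow_succ, Equiv.Perm.mul_apply, hi]
      exact ih
  let f : Γ → ℕ := fun γ => Fintype.card (MulAction.fixedBy I γ)
  let g : Γ → ℕ := fun γ =>
    if γ.1 = 1 then (if γ.2 = 1 then Fintype.card I else (Finset.univ.filter fun i => ε i = i).card) else 1
  have hfg : ∀ γ, f γ ≤ g γ := fun γ => by
    simp only [f, g]
    split_ifs with h1 h2
    · exact Fintype.card_subtype_le _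
    · rw [← Fintype.card_subtype]
      refine Fintype.card_le_of_injective (fun i => ⟨i.1, ?_⟩) fun i j e => Subtype.ext (congrArg Subtype.val e :)
      have hi : ((γ.1 : Equiv.Perm I) * γ.2) i.1 = i.1 := (hφ γ i.1).symm.trans i.2
      rw [h1, OneMemClass.coe_one, one_mul] at hi
      obtain ⟨⟨b, hb⟩, hb2⟩ : ∃ b : ↥(Subgroup.zpowers ε), b = γ.2 := ⟨_, rfl⟩
      have hbne : b ≠ 1 := fun e => h2 (by rw [← hb2]; exact Subtype.ext e)
      have hbi : b i.1 = i.1 := by rwa [← hb2] at hi
      obtain ⟨l, rfl⟩ := mem_powers_iff_mem_zpowers.2 hb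
      exact hεfree l hbne i.1 hbi
    · refine Fintype.card_le_one_iff.2 fun ⟨i, hi⟩ ⟨j, hj⟩ => ?_
      have hkey : ∀ x, x ∈ MulAction.fixedBy I γ → x = i₀ := fun x hx => by
        refine hpowfree ((γ.1 : Equiv.Perm I) ^ o) (pow_mem γ.1.2 o) ?_ x ?_
        · intro e
          apply h1
          have h4 : orderOf γ.1 ∣ o := orderOf_dvd_of_pow_eq_one (Subtype.ext (by simpa using e))
          have h5 : orderOf γ.1 ∣ r := by
            have := orderOf_dvd_natCard γ.1
            rwa [Nat.card_zpowers, hπ] at this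
          exact orderOf_eq_one_iff.1
            (Nat.eq_one_of_dvd_coprimes hro h5 h4)
        · have hcc : Commute (γ.1 : Equiv.Perm I) γ.2 := by
            obtain ⟨a, k, hk⟩ := γ.1
            obtain ⟨b, l, hl⟩ := γ.2
            simp only at hk hl ⊢
            rw [← hk, ← hl]; exact hc.zpow_zpow k l
          have h4 : ((γ.2 : Equiv.Perm I)) ^ o = 1 := by
            have := pow_card_eq_one' (x := γ.2)
            rw [Nat.card_zpowers, hε] at this
            simpa using congrArg Subtype.val this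
          have h5 : (((γ.1 : Equiv.Perm I) * γ.2) ^ o) x = x :=
            Equiv.Perm.pow_apply_eq_self_of_apply_eq_self ((hφ γ x).symm.trans hx) o
          rwa [hcc.mul_pow, h4, mul_one] at h5
      exact Subtype.ext ((hkey i hi).trans (hkey j hj).symm)
  have hg : ∑ γ, g γ = Fintype.card I + (o - 1) * (Finset.univ.filter fun i => ε i = i).card + (r - 1) * o := by
    rw [Fintype.sum_prod_type, Fintype.sum_eq_add_sum_compl (1 : ↥(Subgroup.zpowers π))]
    simp only [g, if_pos]
    rw [Fintype.sum_eq_add_sum_compl (1 : ↥(Subgroup.zpowers ε))]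
    simp only [if_pos]
    rw [Finset.sum_congr rfl (fun b hb => if_neg (show ¬ (b : ↥(Subgroup.zpowers ε)) = 1 by simpa using hb)),
      Finset.sum_congr rfl (fun a ha => Finset.sum_congr rfl fun b _ =>
        if_neg (show ¬ (a : ↥(Subgroup.zpowers π)) = 1 by simpa using ha))]
    simp only [Finset.sum_const, smul_eq_mul, mul_one, Finset.card_compl, Finset.card_singleton,
      Finset.card_univ, Fintype.card_zpowers, hπ, hε]
  have h := Nat.mul_le_mul_right (r * o) hRle
  rw [← hcard] at h ⊢
  rw [← key] at h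
  calc R.card * Fintype.card Γ ≤ ∑ γ, f γ := h
    _ ≤ ∑ γ, g γ := Finset.sum_le_sum fun γ _ => hfg γ
    _ = _ := hg

end Cfsg.Agent.TurullTwo
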