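import Cfsg.Agent.Lib.CoprimeHHS.Sector
import Mathlib.Algebra.CharP.Lemmas
import Mathlib.Algebra.Order.Chebyshev
import Mathlib.LinearAlgebra.Eigenspace.Basic

/-! Lower bounds for the dimension of the commutant of a pair of commuting operators of coprime orders. -/

set_option autoImplicit false

open Module Cfsg.Agent.CoprimeHHS

namespace Cfsg.Agent.TurullTwo

variable {K : Type*} [Field K] {W : Type*} [AddCommGroup W] [Module K W]

/-- The operators commuting with `D`. -/
def commutant (D : Module.End K W) : Submodule K (Module.End K W) where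
  carrier := {F | F * D = D * F}
  zero_mem' := by simp
  add_mem' {a b} ha hb := by
    show (a + b) * D = D * (a + b)
    rw [add_mul, mul_add, ha, hb]
  smul_mem' c a ha := by
    show (c • a) * D = D * (c • a)
    rw [smul_mul_assoc, mul_smul_comm, ha]

theorem mem_commutant {D F : Module.End K W} : F ∈ commutant D ↔ F * D = D * F := Iff.rfl

variable [FiniteDimensional K W]

theorem commutant_scalar {D : Module.End K W} (c : K) (hD : D = c • 1) :
    finrank K (commutant D) = finrank K W * finrank K W := by
  have h : commutant D = ⊤ := eq_top_iff.2 fun F _ => mem_commutant.2 (by simp [hD])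
  rw [h, finrank_top, Module.finrank_linearMap]

theorem min_two_le_commutant (D : Module.End K W) : min (finrank K W) 2 ≤ finrank K (commutant D) := by
  rcases Nat.eq_zero_or_pos (finrank K W) with h | h
  · simp [h]
  by_cases hD : ∃ c : K, D = c • 1
  · obtain ⟨c, hc⟩ := hD
    rw [commutant_scalar c hc]
    exact (min_le_left _ _).trans (Nat.le_mul_of_pos_left _ h)
  · push Not at hD
    have : Nontrivial W := Module.finrank_pos_iff.1 h
    have hind : LinearIndependent K (![(⟨1, mem_commutant.2 (by simp)⟩ : commutant D), ⟨D, rfl⟩]) := by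
      refine LinearIndependent.pair_iff.2 fun a b hab => ?_
      have h1 : a • (1 : Module.End K W) + b • D = 0 := congrArg Subtype.val hab
      by_cases hb : b = 0
      · subst hb
        rw [zero_smul, add_zero] at h1
        exact ⟨(smul_eq_zero.1 h1).resolve_right one_ne_zero, rfl⟩
      · exfalso
        refine hD (-(b⁻¹ * a)) ?_
        have h2 := congrArg (fun F : Module.End K W => b⁻¹ • F) h1
        simp only [smul_add, smul_smul, inv_mul_cancel₀ hb, one_smul, smul_zero] at h2
        rw [neg_smul]
        exact eq_neg_of_add_eq_zero_right h2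
    have := hind.fintype_card_le_finrank
    simp only [Fintype.card_fin] at this
    exact (min_le_right _ _).trans this

/-- A nilpotent operator of index at most `o` has a large kernel. -/
theorem finrank_le_mul_ker {A : Module.End K W} {o : ℕ} (h : A ^ o = 0) :
    finrank K W ≤ o * finrank K (LinearMap.ker A) := by
  have key : ∀ j, finrank K (LinearMap.ker (A ^ j)) ≤ j * finrank K (LinearMap.ker A) := by
    intro j
    induction j with
    | zero =>
      have h0 : LinearMap.ker (1 : Module.End K W) = ⊥ := LinearMap.ker_id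
      rw [pow_zero, h0, finrank_bot, Nat.zero_mul]
    | succ j ih =>
      let φ : LinearMap.ker (A ^ (j + 1)) →ₗ[K] LinearMap.ker A :=
        LinearMap.codRestrict _ ((A ^ j).comp (LinearMap.ker (A ^ (j + 1))).subtype) fun v => by
          rw [LinearMap.mem_ker, LinearMap.comp_apply, ← Module.End.mul_apply, ← pow_succ']
          exact LinearMap.mem_ker.1 v.2
      have h1 := φ.finrank_range_add_finrank_ker
      have h2 := Submodule.finrank_le (LinearMap.range φ)
      have h3 : finrank K (LinearMap.ker φ) ≤ finrank K (LinearMap.ker (A ^ j)) := by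
        let ψ : LinearMap.ker φ →ₗ[K] LinearMap.ker (A ^ j) :=
          LinearMap.codRestrict _ ((LinearMap.ker (A ^ (j + 1))).subtype.comp (LinearMap.ker φ).subtype)
            fun v => congrArg Subtype.val (LinearMap.mem_ker.1 v.2)
        refine LinearMap.finrank_le_finrank_of_injective (f := ψ) fun a b e => ?_
        exact Subtype.ext (Subtype.ext (congrArg Subtype.val e :))
      rw [Nat.succ_mul]
      omega
  have := key o
  rwa [h, LinearMap.ker_zero, finrank_top] at this

section split

variable {r : ℕ} {ζ : K} {X D : Module.End K W}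

omit [FiniteDimensional K W] in
theorem eigsp_invariant (hXD : X * D = D * X) (a : K) : ∀ v ∈ Sector.eigsp X a, D v ∈ Sector.eigsp X a := by
  intro v hv
  rw [Sector.mem_eigsp] at hv ⊢
  rw [← Module.End.mul_apply, hXD, Module.End.mul_apply, hv, map_smul]

/-- The restriction to an eigenspace of a commuting operator. -/
noncomputable def onEig (hXD : X * D = D * X) (a : K) : Module.End K (Sector.eigsp X a) :=
  D.restrict (eigsp_invariant hXD a)

/-- Gluing commuting operators on the eigenspaces. -/
theorem sum_commutant_le (hζ : IsPrimitiveRoot ζ r) (hr : 1 < r) (hrK : (r : K) ≠ 0) (hX : X ^ r = 1)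
    (hXD : X * D = D * X) :
    ∑ j ∈ Finset.range r, finrank K (commutant (onEig hXD (ζ ^ j))) ≤
      finrank K (commutant X ⊓ commutant D : Submodule K (Module.End K W)) := by
  rw [← Fin.sum_univ_eq_sum_range (fun j => finrank K (commutant (onEig hXD (ζ ^ j)))),
    ← Module.finrank_pi_fintype]
  have hD : ∀ j : ℕ, Sector.eproj r ζ X j * D = D * Sector.eproj r ζ X j := by
    intro j
    have hc : Commute X D := hXD
    simp only [Sector.eproj, smul_mul_assoc, Finset.sum_mul, mul_smul_comm, Finset.mul_sum, (hc.pow_left _).eq]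
  have hX' : ∀ j : ℕ, Sector.eproj r ζ X j * X = X * Sector.eproj r ζ X j := by
    intro j
    simp only [Sector.eproj, smul_mul_assoc, Finset.sum_mul, mul_smul_comm, Finset.mul_sum,
      (Commute.pow_self X _).eq]
  let π : (j : Fin r) → W →ₗ[K] Sector.eigsp X (ζ ^ (j : ℕ)) := fun j =>
    LinearMap.codRestrict _ (Sector.eproj r ζ X j) fun v => Sector.eproj_mem hζ (by omega) hX j v
  have hπ : ∀ j v, (π j v : W) = Sector.eproj r ζ X j v := fun j v => rfl
  let Φ : ((j : Fin r) → commutant (onEig hXD (ζ ^ (j : ℕ)))) →ₗ[K] Module.End K W :=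
    { toFun := fun g => ∑ j : Fin r, ((Sector.eigsp X (ζ ^ (j : ℕ))).subtype ∘ₗ
        (g j : Module.End K (Sector.eigsp X (ζ ^ (j : ℕ))))) ∘ₗ π j
      map_add' := fun g g' => by
        simp [LinearMap.comp_add, LinearMap.add_comp, Finset.sum_add_distrib]
      map_smul' := fun c g => by
        simp [LinearMap.comp_smul, LinearMap.smul_comp, Finset.smul_sum] }
  have hΦ : ∀ g v, Φ g v = ∑ j : Fin r,
      (((g j : Module.End K (Sector.eigsp X (ζ ^ (j : ℕ)))) (π j v)) : W) := fun g v => by
    simp [Φ, LinearMap.sum_apply]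
  have hmem : ∀ g, Φ g ∈ commutant X ⊓ commutant D := fun g => by
    refine ⟨mem_commutant.2 (LinearMap.ext fun v => ?_), mem_commutant.2 (LinearMap.ext fun v => ?_)⟩
    · simp only [Module.End.mul_apply, hΦ, map_sum]
      refine Finset.sum_congr rfl fun j _ => ?_
      have h1 : π j (X v) = (ζ ^ (j : ℕ)) • π j v := Subtype.ext (by
        rw [Submodule.coe_smul, hπ, hπ, ← Module.End.mul_apply, hX', Module.End.mul_apply]
        exact Sector.mem_eigsp.1 (Sector.eproj_mem hζ (by omega) hX j v))
      rw [h1, map_smul, Submodule.coe_smul, ← Sector.mem_eigsp.1 ((g j : Module.End K _) (π j v)).2]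
    · simp only [Module.End.mul_apply, hΦ, map_sum]
      refine Finset.sum_congr rfl fun j _ => ?_
      have h1 : π j (D v) = onEig hXD (ζ ^ (j : ℕ)) (π j v) := Subtype.ext (by
        show _ = D (π j v : W)
        rw [hπ, hπ, ← Module.End.mul_apply, hD, Module.End.mul_apply])
      rw [h1, ← Module.End.mul_apply, mem_commutant.1 (g j).2, Module.End.mul_apply]
      rfl
  refine LinearMap.finrank_le_finrank_of_injective (f := LinearMap.codRestrict _ Φ hmem)
    ((injective_iff_map_eq_zero _).2 fun g hg => ?_)
  have hg0 : Φ g = 0 := congrArg Subtype.val hg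
  refine funext fun j => Subtype.ext (LinearMap.ext fun w => Subtype.ext ?_)
  have h1 := congrArg (fun F : Module.End K W => F (w : W)) hg0
  simp only [hΦ, LinearMap.zero_apply] at h1
  rw [Finset.sum_eq_single j] at h1
  · rwa [show π j (w : W) = w from Subtype.ext (by
      rw [hπ, Sector.eproj_apply_mem hζ hrK j.2 j.2 w.2, if_pos rfl])] at h1
  · intro k _ hk
    rw [show π k (w : W) = 0 from Subtype.ext (by
      rw [hπ, Sector.eproj_apply_mem hζ hrK k.2 j.2 w.2, if_neg fun h => hk (Fin.ext h)]; rfl), map_zero]
    rfl
  · intro h; exact absurd (Finset.mem_univ _) h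

theorem finrank_eigsp_sum (hζ : IsPrimitiveRoot ζ r) (hr : 1 < r) (hrK : (r : K) ≠ 0) (hX : X ^ r = 1) :
    ∑ j ∈ Finset.range r, finrank K (Sector.eigsp X (ζ ^ j)) = finrank K W := by
  have h := Sector.finrank_eq_sum hζ hr hrK hX (C := (⊤ : Submodule K W)) (fun _ _ => trivial)
  rw [finrank_top] at h
  rw [h]
  refine Finset.sum_congr rfl fun j _ => ?_
  rw [inf_top_eq]

end split

/-- An operator with a scalar power of prime exponent `o` commutes with a subspace of codimension index `o`. -/
theorem sq_le_mul_commutant [IsAlgClosed K] {D : Module.End K W} {o : ℕ} (ho : o.Prime) {lam : K}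
    (hlam : lam ≠ 0) (hD : D ^ o = lam • 1) :
    finrank K W * finrank K W ≤ o * finrank K (commutant D) := by
  classical
  obtain ⟨μ, hμ⟩ := IsAlgClosed.exists_pow_nat_eq lam ho.pos
  have hμ0 : μ ≠ 0 := by rintro rfl; rw [zero_pow ho.ne_zero] at hμ; exact hlam hμ.symm
  set D' := μ⁻¹ • D with hD'
  have hD'o : D' ^ o = 1 := by
    rw [hD', smul_pow, hD, smul_smul, inv_pow, hμ, inv_mul_cancel₀ hlam, one_smul]
  have hcom : commutant D' = commutant D := by
    ext F
    rw [mem_commutant, mem_commutant, hD', mul_smul_comm, smul_mul_assoc,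
      (smul_right_injective (Module.End K W) (inv_ne_zero hμ0)).eq_iff]
  rw [← hcom]
  by_cases hoK : (o : K) = 0
  · -- the unipotent case
    have := Fact.mk ho
    have : CharP K o := (CharP.charP_iff_prime_eq_zero ho).2 hoK
    have : ExpChar K o := ExpChar.prime ho
    let Ad : Module.End K (Module.End K W) :=
      LinearMap.mulLeft K D' * LinearMap.mulRight K (D' ^ (o - 1))
    have hD'inv : D' ^ (o - 1) * D' = 1 := by rw [← pow_succ, Nat.sub_add_cancel ho.one_le, hD'o]
    have hinvD' : D' * D' ^ (o - 1) = 1 := by rw [← pow_succ', Nat.sub_add_cancel ho.one_le, hD'o]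
    have hAdo : Ad ^ o = 1 := by
      rw [show Ad = LinearMap.mulLeft K D' * LinearMap.mulRight K (D' ^ (o - 1)) from rfl,
        Commute.mul_pow (LinearMap.ext fun F => by simp [mul_assoc]) o, LinearMap.pow_mulLeft,
        LinearMap.pow_mulRight, hD'o, pow_right_comm, hD'o, one_pow]
      exact LinearMap.ext fun F => by simp
    have hnil : (Ad - 1) ^ o = 0 := by
      rcases subsingleton_or_nontrivial (Module.End K (Module.End K W)) with hs | hn
      · exact Subsingleton.elim _ _
      have : CharP (Module.End K (Module.End K W)) o := charP_of_injective_algebraMap' K o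
      rw [sub_pow_char_of_commute (p := o) (h := Commute.one_right Ad), hAdo, one_pow, sub_self]
    refine (le_of_eq (Module.finrank_linearMap (R := K) (S := K) (M := W) (N := W)).symm).trans ((finrank_le_mul_ker hnil).trans ?_)
    refine Nat.mul_le_mul_left _ (Submodule.finrank_mono fun F hF => ?_)
    rw [LinearMap.mem_ker, LinearMap.sub_apply, Module.End.one_apply, sub_eq_zero] at hF
    rw [mem_commutant]
    conv_lhs => rw [← hF]
    show D' * (F * D' ^ (o - 1)) * D' = D' * F
    rw [mul_assoc, mul_assoc F, hD'inv, mul_one]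
  · -- the semisimple case
    have := NeZero.mk hoK
    obtain ⟨ζ, hζ⟩ := HasEnoughRootsOfUnity.exists_primitiveRoot K o
    have hsum := finrank_eigsp_sum hζ ho.one_lt hoK hD'o
    have hle := sum_commutant_le (D := D') hζ ho.one_lt hoK hD'o rfl
    rw [inf_idem] at hle
    have hsc : ∀ j, finrank K (commutant (onEig (X := D') (D := D') rfl (ζ ^ j))) =
        finrank K (Sector.eigsp D' (ζ ^ j)) ^ 2 := fun j => by
      rw [sq]
      exact commutant_scalar (ζ ^ j) (LinearMap.ext fun v => Subtype.ext (Sector.mem_eigsp.1 v.2))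
    simp only [hsc] at hle
    have hcs := sq_sum_le_card_mul_sum_sq (s := Finset.range o) (f := fun j => finrank K (Sector.eigsp D' (ζ ^ j)))
    rw [hsum, Finset.card_range, sq] at hcs
    exact le_trans hcs (Nat.mul_le_mul_left _ hle)

end Cfsg.Agent.TurullTwo
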