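import Cfsg.Agent.Lib.TurullTwo.Count

/-! The eigenvalue estimate: modulo the scalars an automorphism of order coprime to `r` commuting with a fixed
point free one of order `r`, and fixing its fixed vectors, is trivial or the inversion. -/

set_option autoImplicit false

open Module Cfsg.Agent.CoprimeHHS
open scoped commutatorElement

namespace Cfsg.Agent.TurullTwo

theorem pow_of_fixed {I : Type*} [Mul I] (f : MulAut I) {i : I} (h : f i = i) : ∀ n : ℕ, (f ^ n) i = i
  | 0 => rfl
  | n + 1 => by rw [pow_succ, MulAut.mul_apply, h, pow_of_fixed f h n]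

theorem qAut_pow {Q : Type*} [Group Q] {S : Subgroup Q} [S.Normal] {α : MulAut Q} (π : MulAut (Q ⧸ S))
    (hπ : ∀ t : Q, π t = (α t : Q)) : ∀ (n : ℕ) (t : Q), (π ^ n) t = ((α ^ n) t : Q)
  | 0, t => rfl
  | n + 1, t => by rw [pow_succ, MulAut.mul_apply, hπ, qAut_pow π hπ n, pow_succ α, MulAut.mul_apply]

theorem free_bound {e r o : ℕ} (he : 2 ≤ e) (hr : 1 ≤ r) (ho : 1 ≤ o)
    (h : e * (r * o) ≤ e * e + (o - 1) + (r - 1) * o) : r * o ≤ e + 1 := by
  obtain ⟨e, rfl⟩ := Nat.exists_eq_add_of_le he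
  obtain ⟨r, rfl⟩ := Nat.exists_eq_add_of_le hr
  obtain ⟨o, rfl⟩ := Nat.exists_eq_add_of_le ho
  rw [Nat.add_sub_cancel_left, Nat.add_sub_cancel_left] at h
  by_contra hgt
  have h1 : (e + 1) * (2 + e + 2) ≤ (e + 1) * ((1 + r) * (1 + o)) := Nat.mul_le_mul_left _ (by omega)
  nlinarith

theorem prime_bound {M r o R F a : ℕ} (hr : 1 ≤ r) (ho : 2 ≤ o) (h1 : (o - 1) * (a * a) + (M + 1) ≤ o * R)
    (h2 : R * (r * o) ≤ r * M + 1 + (o - 1) * F + (r - 1) * o) : r * a * a + 1 ≤ r + F := by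
  obtain ⟨r, rfl⟩ := Nat.exists_eq_add_of_le hr
  obtain ⟨o, rfl⟩ := Nat.exists_eq_add_of_le ho
  rw [Nat.add_sub_cancel_left] at h2
  rw [show 2 + o - 1 = o + 1 by omega] at h1 h2
  have h3 := Nat.mul_le_mul_left (1 + r) h1
  refine (Nat.mul_le_mul_left_iff (Nat.succ_pos o)).1 ?_
  linarith

theorem onEig_pow {K : Type*} [Field K] {W : Type*} [AddCommGroup W] [Module K W] [FiniteDimensional K W]
    {X D : Module.End K W} (h : X * D = D * X) (a : K) :
    ∀ (n : ℕ) (v : Sector.eigsp X a), (((onEig h a) ^ n) v : W) = (D ^ n) (v : W)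
  | 0, v => rfl
  | n + 1, v => by
    rw [pow_succ', Module.End.mul_apply, pow_succ' D, Module.End.mul_apply, ← onEig_pow h a n]
    rfl

variable {K : Type*} [Field K] [IsAlgClosed K] {W : Type*} [AddCommGroup W] [Module K W]
  [FiniteDimensional K W] [Nontrivial W] {Q : Type*} [Group Q] [Finite Q] {ρ : Q →* Module.End K W}
  {S : Subgroup Q} {μ : Q → K}

set_option maxHeartbeats 2000000 in
/-- The dichotomy for a pair of operators. -/
theorem pair_cases (h : Frame ρ S μ) [S.Normal] {θ δ : MulAut Q} (hθ : Twist S μ θ) (hδ : Twist S μ δ)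
    (hθδ : θ * δ = δ * θ) {r : ℕ} (hr : r.Prime) (hrK : (r : K) ≠ 0) {G D : Module.End K W}
    (hP : Pair ρ θ δ r G D) (hθr : θ ^ r = 1) (hfree : ∀ t, t⁻¹ * θ t ∈ S → t ∈ S) {o : ℕ}
    (hδo : δ ^ o = 1) (hro : r.Coprime o) (hno : o.Coprime S.index) :
    (∀ t, t⁻¹ * δ t ∈ S) ∨ ((∃ v, v ≠ 0 ∧ G v = v) ∧ ∀ t, t * δ t ∈ S) := by
  classical
  by_cases hS : S = ⊤
  · exact Or.inl fun t => hS ▸ Subgroup.mem_top _
  set π : MulAut (Q ⧸ S) := QuotientGroup.congr S S θ hθ.map_eq with hπdef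
  set ε : MulAut (Q ⧸ S) := QuotientGroup.congr S S δ hδ.map_eq with hεdef
  have hπ : ∀ t : Q, π t = (θ t : Q) := fun t => rfl
  have hε : ∀ t : Q, ε t = (δ t : Q) := fun t => rfl
  have hfpf : ∀ i, π i = i → i = 1 := fun i hi => by
    obtain ⟨t, rfl⟩ := QuotientGroup.mk_surjective i
    rw [hπ, eq_comm, QuotientGroup.eq] at hi
    exact (QuotientGroup.eq_one_iff t).2 (hfree t hi)
  have hπe : π ^ r = 1 := MulEquiv.ext fun i => by
    obtain ⟨t, rfl⟩ := QuotientGroup.mk_surjective i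
    rw [qAut_pow π hπ, hθr]; rfl
  obtain ⟨t₀, ht₀⟩ : ∃ t, t ∉ S := by
    by_contra hc; push Not at hc; exact hS (eq_top_iff.2 fun t _ => hc t)
  have := Fact.mk hr
  have hπr : orderOf π = r := orderOf_eq_prime hπe fun e => ht₀ ((QuotientGroup.eq_one_iff t₀).1
    (hfpf _ (by rw [e]; rfl)))
  have hπε : π * ε = ε * π := MulEquiv.ext fun i => by
    obtain ⟨t, rfl⟩ := QuotientGroup.mk_surjective i
    show π (ε t) = ε (π t)
    rw [hε, hπ, hπ, hε, ← MulAut.mul_apply, hθδ, MulAut.mul_apply]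
  have hεo : ε ^ o = 1 := MulEquiv.ext fun i => by
    obtain ⟨t, rfl⟩ := QuotientGroup.mk_surjective i
    rw [qAut_pow ε hε, hδo]; rfl
  have hord : orderOf ε ∣ o := orderOf_dvd_of_pow_eq_one hεo
  have hfix1 : fixed π = ⊥ := (Subgroup.eq_bot_iff_forall _).2 fun i hi => hfpf i hi
  -- the dimension
  have hI : Nat.card (Q ⧸ S) = finrank K W * finrank K W := by
    have := Fintype.ofFinite (Q ⧸ S)
    obtain ⟨b, -⟩ := h.exists_basis
    rw [← Module.finrank_linearMap (R := K) (S := K) (M := W) (N := W), finrank_eq_card_basis b,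
      Nat.card_eq_fintype_card]
  set e := finrank K W with he
  have hmod : Nat.card (Q ⧸ S) ≡ 1 [MOD r] := by
    have := card_modEq_fixed hr π hπe
    rwa [hfix1, Subgroup.card_bot] at this
  have hn1 : 1 < Nat.card (Q ⧸ S) := by
    have : Nontrivial (Q ⧸ S) := ⟨⟨t₀, 1, fun e => ht₀ ((QuotientGroup.eq_one_iff t₀).1 e)⟩⟩
    exact Finite.one_lt_card
  obtain ⟨M, hM⟩ := (Nat.modEq_iff_dvd' hn1.le).1 hmod.symm
  have heM : e * e = r * M + 1 := by omega
  have he2 : 2 ≤ e := by
    by_contra hc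
    have : e * e ≤ 1 * 1 := Nat.mul_le_mul (by omega) (by omega)
    omega
  -- the multiplicities
  have := NeZero.mk hrK
  obtain ⟨ζ, hζ⟩ := HasEnoughRootsOfUnity.exists_primitiveRoot K r
  set m : ℕ → ℕ := fun j => finrank K (Sector.eigsp G (ζ ^ j)) with hm
  have hsum : ∑ j ∈ Finset.range r, m j = e := finrank_eigsp_sum hζ hr.one_lt hrK hP.pow
  have hsq : ∑ j ∈ Finset.range r, m j ^ 2 = M + 1 := by
    refine le_antisymm ?_ ?_
    · have hP1 : Pair ρ θ 1 r G 1 :=
        ⟨hP.pow, by simp, fun _ _ e => e, hP.conjG, fun t => by simp, fun _ _ => rfl⟩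
      have hc := comm_le_orbits h hP1 hr π 1 hπ (fun t => rfl) hπr (by simp) hfpf
        (fun l hl => absurd (one_pow l) hl) (by simp)
      have hle := sum_commutant_le hζ hr.one_lt hrK hP.pow hP1.comm
      have hone : ∀ j, finrank K (commutant (onEig hP1.comm (ζ ^ j))) = m j ^ 2 := fun j => by
        rw [sq]
        exact commutant_scalar 1 (LinearMap.ext fun v => Subtype.ext (one_smul K (v : W)).symm)
      simp only [hone] at hle
      simp only [orderOf_one, Nat.sub_self, Nat.zero_mul, Nat.add_zero, mul_one] at hc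
      have h2 := (Nat.mul_le_mul_right r hle).trans hc
      by_contra hlt
      have h3 := Nat.mul_le_mul_right r (show M + 2 ≤ ∑ j ∈ Finset.range r, m j ^ 2 by omega)
      rw [Nat.add_mul, mul_comm M r] at h3
      have := hr.two_le
      omega
    · have hcs := sq_sum_le_card_mul_sum_sq (s := Finset.range r) (f := m)
      rw [hsum, Finset.card_range] at hcs
      simp only [Nat.cast_id, sq] at hcs ⊢
      by_contra hlt
      have h3 := Nat.mul_le_mul_left r (show ∑ j ∈ Finset.range r, m j * m j ≤ M by omega)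
      omega
  have h0r : 0 ∈ Finset.range r := Finset.mem_range.2 hr.pos
  have hb0 := mult_bound (Finset.range r) m hr.two_le (Finset.card_range r) hsum hsq heM h0r
  -- powers
  have hεj : ∀ (j : ℕ) (t : Q), (ε ^ j) t = ((δ ^ j) t : Q) := qAut_pow ε hε
  have hcj : ∀ j : ℕ, π * ε ^ j = ε ^ j * π := fun j => ((show Commute π ε from hπε).pow_right j).eq
  have hroj : ∀ j : ℕ, r.Coprime (orderOf (ε ^ j)) := fun j =>
    Nat.Coprime.coprime_dvd_right ((orderOf_pow_dvd j).trans hord) hro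
  have hfree2 : ∀ j, (∀ l : ℕ, (ε ^ j) ^ l ≠ 1 → ∀ i, ((ε ^ j) ^ l) i = i → (ε ^ j) i = i) →
      (∀ i, (ε ^ j) i = i → i = 1) → 2 ≤ orderOf (ε ^ j) → m 0 ≤ 1 → m 0 = 1 ∧ orderOf (ε ^ j) = 2 := by
    intro j hεf hF ho hm0
    have hPj := hP.powD j
    have hc := comm_le_orbits h hPj hr π (ε ^ j) hπ (hεj j) hπr (hcj j) hfpf hεf (hroj j)
    have hle := sum_commutant_le hζ hr.one_lt hrK hP.pow hPj.comm
    have hm2 : ∀ k ∈ Finset.range r, m k ≤ 2 := fun k hk => by
      have := (mult_bound (Finset.range r) m hr.two_le (Finset.card_range r) hsum hsq heM hk).2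
      by_contra hc
      have h3 : r * 3 ≤ r * m k := Nat.mul_le_mul_left r (by omega)
      have h1 : r * m 0 ≤ r * 1 := Nat.mul_le_mul_left r hm0
      omega
    have hge : e ≤ finrank K (commutant G ⊓ commutant (D ^ j) : Submodule K (Module.End K W)) := by
      rw [← hsum]
      refine le_trans (Finset.sum_le_sum fun k hk => ?_) hle
      exact le_trans (le_min le_rfl (hm2 k hk)) (min_two_le_commutant _)
    have hF1 : fixed (ε ^ j) = ⊥ := (Subgroup.eq_bot_iff_forall _).2 fun i hi => hF i hi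
    have h4 := (Nat.mul_le_mul_right (r * orderOf (ε ^ j)) hge).trans hc
    rw [hF1, Subgroup.card_bot, mul_one, hI] at h4
    set o' := orderOf (ε ^ j) with ho'
    have hro1 : r * o' ≤ e + 1 := free_bound he2 hr.one_le (by omega) h4
    have h5 : r * m 0 ≤ r * 1 := Nat.mul_le_mul_left r hm0
    refine ⟨?_, ?_⟩
    · by_contra hc0
      have h6 : m 0 = 0 := by omega
      have h7 : r * 2 ≤ r * o' := Nat.mul_le_mul_left r ho
      rw [h6] at hb0
      omega
    · by_contra ho2
      have h7 : r * 3 ≤ r * o' := Nat.mul_le_mul_left r (by omega)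
      have := hr.two_le
      omega
  -- elements of prime order
  have hprime : ∀ j, (orderOf (ε ^ j)).Prime →
      orderOf (ε ^ j) = 2 ∧ (∀ i, (ε ^ j) i = i → i = 1) ∧ m 0 = 1 := by
    intro j hp
    set o' := orderOf (ε ^ j) with ho'
    have hεf : ∀ l : ℕ, (ε ^ j) ^ l ≠ 1 → ∀ i, ((ε ^ j) ^ l) i = i → (ε ^ j) i = i := by
      intro l hl i hi
      have hcop : o'.Coprime l := hp.coprime_iff_not_dvd.2 fun hd => hl (orderOf_dvd_iff_pow_eq_one.1 hd)
      obtain ⟨a, ha⟩ := exists_pow_eq_self_of_coprime (x := ε ^ j) hcop.symm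
      rw [← ha]
      exact pow_of_fixed _ hi a
    have hPj := hP.powD j
    have hc := comm_le_orbits h hPj hr π (ε ^ j) hπ (hεj j) hπr (hcj j) hfpf hεf (hroj j)
    have hle := sum_commutant_le hζ hr.one_lt hrK hP.pow hPj.comm
    rw [← ho'] at hc
    obtain ⟨lam, hlam⟩ : ∃ lam : K, (D ^ j) ^ o' = lam • 1 := by
      refine conj_scalar h ((hδ.pow j).pow o') hθ (fun t => ?_) hfree (fun t => ?_) (conj_pow hPj.conjD o')
      · have h1 : Commute θ ((δ ^ j) ^ o') := ((show Commute θ δ from hθδ).pow_right j).pow_right o'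
        exact (congrArg (fun f : MulAut Q => f t) h1.eq).symm
      · rw [← QuotientGroup.eq, ← qAut_pow (ε ^ j) (hεj j), ho', pow_orderOf_eq_one]
        rfl
    have hlam0 : lam ≠ 0 := fun e0 => by
      obtain ⟨v, hv⟩ := exists_ne (0 : W)
      have hi : Function.Injective ⇑((D ^ j) ^ o') := by rw [Module.End.coe_pow]; exact hPj.inj.iterate _
      exact hv (hi (by rw [hlam, e0, zero_smul]; rfl))
    have hk : ∀ k, finrank K (Sector.eigsp G (ζ ^ k)) * finrank K (Sector.eigsp G (ζ ^ k)) ≤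
        o' * finrank K (commutant (onEig hPj.comm (ζ ^ k))) := fun k => by
      refine sq_le_mul_commutant hp hlam0 (LinearMap.ext fun v => Subtype.ext ?_)
      rw [onEig_pow, hlam]
      rfl
    have h0 : finrank K (commutant (onEig hPj.comm (ζ ^ 0))) = m 0 * m 0 := by
      refine commutant_scalar 1 (LinearMap.ext fun v => Subtype.ext ?_)
      have hv : G v = (v : W) := by
        have := Sector.mem_eigsp.1 v.2
        simpa using this
      show (D ^ j) (v : W) = (1 : K) • (v : W)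
      rw [one_smul]
      exact hPj.fix _ hv
    set R := finrank K (commutant G ⊓ commutant (D ^ j) : Submodule K (Module.End K W)) with hR
    have hRle : (o' - 1) * (m 0 * m 0) + (M + 1) ≤ o' * R := by
      refine le_trans ?_ (Nat.mul_le_mul_left o' hle)
      rw [← hsq, Finset.mul_sum, ← Finset.add_sum_erase _ _ h0r, ← Finset.add_sum_erase _ _ h0r, h0, sq,
        ← Nat.add_assoc, ← Nat.succ_mul, Nat.succ_eq_add_one, Nat.sub_add_cancel hp.one_le]
      exact Nat.add_le_add_left (Finset.sum_le_sum fun k _ => (sq (m k)).trans_le (hk k)) _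
    set F := Nat.card (fixed (ε ^ j)) with hF
    have hsq' : r * m 0 * m 0 + 1 ≤ r + F := by
      refine prime_bound hr.one_le hp.two_le hRle ?_
      rwa [hI, heM] at hc
    -- the fixed points
    have hFmod : F ≡ 1 [MOD r] := by
      have hinv : Inv π (fixed (ε ^ j)) := fun i hi => by
        show (ε ^ j) (π i) = π i
        rw [← MulAut.mul_apply, ← hcj j, MulAut.mul_apply, mem_fixed.1 hi]
      have h1 := card_modEq_fixed hr hinv.aut
        (MulEquiv.ext fun x => Subtype.ext (by rw [Inv.aut_pow_apply, hπe]; rfl))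
      rwa [show fixed hinv.aut = ⊥ from (Subgroup.eq_bot_iff_forall _).2 fun x hx =>
        Subtype.ext (hfpf x (congrArg Subtype.val hx)), Subgroup.card_bot] at h1
    suffices hF1 : F = 1 by
      have hFbot := Subgroup.card_eq_one.1 hF1
      have hfix : ∀ i, (ε ^ j) i = i → i = 1 := fun i hi =>
        Subgroup.mem_bot.1 (hFbot.le (show i ∈ fixed (ε ^ j) from hi))
      have hm0 : m 0 ≤ 1 := by
        by_contra hc0
        have := Nat.mul_le_mul (Nat.mul_le_mul_left r (show 2 ≤ m 0 by omega)) (show 2 ≤ m 0 by omega)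
        have := hr.two_le
        omega
      obtain ⟨h1, h2⟩ := hfree2 j hεf hfix hp.two_le hm0
      exact ⟨h2, hfix, h1⟩
    by_contra hFne
    -- the image of the commutation
    have hcI : ∀ x y : Q ⧸ S, x * y = y * x := fun x y => by
      induction x using QuotientGroup.induction_on with
      | H x =>
      induction y using QuotientGroup.induction_on with
      | H y =>
      rw [← commutatorElement_eq_one_iff_mul_comm]
      exact (QuotientGroup.eq_one_iff _).2 (h.comm x y)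
    let φ : Q ⧸ S →* Q ⧸ S :=
      { toFun := fun i => i⁻¹ * (ε ^ j) i
        map_one' := by simp
        map_mul' := fun x y => by
          rw [map_mul, mul_inv_rev, hcI y⁻¹ x⁻¹, mul_assoc, ← mul_assoc y⁻¹, hcI y⁻¹ ((ε ^ j) x), mul_assoc,
            mul_assoc] }
    have hker : φ.ker = fixed (ε ^ j) := Subgroup.ext fun i => by
      rw [MonoidHom.mem_ker, mem_fixed]
      show i⁻¹ * (ε ^ j) i = 1 ↔ _
      rw [inv_mul_eq_one, eq_comm]
    set C := Nat.card φ.range with hC
    have hFC : F * C = e * e := by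
      rw [hF, hC, ← hker, ← Subgroup.index_ker, Subgroup.card_mul_index, hI]
    have hCmod : C ≡ 1 [MOD r] := by
      have h1 : F * C ≡ 1 [MOD r] := by rw [hFC, ← hI]; exact hmod
      have h2 : F * C ≡ 1 * C [MOD r] := hFmod.mul_right C
      rw [one_mul] at h2
      exact h2.symm.trans h1
    have hC1 : C ≠ 1 := fun e1 => by
      have h1 : φ.range = ⊥ := Subgroup.card_eq_one.1 e1
      refine hp.ne_one ?_
      rw [ho', orderOf_eq_one_iff]
      refine MulEquiv.ext fun i => ?_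
      have h2 : φ i = 1 := Subgroup.mem_bot.1 (h1.le ⟨i, rfl⟩)
      exact (inv_mul_eq_one.1 h2).symm
    have hk1 : ∀ {x : ℕ}, x ≡ 1 [MOD r] → 1 < x → ∃ k, x = r * (k + 1) + 1 := fun {x} hx hx1 => by
      obtain ⟨k, hk⟩ := (Nat.modEq_iff_dvd' hx1.le).1 hx.symm
      rcases k with _ | k
      · omega
      · exact ⟨k, by omega⟩
    have hCr := arith_moved hr heM hFC (hk1 hFmod (lt_of_le_of_ne Nat.card_pos (Ne.symm hFne)))
      (hk1 hCmod (lt_of_le_of_ne Nat.card_pos (Ne.symm hC1))) hb0.1 hsq'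
    -- `ε ^ j` fixes the image
    have hπφ : ∀ i, π (φ i) = φ (π i) := fun i => by
      show π (i⁻¹ * (ε ^ j) i) = (π i)⁻¹ * (ε ^ j) (π i)
      rw [map_mul, map_inv]
      exact congrArg (_ * ·) (congrArg (fun f : MulAut (Q ⧸ S) => f i) (hcj j))
    have hεfix : ∀ a ∈ φ.range, (ε ^ j) a = a := by
      rintro a ha
      by_cases ha1 : a = 1
      · rw [ha1, map_one]
      have hmem : ∀ l : ℕ, (π ^ l) a ∈ φ.range := fun l => by
        induction l with
        | zero => exact ha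
        | succ l ih =>
          obtain ⟨x, hx⟩ := ih
          refine ⟨π x, ?_⟩
          rw [← hπφ, hx, pow_succ', MulAut.mul_apply]
      have hεmem : (ε ^ j) a ∈ φ.range := by
        obtain ⟨x, rfl⟩ := ha
        exact ⟨(ε ^ j) x, by show _ = (ε ^ j) (x⁻¹ * (ε ^ j) x); rw [map_mul, map_inv]; rfl⟩
      let f : Option (Fin r) → φ.range :=
        fun l => match l with | none => 1 | some l => ⟨(π ^ (l : ℕ)) a, hmem l⟩
      have hreg : ∀ l : ℕ, ¬ r ∣ l → (π ^ l) a ≠ a := fun l hl e1 => by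
        have hcop : l.Coprime r := ((hr.coprime_iff_not_dvd).2 hl).symm
        obtain ⟨b, hb⟩ := exists_pow_eq_self_of_coprime (x := π) (hπr ▸ hcop)
        exact ha1 (hfpf a (by rw [← hb]; exact pow_of_fixed _ e1 b))
      have hf : Function.Injective f := by
        rintro (_ | l) (_ | l') e1
        · rfl
        · exact absurd ((map_eq_one_iff _ (π ^ (l' : ℕ)).injective).1 (congrArg Subtype.val e1).symm) ha1
        · exact absurd ((map_eq_one_iff _ (π ^ (l : ℕ)).injective).1 (congrArg Subtype.val e1)) ha1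
        · have e2 : (π ^ (l : ℕ)) a = (π ^ (l' : ℕ)) a := congrArg Subtype.val e1
          by_contra hne
          have hne' : (l : ℕ) ≠ l' := fun e => hne (by rw [Fin.ext e])
          rcases Nat.lt_or_gt_of_ne hne' with hlt | hlt
          · refine hreg (l' - l) (fun hd => ?_) ((π ^ (l : ℕ)).injective ?_)
            · have := Nat.le_of_dvd (by omega) hd; omega
            · rw [← MulAut.mul_apply, ← pow_add, Nat.add_sub_cancel' hlt.le, e2]
          · refine hreg (l - l') (fun hd => ?_) ((π ^ (l' : ℕ)).injective ?_)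
            · have := Nat.le_of_dvd (by omega) hd; omega
            · rw [← MulAut.mul_apply, ← pow_add, Nat.add_sub_cancel' hlt.le, e2]
      have hbij := (Nat.bijective_iff_injective_and_card f).2 ⟨hf, by
        rw [Nat.card_eq_fintype_card, Fintype.card_option, Fintype.card_fin, ← hC, hCr]⟩
      obtain ⟨(_ | l), hl⟩ := hbij.2 ⟨(ε ^ j) a, hεmem⟩
      · exact absurd ((map_eq_one_iff _ (ε ^ j).injective).1 (congrArg Subtype.val hl).symm) ha1
      have hl' : (π ^ (l : ℕ)) a = (ε ^ j) a := congrArg Subtype.val hl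
      have hit : ∀ n : ℕ, ((ε ^ j) ^ n) a = (π ^ ((l : ℕ) * n)) a := fun n => by
        induction n with
        | zero => rfl
        | succ n ih =>
          rw [pow_succ, MulAut.mul_apply, ← hl', ← MulAut.mul_apply,
            ← (((show Commute π (ε ^ j) from hcj j).pow_left (l : ℕ)).pow_right n).eq, MulAut.mul_apply, ih,
            ← MulAut.mul_apply, ← pow_add, Nat.mul_succ, Nat.add_comm]
      have h2 := hit o'
      rw [ho', pow_orderOf_eq_one, MulAut.one_apply] at h2
      have hl0 : (l : ℕ) = 0 := by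
        by_contra hl0
        refine hreg _ (fun hd => ?_) h2.symm
        rcases hr.dvd_mul.1 hd with hd | hd
        · exact absurd (Nat.le_of_dvd (by omega) hd) (not_le.2 l.2)
        · exact hr.ne_one (Nat.eq_one_of_dvd_coprimes (hroj j) dvd_rfl hd)
      rw [← hl', hl0]
      rfl
    refine hp.ne_one ?_
    rw [ho', orderOf_eq_one_iff]
    refine MulEquiv.ext fun i => ?_
    set y := i⁻¹ * (ε ^ j) i with hy
    have hyf : (ε ^ j) y = y := hεfix y ⟨i, rfl⟩
    have hiy : ∀ n : ℕ, ((ε ^ j) ^ n) i = i * y ^ n := fun n => by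
      induction n with
      | zero => simp
      | succ n ih =>
        rw [pow_succ', MulAut.mul_apply, ih, map_mul, map_pow, hyf, hy, pow_succ', ← mul_assoc i, ← mul_assoc i,
          mul_inv_cancel, one_mul]
    have h3 := hiy o'
    rw [ho', pow_orderOf_eq_one, MulAut.one_apply, left_eq_mul] at h3
    have h4 := pow_gcd_eq_one.2 ⟨h3, pow_card_eq_one' (x := y)⟩
    have hcop : (orderOf (ε ^ j)).Coprime (Nat.card (Q ⧸ S)) := by
      rw [← Subgroup.index_eq_card]
      exact Nat.Coprime.coprime_dvd_left ((orderOf_pow_dvd j).trans hord) hno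
    rw [hcop, pow_one] at h4
    exact (inv_mul_eq_one.1 h4).symm
  -- conclusion
  by_cases hε1 : ε = 1
  · refine Or.inl fun t => (QuotientGroup.eq (s := S)).1 ?_
    rw [← hε, hε1]; rfl
  have ho1 : orderOf ε ≠ 1 := fun e1 => hε1 (orderOf_eq_one_iff.1 e1)
  have hop : 0 < orderOf ε := orderOf_pos ε
  have hord' : ∀ l, l ∣ orderOf ε → orderOf (ε ^ (orderOf ε / l)) = l := fun l hl => by
    rw [orderOf_pow, Nat.gcd_eq_right (Nat.div_dvd_of_dvd hl), Nat.div_div_self hl hop.ne']
  have hl2 : ∀ l, l.Prime → l ∣ orderOf ε →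
      l = 2 ∧ (∀ i, (ε ^ (orderOf ε / l)) i = i → i = 1) ∧ m 0 = 1 := fun l hlp hl => by
    obtain ⟨h1, h2⟩ := hprime (orderOf ε / l) ((hord' l hl).symm ▸ hlp)
    exact ⟨(hord' l hl).symm.trans h1, h2⟩
  obtain ⟨l, hlp, hl⟩ := Nat.exists_prime_and_dvd ho1
  obtain ⟨rfl, hfix2, hm1⟩ := hl2 l hlp hl
  have hno4 : ¬ 4 ∣ orderOf ε := fun h4 => by
    have hj : orderOf (ε ^ (orderOf ε / 4)) = 4 := hord' 4 h4
    have hsqr : (ε ^ (orderOf ε / 4)) ^ 2 = ε ^ (orderOf ε / 2) := by
      rw [← pow_mul]; congr 1; omega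
    have hred : ∀ l i, ((ε ^ (orderOf ε / 4)) ^ l) i = i → (ε ^ (orderOf ε / 4)) ^ l ≠ 1 → i = 1 := by
      intro l i hi hne
      refine hfix2 i ?_
      rw [← hsqr]
      have h4' : (ε ^ (orderOf ε / 4)) ^ 4 = 1 :=
        orderOf_dvd_iff_pow_eq_one.1 (by rw [hj])
      have hl : l % 4 = 1 ∨ l % 4 = 2 ∨ l % 4 = 3 := by
        have : l % 4 ≠ 0 := fun h0 => hne (orderOf_dvd_iff_pow_eq_one.1 (by rw [hj]; omega))
        omega
      rcases hl with h1 | h1 | h1
      · rw [← Nat.div_add_mod l 4, pow_add, pow_mul, h4', one_pow, one_mul, h1, pow_one] at hi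
        exact pow_of_fixed _ hi 2
      · rwa [← Nat.div_add_mod l 4, pow_add, pow_mul, h4', one_pow, one_mul, h1] at hi
      · rw [← Nat.div_add_mod l 4, pow_add, pow_mul, h4', one_pow, one_mul, h1] at hi
        have := pow_of_fixed _ hi 2
        rwa [← pow_mul, show 3 * 2 = 4 + 2 by rfl, pow_add, h4', one_mul] at this
    have h5 := hfree2 (orderOf ε / 4) (fun l hne i hi => by rw [hred l i hi hne, map_one])
      (fun i hi => hred 1 i (by rwa [pow_one]) (by
        rw [pow_one]; intro e1; rw [e1, orderOf_one] at hj; omega)) (by omega) hm1.le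
    omega
  have ho2 : orderOf ε = 2 := by
    obtain ⟨c, hc⟩ := hl
    by_cases hc1 : c = 1
    · omega
    obtain ⟨l, hlp', hlc⟩ := Nat.exists_prime_and_dvd hc1
    obtain ⟨rfl, -⟩ := hl2 l hlp' (hc ▸ dvd_mul_of_dvd_right hlc 2)
    exact absurd (hc ▸ Nat.mul_dvd_mul_left 2 hlc) hno4
  rw [ho2, Nat.div_self two_pos] at hfix2
  refine Or.inr ⟨?_, fun t => (QuotientGroup.eq_one_iff _).1 ?_⟩
  · have : Sector.eigsp G (ζ ^ 0) ≠ ⊥ := fun e0 => by
      simp only [hm] at hm1
      rw [e0, finrank_bot] at hm1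
      omega
    obtain ⟨v, hv, hv0⟩ := Submodule.exists_mem_ne_zero_of_ne_bot this
    refine ⟨v, hv0, ?_⟩
    have := Sector.mem_eigsp.1 hv
    simpa using this
  · rw [QuotientGroup.mk_mul, ← hε]
    refine hfix2 _ ?_
    rw [pow_one, map_mul]
    have hcI : (ε (t : Q ⧸ S)) * (t : Q ⧸ S) = (t : Q ⧸ S) * ε t := by
      obtain ⟨u, hu⟩ := QuotientGroup.mk_surjective (ε (t : Q ⧸ S))
      rw [← hu, ← commutatorElement_eq_one_iff_mul_comm]
      exact (QuotientGroup.eq_one_iff _).2 (h.comm u t)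
    have hεε : ε (ε (t : Q ⧸ S)) = t := by
      have h1 := congrArg (fun f : MulAut (Q ⧸ S) => f (t : Q ⧸ S)) (ho2 ▸ pow_orderOf_eq_one ε : ε ^ 2 = 1)
      simpa [pow_two] using h1
    rw [hεε, hcI]

/-- The dichotomy for an embedded irreducible representation. -/
theorem core (h : Frame ρ S μ) [S.Normal] {θ δ : MulAut Q} (hθ : Twist S μ θ) (hδ : Twist S μ δ)
    (hθδ : θ * δ = δ * θ) {r o : ℕ} (hr : r.Prime) (hrK : (r : K) ≠ 0) (hθr : θ ^ r = 1) (hδo : δ ^ o = 1)
    (hro : r.Coprime o) (hno : o.Coprime S.index) (hfree : ∀ t, t⁻¹ * θ t ∈ S → t ∈ S) {V : Type*}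
    [AddCommGroup V] [Module K V] [FiniteDimensional K V] (τ : Q →* Module.End K V) {X Y : Module.End K V}
    (hXτ : ∀ t, X * τ t = τ (θ t) * X) (hYτ : ∀ t, Y * τ t = τ (δ t) * Y) (hXY : X * Y = Y * X)
    (hXr : X ^ r = 1) (hYi : Function.Injective Y) (hXYfix : ∀ v, X v = v → Y v = v) {ι : W →ₗ[K] V}
    (hι : ι ≠ 0) (hint : ∀ t, τ t ∘ₗ ι = ι ∘ₗ ρ t) :
    (∀ t, t⁻¹ * δ t ∈ S) ∨ ((∃ v, v ≠ 0 ∧ X v = v) ∧ ∀ t, t * δ t ∈ S) := by
  obtain ⟨G, D, hP, hfix⟩ := h.exists_pair hθ hδ hθδ hθr hδo hro τ hXτ hYτ hXY hXr hYi hXYfix hι hint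
  rcases pair_cases h hθ hδ hθδ hr hrK hP hθr hfree hδo hro hno with h1 | ⟨⟨v, hv0, hv⟩, h2⟩
  · exact Or.inl h1
  · refine Or.inr ⟨?_, h2⟩
    by_contra hc
    push Not at hc
    exact hv0 (hfix (fun u hu => by_contra fun hu0 => hc u hu0 hu) v hv)

end Cfsg.Agent.TurullTwo
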