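import Cfsg.Agent.Lib.TurullTwo.Frame
import Cfsg.Agent.Lib.TurullTwo.Arith
import Cfsg.Agent.Lib.CoprimeHHS.TwoGroup

/-! The automorphism of order coprime to `r` attached to a pair is trivial or the inversion modulo the scalars. -/

set_option autoImplicit false

open Module Cfsg.Agent.CoprimeHHS
open scoped commutatorElement

namespace Cfsg.Agent.TurullTwo

variable {K : Type*} [Field K] [IsAlgClosed K] {W : Type*} [AddCommGroup W] [Module K W]
  [FiniteDimensional K W] [Nontrivial W] {Q : Type*} [Group Q] [Finite Q] {ρ : Q →* Module.End K W}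
  {S : Subgroup Q} {μ : Q → K}

omit [IsAlgClosed K] [FiniteDimensional K W] [Nontrivial W] [Finite Q] in
theorem Pair.powD {θ δ : MulAut Q} {r : ℕ} {G D : Module.End K W} (h : Pair ρ θ δ r G D) (j : ℕ) :
    Pair ρ θ (δ ^ j) r G (D ^ j) where
  pow := h.pow
  comm := (Commute.pow_right (show Commute G D from h.comm) j).eq
  inj := by rw [Module.End.coe_pow]; exact h.inj.iterate j
  conjG := h.conjG
  conjD := conj_pow h.conjD j
  fix := fun v hv => by
    induction j with
    | zero => rfl
    | succ j ih => rw [pow_succ, Module.End.mul_apply, h.fix v hv, ih]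

/-- An operator implementing a twist which is trivial modulo the scalars is scalar. -/
theorem conj_scalar (h : Frame ρ S μ) {α θ : MulAut Q} (ha : Twist S μ α) (hθ : Twist S μ θ)
    (hαθ : ∀ t, α (θ t) = θ (α t)) (hfree : ∀ t, t⁻¹ * θ t ∈ S → t ∈ S) (htriv : ∀ t, t⁻¹ * α t ∈ S)
    {A : Module.End K W} (hA : ∀ t, A * ρ t = ρ (α t) * A) : ∃ c : K, A = c • 1 := by
  have := h.normal
  let N : Subgroup Q :=
    { carrier := {t | ρ (α t) = ρ t}
      one_mem' := by simp
      mul_mem' := fun {a b} ha hb => by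
        show ρ (α (a * b)) = ρ (a * b)
        rw [map_mul, map_mul, map_mul, ha, hb]
      inv_mem' := fun {a} ha => by
        show ρ (α a⁻¹) = ρ a⁻¹
        have h1 : ρ (α a) * ρ (α a⁻¹) = 1 := by rw [← map_mul, ← map_mul, mul_inv_cancel, map_one, map_one]
        rw [ha] at h1
        have h2 := congrArg (fun F => ρ a⁻¹ * F) h1
        simp only [← mul_assoc, ← map_mul, inv_mul_cancel, one_mul, mul_one] at h2
        exact h2 }
  have hSN : S ≤ N := fun s hs => by
    show ρ (α s) = ρ s
    rw [h.scal s hs, h.scal _ (ha.mem s hs), ha.val s hs]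
  have hgen : ∀ u, u⁻¹ * θ u ∈ N := fun u => by
    show ρ (α (u⁻¹ * θ u)) = ρ (u⁻¹ * θ u)
    have hu : ρ (α u) = μ (u⁻¹ * α u) • ρ u := by
      rw [show α u = u * (u⁻¹ * α u) by group, map_mul, h.scal _ (htriv u), mul_smul_comm, mul_one,
        show u⁻¹ * (u * (u⁻¹ * α u)) = u⁻¹ * α u by group]
    have hθu : ρ (α (θ u)) = μ (u⁻¹ * α u) • ρ (θ u) := by
      rw [show α (θ u) = θ u * θ (u⁻¹ * α u) by rw [hαθ, map_mul, map_inv]; group, map_mul,
        h.scal _ (hθ.mem _ (htriv u)), hθ.val _ (htriv u), mul_smul_comm, mul_one]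
    have h1 : ρ (α u) * ρ (α (u⁻¹ * θ u)) = ρ (α u) * ρ (u⁻¹ * θ u) := by
      rw [← map_mul, ← map_mul, mul_inv_cancel_left, hθu, hu, smul_mul_assoc, ← map_mul, mul_inv_cancel_left]
    have h2 := congrArg (fun F => ρ (α u)⁻¹ * F) h1
    have hc : ρ (α u)⁻¹ * ρ (α u) = 1 := by rw [← map_mul, inv_mul_cancel, map_one]
    simp only [← mul_assoc, hc, one_mul] at h2
    exact h2
  have hcQ : ∀ x y : Q ⧸ S, x * y = y * x := fun x y => by
    induction x using QuotientGroup.induction_on with
    | H x =>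
    induction y using QuotientGroup.induction_on with
    | H y =>
    rw [← commutatorElement_eq_one_iff_mul_comm]
    exact (QuotientGroup.eq_one_iff _).2 (h.comm x y)
  let θq : Q ⧸ S →* Q ⧸ S := QuotientGroup.map S S θ.toMonoidHom hθ.mem
  let ψ : Q ⧸ S →* Q ⧸ S :=
    { toFun := fun i => i⁻¹ * θq i
      map_one' := by simp
      map_mul' := fun x y => by
        rw [map_mul, mul_inv_rev, hcQ y⁻¹ x⁻¹, mul_assoc, ← mul_assoc y⁻¹, hcQ y⁻¹ (θq x), mul_assoc, mul_assoc] }
  have hψ : ∀ u : Q, ψ u = ((u⁻¹ * θ u : Q) : Q ⧸ S) := fun u => rfl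
  have hbij : Function.Surjective ψ := by
    refine Finite.injective_iff_surjective.1 ((injective_iff_map_eq_one ψ).2 fun i hi => ?_)
    obtain ⟨u, rfl⟩ := QuotientGroup.mk_surjective i
    rw [hψ, QuotientGroup.eq_one_iff] at hi
    exact (QuotientGroup.eq_one_iff u).2 (hfree u hi)
  have hall : ∀ t, t ∈ N := fun t => by
    obtain ⟨i, hi⟩ := hbij (QuotientGroup.mk t)
    obtain ⟨u, rfl⟩ := QuotientGroup.mk_surjective i
    rw [hψ, QuotientGroup.eq] at hi
    have := mul_mem (hgen u) (hSN hi)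
    rwa [mul_inv_cancel_left] at this
  obtain ⟨-, hschur⟩ := HHLinear.span_eq_top_and_schur ρ h.irr
  exact hschur A fun t => by
    show A * ρ t = ρ t * A
    rw [hA, hall t]

omit [IsAlgClosed K] in
/-- An operator implementing a twist permutes the coefficients. -/
theorem coeff_iff (h : Frame ρ S μ) (b : Basis (Q ⧸ S) K (Module.End K W)) (hb : ∀ i, b i = ρ i.out)
    {α : MulAut Q} {A F : Module.End K W} (hA : ∀ t, A * ρ t = ρ (α t) * A) (hAi : Function.Injective A)
    (π : Equiv.Perm (Q ⧸ S)) (hπ : ∀ t : Q, π (QuotientGroup.mk t) = QuotientGroup.mk (α t))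
    (hF : F * A = A * F) (i : Q ⧸ S) : b.repr F (π i) = 0 ↔ b.repr F i = 0 := by
  classical
  have : Fintype (Q ⧸ S) := Fintype.ofFinite _
  have hc : ∀ j, ∃ d : K, ρ (α j.out) = d • b (π j) ∧ d ≠ 0 := fun j => by
    obtain ⟨d, hd⟩ := h.rep_out (α j.out)
    refine ⟨d, ?_, fun e => Frame.rho_ne_zero (ρ := ρ) (α j.out) (by rw [hd, e, zero_smul])⟩
    rw [hd, hb]
    congr 2
    conv_rhs => rw [← j.out_eq', hπ]
  choose d hd hd0 using hc
  have hAs : Function.Surjective A := LinearMap.injective_iff_surjective.1 hAi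
  have h1 : F = ∑ j, (b.repr F j * d j) • b (π j) := by
    refine LinearMap.ext fun w => ?_
    obtain ⟨w, rfl⟩ := hAs w
    rw [← Module.End.mul_apply, hF, ← Module.End.mul_apply]
    conv_lhs => rw [← b.sum_repr F, Finset.mul_sum]
    rw [Finset.sum_mul]
    refine congrArg (fun T : Module.End K W => T w) (Finset.sum_congr rfl fun j _ => ?_)
    rw [mul_smul_comm, hb, hA, hd, smul_mul_assoc, smul_smul, smul_mul_assoc]
  have h2 := congrArg (fun T => b.repr T (π i)) h1
  simp only [map_sum, map_smul, Finsupp.coe_finsetSum, Finset.sum_apply, Finsupp.smul_apply,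
    Basis.repr_self, smul_eq_mul] at h2
  rw [Finset.sum_eq_single i (fun j _ hj => by
    rw [Finsupp.single_eq_of_ne (fun e => hj (π.injective e).symm), mul_zero])
    (fun e => absurd (Finset.mem_univ i) e), Finsupp.single_eq_same, mul_one] at h2
  rw [h2, mul_eq_zero]
  exact ⟨fun e => e.resolve_right (hd0 i), Or.inl⟩

/-- The commutant of a pair is bounded by the number of orbits. -/
theorem comm_le_orbits (h : Frame ρ S μ) [S.Normal] {θ δ : MulAut Q} {r : ℕ} {G D : Module.End K W}
    (hP : Pair ρ θ δ r G D) (hr : r.Prime) (π ε : MulAut (Q ⧸ S)) (hπ : ∀ t : Q, π t = (θ t : Q))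
    (hε : ∀ t : Q, ε t = (δ t : Q)) (hπr : orderOf π = r) (hc : π * ε = ε * π)
    (hfpf : ∀ i, π i = i → i = 1) (hεfree : ∀ l : ℕ, ε ^ l ≠ 1 → ∀ i, (ε ^ l) i = i → ε i = i)
    (hro : r.Coprime (orderOf ε)) :
    finrank K (commutant G ⊓ commutant D : Submodule K (Module.End K W)) * (r * orderOf ε) ≤
      Nat.card (Q ⧸ S) + (orderOf ε - 1) * Nat.card (fixed ε) + (r - 1) * orderOf ε := by
  classical
  have : Fintype (Q ⧸ S) := Fintype.ofFinite _
  obtain ⟨b, hb⟩ := h.exists_basis
  set P := MulAut.toPerm (Q ⧸ S) π with hPdef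
  set E := MulAut.toPerm (Q ⧸ S) ε with hEdef
  have hinj : Function.Injective (MulAut.toPerm (Q ⧸ S)) := fun a b e =>
    MulEquiv.ext fun x => congrArg (fun p : Equiv.Perm (Q ⧸ S) => p x) e
  have hGi : Function.Injective G := by
    intro a b e
    have h1 := congrArg (G ^ (r - 1)) e
    rwa [← Module.End.mul_apply, ← Module.End.mul_apply, ← pow_succ, Nat.sub_add_cancel hr.one_le, hP.pow,
      Module.End.one_apply, Module.End.one_apply] at h1
  set Γ := Subgroup.closure ({P, E} : Set (Equiv.Perm (Q ⧸ S))) with hΓ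
  let rep : Q ⧸ S → Q ⧸ S := fun i => (Quotient.mk (MulAction.orbitRel Γ (Q ⧸ S)) i).out
  let R : Finset (Q ⧸ S) := Finset.univ.image rep
  let L : (commutant G ⊓ commutant D : Submodule K (Module.End K W)) →ₗ[K] (R → K) :=
    { toFun := fun F i => b.repr (F : Module.End K W) i
      map_add' := fun F F' => funext fun i => by simp
      map_smul' := fun c F => funext fun i => by simp }
  have hL : Function.Injective L := by
    rw [injective_iff_map_eq_zero]
    rintro ⟨F, hFG, hFD⟩ hF0
    refine Subtype.ext (b.repr.injective (Finsupp.ext fun i => ?_))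
    show b.repr F i = b.repr 0 i
    rw [map_zero, Finsupp.zero_apply]
    let T : Subgroup (Equiv.Perm (Q ⧸ S)) :=
      { carrier := {g | ∀ i, b.repr F (g i) = 0 ↔ b.repr F i = 0}
        one_mem' := fun i => Iff.rfl
        mul_mem' := fun {x y} hx hy i => (hx (y i)).trans (hy i)
        inv_mem' := fun {x} hx i => by
          have := hx (x⁻¹ i)
          rwa [← Equiv.Perm.mul_apply, mul_inv_cancel, Equiv.Perm.one_apply, iff_comm] at this }
    have hle : Γ ≤ T := by
      rw [hΓ, Subgroup.closure_le]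
      rintro g (rfl | hg)
      · exact fun i => coeff_iff h b hb hP.conjG hGi _ hπ hFG i
      · rw [Set.mem_singleton_iff.1 hg]
        exact fun i => coeff_iff h b hb hP.conjD hP.inj _ hε hFD i
    obtain ⟨⟨g, hg⟩, hgi⟩ := (Quotient.exact
      (Quotient.out_eq (Quotient.mk (MulAction.orbitRel Γ (Q ⧸ S)) i)) : rep i ∈ MulAction.orbit Γ i)
    refine (hle hg i).1 ?_
    rw [show g i = rep i from hgi]
    exact congrFun hF0 ⟨rep i, Finset.mem_image_of_mem _ (Finset.mem_univ _)⟩
  have hdim : finrank K (commutant G ⊓ commutant D : Submodule K (Module.End K W)) ≤ R.card := by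
    refine (LinearMap.finrank_le_finrank_of_injective hL).trans ?_
    rw [Module.finrank_fintype_fun_eq_card, Fintype.card_coe]
  refine (Nat.mul_le_mul_right _ hdim).trans ?_
  have key := orbit_count P E hr (by rw [hPdef, orderOf_injective _ hinj, hπr])
    (orderOf_injective (MulAut.toPerm (Q ⧸ S)) hinj ε) (fun l hl i hi => by
      refine hεfree l (fun e => hl (by rw [hEdef, ← map_pow, e, map_one])) i ?_
      rw [hEdef, ← map_pow] at hi
      exact hi) hro ((show Commute π ε from hc).map _) 1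
    (fun i hi e => hi (hfpf i e)) R ?_
  · refine key.trans (le_of_eq ?_)
    rw [← Fintype.card_subtype, ← Nat.card_eq_fintype_card, ← Nat.card_eq_fintype_card]
    rfl
  · intro i hi j hj a c hij
    obtain ⟨i₀, -, rfl⟩ := Finset.mem_image.1 hi
    obtain ⟨j₀, -, rfl⟩ := Finset.mem_image.1 hj
    have hPm : P ∈ Γ := Subgroup.subset_closure (Or.inl rfl)
    have hEm : E ∈ Γ := Subgroup.subset_closure (Or.inr rfl)
    have h1 : rep j₀ ∈ MulAction.orbit Γ (rep i₀) :=
      ⟨⟨P ^ a * E ^ c, mul_mem (pow_mem hPm a) (pow_mem hEm c)⟩, hij⟩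
    have h2 : (Quotient.mk (MulAction.orbitRel Γ (Q ⧸ S)) (rep j₀)) =
        Quotient.mk (MulAction.orbitRel Γ (Q ⧸ S)) (rep i₀) := Quotient.sound h1
    simp only [rep, Quotient.out_eq] at h2
    show (Quotient.mk _ i₀).out = (Quotient.mk _ j₀).out
    rw [h2]

end Cfsg.Agent.TurullTwo
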