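import Cfsg.Agent.Lib.TurullTwo.Kill

/-! Elements of order prime to the characteristic in the lower nilpotent series of the fixed subgroup, fixing the
fixed vectors, avoid the normal subgroups of prime power order. -/

set_option autoImplicit false

universe u v w

open scoped commutatorElement
open Module Cfsg.Agent.CoprimeHHS Cfsg.Agent.CoprimeLength

namespace Cfsg.Agent.TurullTwo

section

variable {H : Type u} [Group H] [Finite H] {K : Type w} [Field K] {V : Type v} [AddCommGroup V] [Module K V]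
  {r : ℕ} {s : MulAut H} {τ : H →* Module.End K V} {T : Module.End K V}

/-- An element fixing the fixed vectors of a trivially acting `s` is trivial. -/
theorem Irr.eq_one_of_fixed_all (h : Irr r s τ T) (hfix : ∃ v, v ≠ 0 ∧ T v = v)
    (hall : disp s (⊤ : Subgroup H) = ⊥) {d : H} (hd : ∀ v, T v = v → τ d v = v) : d = 1 :=
  h.eq_one_of_centralizes (B := ⊥) (fun x hx => by rw [Subgroup.mem_bot.1 hx, map_one]; exact one_mem _)
    (fun x => ⟨1, one_mem _, x, disp_eq_bot.1 hall (Subgroup.mem_top x), (one_mul x).symm⟩) hfix hd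
    (fun b hb => by rw [Subgroup.mem_bot.1 hb, mul_one, one_mul])

/-- The displacements and a chief section in them. -/
theorem exists_setup [Group.IsSolvable H] (hs : Cop r s) (hne : disp s (⊤ : Subgroup H) ≠ ⊥) :
    (disp s (⊤ : Subgroup H)).Normal ∧ Inv s (disp s (⊤ : Subgroup H)) ∧
      disp s (disp s (⊤ : Subgroup H)) = disp s ⊤ ∧
      (∀ x : H, ∃ b ∈ disp s (⊤ : Subgroup H), ∃ c, s c = c ∧ x = b * c) ∧
      ∃ B0, Chief s (disp s (⊤ : Subgroup H)) B0 := by
  have hn := disp_normal s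
  have hi : Inv s (disp s (⊤ : Subgroup H)) := inv_disp Inv.top
  have hd := hs.disp_disp (Inv.top (s := s))
  have hBC : ∀ x : H, ∃ b ∈ disp s (⊤ : Subgroup H), ∃ c, s c = c ∧ x = b * c := fun x => by
    obtain ⟨d, hd', c, -, hc, e⟩ := hs.exists_disp_mul Inv.top (Subgroup.mem_top x)
    exact ⟨d, hd', c, hc, e⟩
  refine ⟨hn, hi, hd, hBC, ?_⟩
  obtain ⟨B0, hB0, -⟩ := exists_chief _ hi hd (inv_commutator hi hi) (Subgroup.commutator_le_right _ _) le_rfl
    (fun hle => hne (eq_bot_iff.2 (le_of_le_sup_commutator (N := ⊥) (by rw [bot_sup_eq]; exact hle)))) hBC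
  exact ⟨B0, hB0⟩

theorem Chief.sup_inv {B B0 : Subgroup H} (hch : Chief s B B0) : Inv s (fixed s ⊔ B0) :=
  (inv_fixed s).sup hch.inv

theorem Chief.card_lt {B B0 : Subgroup H} (hch : Chief s B B0) : Nat.card ↥(fixed s ⊔ B0) < Nat.card H := by
  have := hch.normal
  refine lt_of_le_of_ne (Subgroup.card_le_card_group _) fun e => hch.not_le fun b hb => ?_
  have htop : fixed s ⊔ B0 = ⊤ := Subgroup.eq_top_of_card_eq _ e
  obtain ⟨c, hc, z, hz, rfl⟩ := Subgroup.mem_sup_of_normal_right.1 (htop.ge (Subgroup.mem_top b))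
  refine mul_mem (hch.fix c ?_ (mem_fixed.1 hc)) hz
  have := mul_mem hb (inv_mem (hch.le hz))
  rwa [mul_inv_cancel_right] at this

/-- Elements of the series of a quotient of an invariant subgroup over the fixed subgroup come from `H`. -/
theorem exists_preimage {U : Subgroup H} (hU : Inv s U) (hs : Cop r s) (hCU : fixed s ≤ U) {N : Subgroup U}
    [N.Normal] (hN : Inv hU.aut N) {k n : ℕ} (hn : n.Prime ∨ n = 1) {x : U ⧸ N}
    (hx : x ∈ R k (fixed hN.qAut)) (hxn : (orderOf x).Coprime n) :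
    ∃ y : U, (y : H) ∈ R k (fixed s) ∧ (orderOf (y : H)).Coprime n ∧ (y : U ⧸ N) = x := by
  rw [R_fixed_qAut (hs.sub hU) hN] at hx
  obtain ⟨y, hy, hyn, e⟩ := exists_coprime_lift hn _ hx hxn
  refine ⟨y, ?_, by rwa [Subgroup.orderOf_coe], e⟩
  rw [fixed_aut hU] at hy
  exact (mem_R_of_coe hCU k y).1 hy

theorem mk_mem_R {U : Subgroup H} (hU : Inv s U) (hs : Cop r s) (hCU : fixed s ≤ U) {N : Subgroup U}
    [N.Normal] (hN : Inv hU.aut N) {k : ℕ} {y : U} (hy : (y : H) ∈ R k (fixed s)) :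
    (y : U ⧸ N) ∈ R k (fixed hN.qAut) := by
  rw [R_fixed_qAut (hs.sub hU) hN, fixed_aut hU]
  exact ⟨y, (mem_R_of_coe hCU k y).2 hy, rfl⟩

end

variable {K : Type w} [Field K] [IsAlgClosed K] {q : ℕ} [Fact q.Prime] [CharP K q] {r : ℕ}

set_option maxHeartbeats 1000000 in
theorem fzero_aux : ∀ (n : ℕ) (H : Type u) [Group H] [Finite H] [Group.IsSolvable H], Nat.card H ≤ n →
    ∀ (V : Type v) [AddCommGroup V] [Module K V] [FiniteDimensional K V] (s : MulAut H)
      (τ : H →* Module.End K V) (T : Module.End K V), Irr r s τ T → (∃ v, v ≠ 0 ∧ T v = v) → ∀ k : ℕ,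
      (∀ y ∈ R k (fixed s), (orderOf y).Coprime q → ∀ v, T v = v → τ y v = v) →
      ∀ d ∈ R k (fixed s), (orderOf d).Coprime q → ∀ t : ℕ, t.Prime → ∀ P : Subgroup H, P.Normal →
        Inv s P → IsPGroup t P → d ∈ P → d = 1 := by
  intro n
  induction n using Nat.strong_induction_on with
  | _ n ih =>
  intro H _ _ _ hcard V _ _ _ s τ T h hfix k hyp d hd hdq t ht P hPn hPi hP hdP
  have hsd : s d = d := R_le k _ hd
  have hdfix := hyp d hd hdq
  haveI : Nontrivial V := by
    obtain ⟨v, hv, -⟩ := hfix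
    exact ⟨⟨v, 0, hv⟩⟩
  by_cases hne : disp s (⊤ : Subgroup H) = ⊥
  · exact h.eq_one_of_fixed_all hfix hne hdfix
  obtain ⟨hBn, hBi, hBd, hBC, B0, hch⟩ := exists_setup h.cop hne
  set B := disp s (⊤ : Subgroup H) with hB
  haveI := hch.normal
  rcases reduce h hBi hch.inv le_rfl hch.le hBC hch.fix
      (fun a ha b hb => hch.der (Subgroup.commutator_mem_commutator ha hb)) k q (Or.inl Fact.out) hyp with h1 | hstar
  · exact h1 d hd hdq
  have hU := hch.sup_inv
  have hCU : fixed s ≤ fixed s ⊔ B0 := le_sup_left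
  have hcent : ∀ x ∈ B0, d * x = x * d := by
    refine centralizes_chief (q := q) h hfix hch hBC hstar hU hCU le_sup_right hsd hdfix
      fun W _ _ _ τ' T' hact hw htr => ?_
    obtain ⟨hi, hIrr⟩ := hact.quot
    have hlt : Nat.card (↥(fixed s ⊔ B0) ⧸ τ'.ker) < n :=
      lt_of_le_of_lt (Nat.le_of_dvd Nat.card_pos (Subgroup.card_quotient_dvd_card _))
        (lt_of_lt_of_le hch.card_lt hcard)
    have hd1 := ih _ hlt (↥(fixed s ⊔ B0) ⧸ τ'.ker) le_rfl W hi.qAut _ T' hIrr hw k
      (fun y hy hyq v hv => by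
        obtain ⟨y', hy', hyq', rfl⟩ := exists_preimage hU h.cop hCU hi (Or.inl Fact.out) hy hyq
        rw [QuotientGroup.lift_mk]
        exact htr y' (hyp _ hy' hyq') v hv)
      (QuotientGroup.mk (⟨d, hCU hsd⟩ : ↥(fixed s ⊔ B0))) (mk_mem_R hU h.cop hCU hi hd)
      (Nat.Coprime.coprime_dvd_left ((orderOf_map_dvd (QuotientGroup.mk' τ'.ker) _).trans
        (dvd_of_eq (Subgroup.orderOf_mk d (hCU hsd)))) hdq)
      t ht ((P.subgroupOf (fixed s ⊔ B0)).map (QuotientGroup.mk' τ'.ker))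
      (Subgroup.Normal.map inferInstance _ (QuotientGroup.mk'_surjective _))
      (by
        rintro _ ⟨x, hx, rfl⟩
        exact ⟨hU.aut x, hPi _ hx, rfl⟩)
      ((hP.comap_of_injective _ (fixed s ⊔ B0).subtype_injective).map _) ⟨⟨d, hCU hsd⟩, hdP, rfl⟩
    exact MonoidHom.mem_ker.1 ((QuotientGroup.eq_one_iff _).1 hd1)
  haveI := hPn
  haveI : (⁅B, P⁆ ⊔ B0).Normal := inferInstance
  have hLB : ⁅B, P⁆ ⊔ B0 ≤ B := sup_le (Subgroup.commutator_le_left B P) hch.le
  rcases hch.max _ inferInstance ((inv_commutator hBi hPi).sup hch.inv) le_sup_right hLB with e | e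
  · exact h.eq_one_of_chief q hBi hBd hch hBC hfix hstar hsd hdfix hcent
      fun b hb => e.le (Subgroup.mem_sup_left (Subgroup.commutator_mem_commutator hb hdP))
  · refine absurd ?_ hch.not_le
    have := Fact.mk ht
    exact le_of_chief hP.isNilpotent
      (e.ge.trans (sup_le_sup_right (Subgroup.commutator_le_right B P) B0)) e.ge

/-- Elements of order prime to the characteristic avoid the normal subgroups of prime power order. -/
theorem fzero {H : Type u} [Group H] [Finite H] [Group.IsSolvable H] {V : Type v} [AddCommGroup V] [Module K V]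
    [FiniteDimensional K V] {s : MulAut H} {τ : H →* Module.End K V} {T : Module.End K V} (h : Irr r s τ T)
    (hfix : ∃ v, v ≠ 0 ∧ T v = v) {k : ℕ}
    (hyp : ∀ y ∈ R k (fixed s), (orderOf y).Coprime q → ∀ v, T v = v → τ y v = v) {d : H}
    (hd : d ∈ R k (fixed s)) (hdq : (orderOf d).Coprime q) {t : ℕ} (ht : t.Prime) {P : Subgroup H}
    (hPn : P.Normal) (hPi : Inv s P) (hP : IsPGroup t P) (hdP : d ∈ P) : d = 1 :=
  fzero_aux _ H le_rfl V s τ T h hfix k hyp d hd hdq t ht P hPn hPi hP hdP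

end Cfsg.Agent.TurullTwo
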