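import Cfsg.Agent.Lib.TurullTwo.Group
import Cfsg.Agent.Lib.Perm.Modules
import Mathlib.LinearAlgebra.FiniteDimensional.Lemmas
import Mathlib.Algebra.CharP.Lemmas

/-! Irreducible actions of a group extended by an automorphism; the idempotents of normal subgroups and of
elements which are central modulo them, and the atoms of the algebra they generate. -/

set_option autoImplicit false

open scoped commutatorElement
open Cfsg.Agent.CoprimeHHS

namespace Cfsg.Agent.TurullTwo

variable {H : Type*} [Group H] {K : Type*} [Field K] {V : Type*} [AddCommGroup V] [Module K V]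

/-- A faithful action of `H⟨s⟩` which is irreducible, in characteristic prime to `r`. -/
structure Irr (r : ℕ) (s : MulAut H) (τ : H →* Module.End K V) (T : Module.End K V) : Prop where
  cop : Cop r s
  rK : (r : K) ≠ 0
  pow : T ^ r = 1
  conj : ∀ x, T * τ x = τ (s x) * T
  irr : ∀ W : Submodule K V, (∀ x, ∀ v ∈ W, τ x v ∈ W) → (∀ v ∈ W, T v ∈ W) → W = ⊥ ∨ W = ⊤
  inj : Function.Injective τ

theorem tau_inv_cancel (τ : H →* Module.End K V) (x : H) (v : V) : τ x⁻¹ (τ x v) = v := by
  rw [← Module.End.mul_apply, ← map_mul, inv_mul_cancel, map_one, Module.End.one_apply]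

namespace Irr

variable {r : ℕ} {s : MulAut H} {τ : H →* Module.End K V} {T : Module.End K V}

theorem conj_apply (h : Irr r s τ T) (x : H) (v : V) : T (τ x v) = τ (s x) (T v) :=
  congrArg (fun F : Module.End K V => F v) (h.conj x)

theorem T_cancel (h : Irr r s τ T) : T * T ^ (r - 1) = 1 ∧ T ^ (r - 1) * T = 1 := by
  constructor
  · rw [← pow_succ', Nat.sub_add_cancel h.cop.prime.one_le, h.pow]
  · rw [← pow_succ, Nat.sub_add_cancel h.cop.prime.one_le, h.pow]

theorem T_injective (h : Irr r s τ T) : Function.Injective T := fun v w e => by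
  have := congrArg (T ^ (r - 1)) e
  rwa [← Module.End.mul_apply, ← Module.End.mul_apply, h.T_cancel.2, Module.End.one_apply,
    Module.End.one_apply] at this

/-- There is no nontrivial normal invariant subgroup of characteristic order. -/
theorem eq_bot_of_isPGroup [Finite H] [Nontrivial V] (h : Irr r s τ T) {q : ℕ} [Fact q.Prime] [CharP K q]
    {P : Subgroup H} [P.Normal] (hPi : Inv s P) (hP : IsPGroup q P) : P = ⊥ := by
  let F : Submodule K V :=
    { carrier := {v | ∀ x ∈ P, τ x v = v}
      zero_mem' := fun x _ => map_zero _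
      add_mem' := fun {a b} ha hb x hx => by rw [map_add, ha x hx, hb x hx]
      smul_mem' := fun c a ha x hx => by rw [map_smul, ha x hx] }
  obtain ⟨w, hw⟩ := exists_ne (0 : V)
  obtain ⟨v, -, hv0, hv⟩ := PermModules.exists_fixed_vector hP (τ.comp P.subtype) ⊤
    (fun _ _ _ => trivial) (w := w) trivial hw
  have hFi : ∀ x, ∀ u ∈ F, τ x u ∈ F := fun x u hu y hy => by
    have h1 := hu _ ((inferInstance : P.Normal).conj_mem' y hy x)
    calc τ y (τ x u) = τ x (τ (x⁻¹ * y * x) u) := by
          rw [← Module.End.mul_apply, ← Module.End.mul_apply, ← map_mul, ← map_mul, mul_assoc x⁻¹,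
            mul_inv_cancel_left]
      _ = τ x u := by rw [h1]
  have hFT : ∀ u ∈ F, T u ∈ F := fun u hu y hy => by
    obtain ⟨y', rfl⟩ := s.surjective y
    rw [← h.conj_apply, hu y' (hPi.symm_mem hy)]
  rcases h.irr F hFi hFT with e | e
  · exact absurd ((Submodule.mem_bot K).1 (e ▸ (show v ∈ F from fun x hx => hv ⟨x, hx⟩))) hv0
  · refine (Subgroup.eq_bot_iff_forall _).2 fun y hy => h.inj ?_
    rw [map_one]
    exact LinearMap.ext fun u => (e.ge (Submodule.mem_top : u ∈ ⊤)) y hy

/-- An element fixing the fixed vectors and centralising `B` is trivial. -/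
theorem eq_one_of_centralizes (h : Irr r s τ T) {B : Subgroup H} [B.Normal] (hBi : Inv s B)
    (hBC : ∀ x : H, ∃ b ∈ B, ∃ c, s c = c ∧ x = b * c) (hV : ∃ v, v ≠ 0 ∧ T v = v) {d : H}
    (hd : ∀ v, T v = v → τ d v = v) (hdB : ∀ b ∈ B, d * b = b * d) : d = 1 := by
  let W : Submodule K V := Submodule.span K {w | ∃ b ∈ B, ∃ v, T v = v ∧ w = τ b v}
  have hclosed : ∀ F : Module.End K V, (∀ b ∈ B, ∀ v, T v = v → F (τ b v) ∈ W) → ∀ w ∈ W, F w ∈ W :=
    fun F hF w hw => by
      refine Submodule.span_le (p := W.comap F) |>.2 ?_ hw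
      rintro _ ⟨b, hb, v, hv, rfl⟩
      exact hF b hb v hv
  have hW : ∀ x, ∀ w ∈ W, τ x w ∈ W := fun x => hclosed (τ x) fun b hb v hv => by
    obtain ⟨b', hb', c, hc, rfl⟩ := hBC x
    refine Submodule.subset_span ⟨b' * (c * b * c⁻¹), mul_mem hb' ((inferInstance : B.Normal).conj_mem b hb c),
      τ c v, by rw [h.conj_apply, hc, hv], ?_⟩
    rw [← Module.End.mul_apply, ← Module.End.mul_apply, ← map_mul, ← map_mul]
    congr 2
    group
  have hWT : ∀ w ∈ W, T w ∈ W := hclosed T fun b hb v hv =>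
    Submodule.subset_span ⟨s b, hBi b hb, v, hv, by rw [h.conj_apply, hv]⟩
  obtain ⟨v₀, hv₀, hTv₀⟩ := hV
  rcases h.irr W hW hWT with e | e
  · exact absurd ((Submodule.mem_bot K).1 (e ▸
      Submodule.subset_span ⟨1, one_mem _, v₀, hTv₀, by rw [map_one]; rfl⟩)) hv₀
  · refine h.inj ?_
    rw [map_one]
    refine LinearMap.ext fun u => ?_
    have hle : W ≤ LinearMap.ker (τ d - 1) := by
      refine Submodule.span_le.2 ?_
      rintro _ ⟨b, hb, v, hv, rfl⟩
      rw [SetLike.mem_coe, LinearMap.mem_ker, LinearMap.sub_apply, Module.End.one_apply, sub_eq_zero,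
        ← Module.End.mul_apply, ← map_mul, hdB b hb, map_mul, Module.End.mul_apply, hd v hv]
    have := hle (e.ge (Submodule.mem_top : u ∈ ⊤))
    rwa [LinearMap.mem_ker, LinearMap.sub_apply, Module.End.one_apply, sub_eq_zero] at this

end Irr

section idem

variable [Finite H] (τ : H →* Module.End K V)

/-- The average over a subgroup. -/
noncomputable def eN (N : Subgroup H) : Module.End K V :=
  haveI : Fintype N := Fintype.ofFinite N
  (Nat.card N : K)⁻¹ • ∑ x : N, τ x

/-- The projection on an eigenvalue of an element. -/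
noncomputable def eps (z : H) (c : K) : Module.End K V :=
  (orderOf z : K)⁻¹ • ∑ i ∈ Finset.range (orderOf z), (c⁻¹) ^ i • τ (z ^ i)

variable {τ}

theorem eN_mul {N : Subgroup H} {x : H} (hx : x ∈ N) : eN τ N * τ x = eN τ N := by
  let _ : Fintype N := Fintype.ofFinite N
  rw [eN, smul_mul_assoc, Finset.sum_mul]
  congr 1
  simp only [← map_mul]
  exact Fintype.sum_equiv (Equiv.mulRight (⟨x, hx⟩ : N)) _ _ fun y => rfl

theorem mul_eN {N : Subgroup H} {x : H} (hx : x ∈ N) : τ x * eN τ N = eN τ N := by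
  let _ : Fintype N := Fintype.ofFinite N
  rw [eN, mul_smul_comm, Finset.mul_sum]
  congr 1
  simp only [← map_mul]
  exact Fintype.sum_equiv (Equiv.mulLeft (⟨x, hx⟩ : N)) _ _ fun y => rfl

theorem eN_idem {N : Subgroup H} (hN : (Nat.card N : K) ≠ 0) : eN τ N * eN τ N = eN τ N := by
  let _ : Fintype N := Fintype.ofFinite N
  conv_lhs => arg 2; rw [eN]
  rw [mul_smul_comm, Finset.mul_sum, Finset.sum_congr rfl fun (y : N) _ => eN_mul y.2, Finset.sum_const,
    Finset.card_univ, ← Nat.card_eq_fintype_card, ← Nat.cast_smul_eq_nsmul K, smul_smul, inv_mul_cancel₀ hN,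
    one_smul]

theorem eN_apply_fixed {N : Subgroup H} (hN : (Nat.card N : K) ≠ 0) {v : V} (hv : ∀ x ∈ N, τ x v = v) :
    eN τ N v = v := by
  let _ : Fintype N := Fintype.ofFinite N
  rw [eN, LinearMap.smul_apply, LinearMap.sum_apply, Finset.sum_congr rfl fun (x : N) _ => hv x x.2,
    Finset.sum_const, Finset.card_univ, ← Nat.card_eq_fintype_card, ← Nat.cast_smul_eq_nsmul K, smul_smul,
    inv_mul_cancel₀ hN, one_smul]

/-- Transport by an operator implementing an automorphism. -/
theorem conj_eN {α : MulAut H} {A : Module.End K V} (hA : ∀ x, A * τ x = τ (α x) * A) (N : Subgroup H) :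
    A * eN τ N = eN τ (N.map α.toMonoidHom) * A := by
  let _ : Fintype N := Fintype.ofFinite N
  let _ : Fintype (N.map α.toMonoidHom) := Fintype.ofFinite _
  let e := N.equivMapOfInjective α.toMonoidHom α.injective
  rw [eN, eN, mul_smul_comm, smul_mul_assoc, Nat.card_congr e.toEquiv.symm, Finset.mul_sum, Finset.sum_mul]
  congr 1
  refine Fintype.sum_equiv e.toEquiv _ _ fun x => ?_
  rw [hA]
  rfl

omit [Finite H] in
theorem conj_eps {α : MulAut H} {A : Module.End K V} (hA : ∀ x, A * τ x = τ (α x) * A) (z : H) (c : K) :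
    A * eps τ z c = eps τ (α z) c * A := by
  rw [eps, eps, MulEquiv.orderOf_eq, mul_smul_comm, smul_mul_assoc, Finset.mul_sum, Finset.sum_mul]
  congr 1
  refine Finset.sum_congr rfl fun i _ => ?_
  rw [mul_smul_comm, smul_mul_assoc, hA, map_pow]

theorem tau_eps {z : H} {c : K} (hc : c ^ orderOf z = 1) : τ z * eps τ z c = c • eps τ z c := by
  set o := orderOf z with ho
  have hc0 : c ≠ 0 := fun e => by rw [e, zero_pow (orderOf_pos z).ne'] at hc; exact zero_ne_one hc
  rw [eps, mul_smul_comm, smul_comm c]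
  congr 1
  rw [Finset.mul_sum, Finset.smul_sum, ← ho]
  obtain ⟨o', ho'⟩ : ∃ o', o = o' + 1 := ⟨o - 1, (Nat.sub_add_cancel (orderOf_pos z)).symm⟩
  rw [ho', Finset.sum_range_succ, Finset.sum_range_succ']
  congr 1
  · refine Finset.sum_congr rfl fun i _ => ?_
    rw [mul_smul_comm, ← map_mul, ← pow_succ', smul_smul, pow_succ' c⁻¹, ← mul_assoc, mul_inv_cancel₀ hc0,
      one_mul]
  · rw [mul_smul_comm, ← map_mul, ← pow_succ', ← ho', ho, pow_orderOf_eq_one, pow_zero, pow_zero, smul_smul,
      mul_one]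
    congr 1
    rw [inv_pow]
    refine inv_eq_of_mul_eq_one_left ?_
    rw [← pow_succ', ← ho', hc]

theorem eps_idem {z : H} {c : K} (hc : c ^ orderOf z = 1) (ho : (orderOf z : K) ≠ 0) :
    eps τ z c * eps τ z c = eps τ z c := by
  have hc0 : c ≠ 0 := fun e => by rw [e, zero_pow (orderOf_pos z).ne'] at hc; exact zero_ne_one hc
  have hp : ∀ i : ℕ, τ (z ^ i) * eps τ z c = c ^ i • eps τ z c := fun i => by
    induction i with
    | zero => simp
    | succ i ih => rw [pow_succ', map_mul, mul_assoc, ih, mul_smul_comm, tau_eps hc, smul_smul, pow_succ]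
  conv_lhs => arg 1; rw [eps]
  rw [smul_mul_assoc, Finset.sum_mul, Finset.sum_congr rfl fun i _ => by
    rw [smul_mul_assoc, hp i, smul_smul, ← mul_pow, inv_mul_cancel₀ hc0, one_pow, one_smul],
    Finset.sum_const, Finset.card_range, ← Nat.cast_smul_eq_nsmul K, smul_smul, inv_mul_cancel₀ ho, one_smul]

theorem eps_apply {z : H} {c : K} (hc : c ^ orderOf z = 1) (ho : (orderOf z : K) ≠ 0) {v : V}
    (hv : τ z v = c • v) : eps τ z c v = v := by
  have hc0 : c ≠ 0 := fun e => by rw [e, zero_pow (orderOf_pos z).ne'] at hc; exact zero_ne_one hc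
  have hp : ∀ i : ℕ, τ (z ^ i) v = c ^ i • v := fun i => by
    induction i with
    | zero => simp
    | succ i ih => rw [pow_succ', map_mul, Module.End.mul_apply, ih, map_smul, hv, smul_smul, pow_succ]
  rw [eps, LinearMap.smul_apply, LinearMap.sum_apply, Finset.sum_congr rfl fun i _ => by
    rw [LinearMap.smul_apply, hp i, smul_smul, ← mul_pow, inv_mul_cancel₀ hc0, one_pow, one_smul],
    Finset.sum_const, Finset.card_range, ← Nat.cast_smul_eq_nsmul K, smul_smul, inv_mul_cancel₀ ho, one_smul]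

/-- A member of the family of `G0`: the product of the average over a normal subgroup of invertible order and
a projection of an element central modulo it. -/
def IsGen (τ : H →* Module.End K V) (G0 : Subgroup H) (E : Module.End K V) : Prop :=
  ∃ (N : Subgroup H) (z : H) (c : K), N ≤ G0 ∧ (∀ g ∈ G0, ∀ x ∈ N, g * x * g⁻¹ ∈ N) ∧
    (Nat.card N : K) ≠ 0 ∧ z ∈ G0 ∧ (orderOf z : K) ≠ 0 ∧ (∀ g ∈ G0, ⁅z, g⁆ ∈ N) ∧ c ^ orderOf z = 1 ∧
    E = eN τ N * eps τ z c

theorem eN_comm {N : Subgroup H} {g : H} (hg : ∀ x ∈ N, g * x * g⁻¹ ∈ N) : τ g * eN τ N = eN τ N * τ g := by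
  have hmap : N.map (MulAut.conj g).toMonoidHom = N := by
    refine Subgroup.eq_of_le_of_card_ge (by rintro _ ⟨x, hx, rfl⟩; exact hg x hx) ?_
    rw [← Nat.card_congr (N.equivMapOfInjective _ (MulAut.conj g).injective).toEquiv]
  have := conj_eN (τ := τ) (α := MulAut.conj g) (A := τ g)
    (fun x => by rw [← map_mul, ← map_mul]; congr 1; simp [MulAut.conj_apply]) N
  rwa [hmap] at this

variable {G0 : Subgroup H} {E : Module.End K V}

theorem IsGen.eN_eps_comm {N : Subgroup H} {z : H} {c : K} (hzN : ∀ x ∈ N, z * x * z⁻¹ ∈ N) :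
    eps τ z c * eN τ N = eN τ N * eps τ z c := by
  have hp : ∀ i : ℕ, τ (z ^ i) * eN τ N = eN τ N * τ (z ^ i) := fun i => by
    induction i with
    | zero => simp
    | succ i ih => rw [pow_succ, map_mul, mul_assoc, eN_comm hzN, ← mul_assoc, ih, mul_assoc]
  simp only [eps, smul_mul_assoc, mul_smul_comm, Finset.sum_mul, Finset.mul_sum, hp]

theorem IsGen.idem (h : IsGen τ G0 E) : E * E = E := by
  obtain ⟨N, z, c, -, hn, hN, hz, ho, -, hc, rfl⟩ := h
  rw [mul_assoc, ← mul_assoc (eps τ z c), IsGen.eN_eps_comm (hn z hz), mul_assoc (eN τ N), eps_idem hc ho,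
    ← mul_assoc, eN_idem hN]

theorem IsGen.comm_tau (h : IsGen τ G0 E) {g : H} (hg : g ∈ G0) : τ g * E = E * τ g := by
  obtain ⟨N, z, c, -, hn, -, hz, -, hzc, -, rfl⟩ := h
  rw [← mul_assoc, eN_comm (hn g hg), mul_assoc, mul_assoc]
  -- conjugation changes the powers of `z` by elements of `N`
  have hcz : ∀ i : ℕ, eN τ N * (τ g * τ (z ^ i)) = eN τ N * (τ (z ^ i) * τ g) := by
    intro i
    induction i with
    | zero => simp
    | succ i ih =>
      have hstep : eN τ N * (τ g * τ z) = eN τ N * (τ z * τ g) := by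
        rw [← map_mul, ← map_mul, show z * g = ⁅z, g⁆ * (g * z) by rw [commutatorElement_def]; group,
          map_mul _ ⁅z, g⁆, ← mul_assoc, eN_mul (hzc g hg)]
      have hzp : τ (z ^ i) * eN τ N = eN τ N * τ (z ^ i) :=
        eN_comm fun x hx => hn _ (pow_mem hz i) x hx
      calc eN τ N * (τ g * τ (z ^ (i + 1))) = eN τ N * (τ g * τ (z ^ i)) * τ z := by
            rw [pow_succ, map_mul]; simp only [mul_assoc]
        _ = τ (z ^ i) * (eN τ N * (τ g * τ z)) := by
            rw [ih, ← mul_assoc (τ (z ^ i)), hzp]; simp only [mul_assoc]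
        _ = _ := by
            rw [hstep, ← mul_assoc (τ (z ^ i)), hzp, pow_succ, map_mul]; simp only [mul_assoc]
  simp only [eps, smul_mul_assoc, mul_smul_comm, Finset.sum_mul, Finset.mul_sum]
  congr 1
  exact Finset.sum_congr rfl fun i _ => by rw [hcz i]

/-- Whatever commutes with `G0` commutes with the family. -/
theorem IsGen.comm_of_centralizes (h : IsGen τ G0 E) {F : Module.End K V}
    (hF : ∀ g ∈ G0, F * τ g = τ g * F) : F * E = E * F := by
  obtain ⟨N, z, c, hN, -, -, hz, -, -, -, rfl⟩ := h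
  let _ : Fintype N := Fintype.ofFinite N
  have h1 : Commute F (eN τ N) :=
    Commute.smul_right (Commute.sum_right _ _ _ fun (x : N) _ => hF x (hN x.2)) _
  have h2 : Commute F (eps τ z c) :=
    Commute.smul_right (Commute.sum_right _ _ _ fun i _ => Commute.smul_right (hF _ (pow_mem hz i)) _) _
  exact (h1.mul_right h2).eq

theorem IsGen.comm (h : IsGen τ G0 E) {E' : Module.End K V} (h' : IsGen τ G0 E') : E * E' = E' * E :=
  h'.comm_of_centralizes fun _ hg => (h.comm_tau hg).symm

theorem IsGen.transport {α : MulAut H} (hG : Inv α G0) {A A' : Module.End K V} (hA : ∀ x, A * τ x = τ (α x) * A)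
    (hAA' : A * A' = 1) (h : IsGen τ G0 E) : IsGen τ G0 (A * E * A') := by
  obtain ⟨N, z, c, hNG, hn, hN, hz, ho, hzc, hc, rfl⟩ := h
  refine ⟨N.map α.toMonoidHom, α z, c, ?_, ?_, ?_, hG z hz, by rwa [MulEquiv.orderOf_eq], ?_,
    by rwa [MulEquiv.orderOf_eq], ?_⟩
  · rintro _ ⟨x, hx, rfl⟩
    exact hG x (hNG hx)
  · rintro g hg _ ⟨x, hx, rfl⟩
    obtain ⟨g', rfl⟩ := α.surjective g
    exact ⟨g' * x * g'⁻¹, hn g' (hG.symm_mem hg) x hx, by simp⟩
  · rwa [← Nat.card_congr (N.equivMapOfInjective _ α.injective).toEquiv]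
  · intro g hg
    obtain ⟨g', rfl⟩ := α.surjective g
    exact ⟨⁅z, g'⁆, hzc g' (hG.symm_mem hg), map_commutatorElement _ _ _⟩
  · rw [← mul_assoc A, conj_eN hA, mul_assoc _ A, conj_eps hA, mul_assoc, mul_assoc, hAA', mul_one]

/-- The double centraliser of the family. -/
def Dual (τ : H →* Module.End K V) (G0 : Subgroup H) (P : Module.End K V) : Prop :=
  ∀ F : Module.End K V, (∀ E, IsGen τ G0 E → F * E = E * F) → P * F = F * P

/-- The atoms of the idempotents of the double centraliser. -/
structure IsAtom' (τ : H →* Module.End K V) (G0 : Subgroup H) (P : Module.End K V) : Prop where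
  dual : Dual τ G0 P
  idem : P * P = P
  ne : P ≠ 0
  atom : ∀ Q, Dual τ G0 Q → Q * Q = Q → Q * P = 0 ∨ Q * P = P

theorem IsGen.dual (h : IsGen τ G0 E) : Dual τ G0 E := fun _ hF => (hF E h).symm

theorem Dual.comm {P Q : Module.End K V} (hP : Dual τ G0 P) (hQ : Dual τ G0 Q) : P * Q = Q * P :=
  hP Q fun E hE => hQ E fun _ hE' => hE.comm hE'

theorem Dual.comm_tau {P : Module.End K V} (hP : Dual τ G0 P) {g : H} (hg : g ∈ G0) : P * τ g = τ g * P :=
  hP (τ g) fun _ hE => hE.comm_tau hg

theorem Dual.mul {P Q : Module.End K V} (hP : Dual τ G0 P) (hQ : Dual τ G0 Q) : Dual τ G0 (P * Q) :=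
  fun F hF => by rw [mul_assoc, hQ F hF, ← mul_assoc, hP F hF, mul_assoc]

theorem Dual.sub {P Q : Module.End K V} (hP : Dual τ G0 P) (hQ : Dual τ G0 Q) : Dual τ G0 (P - Q) :=
  fun F hF => by rw [sub_mul, mul_sub, hQ F hF, hP F hF]

theorem Dual.one : Dual τ G0 (1 : Module.End K V) := fun F _ => by rw [one_mul, mul_one]

theorem Dual.sum {ι : Type*} (S : Finset ι) (f : ι → Module.End K V) (h : ∀ i ∈ S, Dual τ G0 (f i)) :
    Dual τ G0 (∑ i ∈ S, f i) := fun F hF => by
  rw [Finset.sum_mul, Finset.mul_sum]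
  exact Finset.sum_congr rfl fun i hi => h i hi F hF

theorem IsAtom'.ortho {P Q : Module.End K V} (hP : IsAtom' τ G0 P) (hQ : IsAtom' τ G0 Q) (hne : P ≠ Q) :
    P * Q = 0 := by
  rcases hQ.atom P hP.dual hP.idem with h1 | h1
  · exact h1
  rcases hP.atom Q hQ.dual hQ.idem with h2 | h2
  · rw [hP.dual.comm hQ.dual, h2]
  · exact absurd (h2.symm.trans ((hQ.dual.comm hP.dual).trans h1)) hne

theorem IsAtom'.transport {α : MulAut H} (hG : Inv α G0) {A A' : Module.End K V}
    (hA : ∀ x, A * τ x = τ (α x) * A) (hAA' : A * A' = 1) (hA'A : A' * A = 1) {β : MulAut H} (hGb : Inv β G0)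
    (hA' : ∀ x, A' * τ x = τ (β x) * A') {P : Module.End K V} (hP : IsAtom' τ G0 P) :
    IsAtom' τ G0 (A * P * A') := by
  have hcan : ∀ F : Module.End K V, A * (A' * F * A) * A' = F := fun F => by
    rw [show A * (A' * F * A) * A' = (A * A') * F * (A * A') by simp only [mul_assoc], hAA', one_mul, mul_one]
  have hmul : ∀ F G : Module.End K V, (A * F * A') * (A * G * A') = A * (F * G) * A' := fun F G => by
    rw [show (A * F * A') * (A * G * A') = A * F * ((A' * A) * G * A') by simp only [mul_assoc], hA'A, one_mul]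
    simp only [mul_assoc]
  have hmul' : ∀ F G : Module.End K V, (A' * F * A) * (A' * G * A) = A' * (F * G) * A := fun F G => by
    rw [show (A' * F * A) * (A' * G * A) = A' * F * ((A * A') * G * A) by simp only [mul_assoc], hAA', one_mul]
    simp only [mul_assoc]
  have hdual : ∀ {a a' : Module.End K V} {γ : MulAut H}, Inv γ G0 → (∀ x, a' * τ x = τ (γ x) * a') →
      a * a' = 1 → a' * a = 1 → ∀ {Q}, Dual τ G0 Q → Dual τ G0 (a * Q * a') := by
    intro a a' γ hγ ha' haa' ha'a Q hQ F hF
    have h1 := hQ (a' * F * a) fun E hE => by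
      -- the transported member of the family
      obtain ⟨E', hE', hEE'⟩ : ∃ E', IsGen τ G0 E' ∧ E = a' * E' * a := by
        obtain ⟨n, hn, hγn⟩ : ∃ n : ℕ, 0 < n ∧ γ ^ n = 1 :=
          ⟨orderOf γ, (isOfFinOrder_iff_pow_eq_one.2 (by
            have : Finite (MulAut H) := Finite.of_injective _ MulEquiv.toEquiv_injective
            exact ⟨orderOf γ, orderOf_pos γ, pow_orderOf_eq_one γ⟩)).orderOf_pos, pow_orderOf_eq_one γ⟩
        refine ⟨a * E * a', ?_, ?_⟩
        · refine hE.transport (α := γ ^ (n - 1)) (hγ.pow _) (fun x => ?_) haa'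
          obtain ⟨y, rfl⟩ := γ.surjective x
          rw [← MulAut.mul_apply, ← pow_succ, Nat.sub_add_cancel hn, hγn, MulAut.one_apply]
          have := congrArg (fun G => a * G * a) (ha' y)
          simp only [← mul_assoc, haa', one_mul] at this
          simp only [mul_assoc, ha'a, mul_one] at this
          exact this.symm
        · rw [show a' * (a * E * a') * a = (a' * a) * E * (a' * a) by simp only [mul_assoc], ha'a, one_mul,
            mul_one]
      subst hEE'
      have := hF E' hE'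
      calc a' * F * a * (a' * E' * a) = a' * (F * E') * a := by
            rw [show a' * F * a * (a' * E' * a) = a' * F * ((a * a') * E' * a) by simp only [mul_assoc], haa',
              one_mul]
            simp only [mul_assoc]
        _ = a' * (E' * F) * a := by rw [this]
        _ = _ := by
            rw [show a' * E' * a * (a' * F * a) = a' * E' * ((a * a') * F * a) by simp only [mul_assoc], haa',
              one_mul]
            simp only [mul_assoc]
    have h2 := congrArg (fun G => a * G * a') h1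
    calc a * Q * a' * F = a * (Q * (a' * F * a)) * a' := by
          simp only [mul_assoc, haa', mul_one]
      _ = a * (a' * F * a * Q) * a' := h2
      _ = F * (a * Q * a') := by simp only [← mul_assoc, haa', one_mul]
  refine ⟨hdual hGb hA' hAA' hA'A hP.dual, by rw [hmul, hP.idem], fun e => hP.ne ?_, fun Q hQ hQi => ?_⟩
  · have := congrArg (fun F => A' * F * A) e
    simpa [mul_assoc, hA'A, ← mul_assoc A' A] using this
  · have hQ' : Dual τ G0 (A' * Q * A) := hdual hG hA hA'A hAA' hQ
    rcases hP.atom _ hQ' (by rw [hmul', hQi]) with h1 | h1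
    · left
      calc Q * (A * P * A') = A * (A' * Q * A * P) * A' := by
            rw [← hmul, hcan]
        _ = 0 := by rw [h1, mul_zero, zero_mul]
    · right
      calc Q * (A * P * A') = A * (A' * Q * A * P) * A' := by
            rw [← hmul, hcan]
        _ = _ := by rw [h1]

variable [FiniteDimensional K V]

theorem atom_card_le (S : Finset (Module.End K V)) (hS : ∀ P ∈ S, IsAtom' τ G0 P) :
    S.card ≤ Module.finrank K V := by
  classical
  have hv : ∀ P : S, ∃ v : V, (P : Module.End K V) v = v ∧ v ≠ 0 := fun P => by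
    by_contra h
    push Not at h
    refine (hS P P.2).ne (LinearMap.ext fun w => ?_)
    exact h _ (by rw [← Module.End.mul_apply, (hS P P.2).idem])
  choose v hv hv0 using hv
  have hind : LinearIndependent K v := by
    refine linearIndependent_iff'.2 fun t g hg i hi => ?_
    have := congrArg (i : Module.End K V) hg
    rw [map_sum, map_zero, Finset.sum_eq_single i] at this
    · rw [map_smul, hv i] at this
      exact (smul_eq_zero.1 this).resolve_right (hv0 i)
    · intro j _ hji
      rw [map_smul, ← hv j, ← Module.End.mul_apply, (hS i i.2).ortho (hS j j.2) fun e => hji (Subtype.ext e.symm)]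
      simp
    · intro h; exact absurd hi h
  simpa using hind.fintype_card_le_finrank

theorem atom_finite (τ : H →* Module.End K V) (G0 : Subgroup H) : {P | IsAtom' τ G0 P}.Finite := by
  by_contra hinf
  obtain ⟨S, hS, hcard⟩ := Set.Infinite.exists_subset_card_eq hinf (Module.finrank K V + 1)
  have := atom_card_le S fun P hP => hS hP
  omega

theorem exists_atom_le : ∀ (n : ℕ) {Q : Module.End K V}, Module.finrank K (LinearMap.range Q) ≤ n →
    Dual τ G0 Q → Q * Q = Q → Q ≠ 0 → ∃ P, IsAtom' τ G0 P ∧ Q * P = P := by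
  intro n
  induction n with
  | zero =>
    intro Q hn _ _ hQ0
    exact absurd (LinearMap.range_eq_bot.1 (Submodule.finrank_eq_zero.1 (Nat.le_zero.1 hn))) hQ0
  | succ n ih =>
    intro Q hn hQ hQi hQ0
    by_cases hat : ∀ Q', Dual τ G0 Q' → Q' * Q' = Q' → Q' * Q = 0 ∨ Q' * Q = Q
    · exact ⟨Q, ⟨hQ, hQi, hQ0, hat⟩, hQi⟩
    push Not at hat
    obtain ⟨Q', hQ', hQ'i, h0, h1⟩ := hat
    set Q1 := Q' * Q with hQ1
    have hc := hQ'.comm hQ
    have hQ1i : Q1 * Q1 = Q1 := by
      rw [hQ1, mul_assoc, ← mul_assoc Q Q', ← hc, mul_assoc Q', hQi, ← mul_assoc, hQ'i]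
    have hQQ1 : Q * Q1 = Q1 := by rw [hQ1, ← mul_assoc, ← hc, mul_assoc, hQi]
    have hlt : Module.finrank K (LinearMap.range Q1) < Module.finrank K (LinearMap.range Q) := by
      refine Submodule.finrank_lt_finrank_of_lt (lt_of_le_of_ne ?_ fun e => h1 ?_)
      · rintro _ ⟨v, rfl⟩
        exact ⟨Q1 v, congrArg (fun F : Module.End K V => F v) hQQ1⟩
      · refine LinearMap.ext fun v => ?_
        obtain ⟨w, hw⟩ := e.ge ⟨v, rfl⟩
        show Q1 v = Q v
        conv_lhs => rw [hQ1, Module.End.mul_apply, ← hw, hQ1, ← Module.End.mul_apply, ← mul_assoc Q' Q', hQ'i]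
        rw [← hw, hQ1]
    obtain ⟨P, hP, hle⟩ := ih (Q := Q1) (by omega) (hQ'.mul hQ) hQ1i h0
    exact ⟨P, hP, by rw [← hle, ← mul_assoc, hQQ1]⟩

theorem sum_atoms (τ : H →* Module.End K V) (G0 : Subgroup H) :
    ∑ P ∈ (atom_finite τ G0).toFinset, P = 1 := by
  classical
  set S := (atom_finite τ G0).toFinset with hS
  have hmem : ∀ P, P ∈ S ↔ IsAtom' τ G0 P := fun P => Set.Finite.mem_toFinset _
  have hmul : ∀ P ∈ S, (∑ P' ∈ S, P') * P = P := fun P hP => by
    rw [Finset.sum_mul, Finset.sum_eq_single P (fun P' hP' hne => ((hmem P').1 hP').ortho ((hmem P).1 hP) hne)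
      (fun h => absurd hP h), ((hmem P).1 hP).idem]
  have hidem : (∑ P' ∈ S, P') * (∑ P' ∈ S, P') = ∑ P' ∈ S, P' := by
    rw [Finset.mul_sum]; exact Finset.sum_congr rfl hmul
  by_contra hne
  have hd : Dual τ G0 (1 - ∑ P' ∈ S, P') := Dual.one.sub (Dual.sum S _ fun P hP => ((hmem P).1 hP).dual)
  obtain ⟨P, hP, hle⟩ := exists_atom_le _ le_rfl hd (by rw [sub_mul, mul_sub, mul_sub, one_mul, mul_one, one_mul, hidem]; simp)
    (sub_ne_zero.2 (Ne.symm hne))
  rw [sub_mul, one_mul, hmul P ((hmem P).2 hP), sub_self] at hle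
  exact hP.ne hle.symm

end idem

end Cfsg.Agent.TurullTwo
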