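import Cfsg.Agent.Lib.Solvable.HHLinear
import Cfsg.Agent.Lib.TurullTwo.Commutant
import Mathlib.LinearAlgebra.GeneralLinearGroup.AlgEquiv
import Mathlib.GroupTheory.GroupAction.Quotient

/-! A group which is abelian modulo the scalar subgroup of an irreducible representation: the basis of the
endomorphism algebra, the implementation of automorphisms and the operators attached to a commuting pair. -/

set_option autoImplicit false

open Module
open scoped commutatorElement

namespace Cfsg.Agent.TurullTwo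

variable {K : Type*} [Field K] {W : Type*} [AddCommGroup W] [Module K W] {Q : Type*} [Group Q]

/-- An irreducible representation with scalar subgroup `S` and abelian quotient by it. -/
structure Frame (ρ : Q →* Module.End K W) (S : Subgroup Q) (μ : Q → K) : Prop where
  irr : ∀ U : Submodule K W, (∀ t, ∀ v ∈ U, ρ t v ∈ U) → U = ⊥ ∨ U = ⊤
  scal : ∀ s ∈ S, ρ s = μ s • 1
  only : ∀ (t : Q) (c : K), ρ t = c • 1 → t ∈ S
  comm : ∀ u t : Q, ⁅u, t⁆ ∈ S

/-- An automorphism fixing the scalars. -/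
structure Twist (S : Subgroup Q) (μ : Q → K) (α : MulAut Q) : Prop where
  mem : ∀ s ∈ S, α s ∈ S
  val : ∀ s ∈ S, μ (α s) = μ s

omit [Field K] in
theorem Twist.one (S : Subgroup Q) (μ : Q → K) : Twist S μ 1 := ⟨fun _ h => h, fun _ _ => rfl⟩

omit [Field K] in
theorem Twist.mul {S : Subgroup Q} {μ : Q → K} {α β : MulAut Q} (ha : Twist S μ α) (hb : Twist S μ β) :
    Twist S μ (α * β) :=
  ⟨fun s hs => ha.mem _ (hb.mem s hs), fun s hs => (ha.val _ (hb.mem s hs)).trans (hb.val s hs)⟩

omit [Field K] in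
theorem Twist.pow {S : Subgroup Q} {μ : Q → K} {α : MulAut Q} (ha : Twist S μ α) :
    ∀ n : ℕ, Twist S μ (α ^ n)
  | 0 => by rw [pow_zero]; exact Twist.one S μ
  | n + 1 => by rw [pow_succ]; exact (ha.pow n).mul ha

variable {ρ : Q →* Module.End K W} {S : Subgroup Q} {μ : Q → K}

omit [Field K] in
theorem Twist.map_eq [Finite Q] {α : MulAut Q} (ha : Twist S μ α) : S.map α.toMonoidHom = S := by
  refine Subgroup.eq_of_le_of_card_ge ?_ ?_
  · rintro _ ⟨x, hx, rfl⟩; exact ha.mem x hx
  · rw [← Nat.card_congr (S.equivMapOfInjective α.toMonoidHom α.injective).toEquiv]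

namespace Frame

variable [IsAlgClosed K] [FiniteDimensional K W] [Nontrivial W] (h : Frame ρ S μ)
include h

omit [IsAlgClosed K] [FiniteDimensional K W] [Nontrivial W] in
theorem normal : S.Normal := ⟨fun s hs g => by
  rw [show g * s * g⁻¹ = ⁅g, s⁆ * s by rw [commutatorElement_def]; group]
  exact S.mul_mem (h.comm g s) hs⟩

omit [IsAlgClosed K] [FiniteDimensional K W] [Nontrivial W] in
theorem rep_out (t : Q) : ∃ c : K, ρ t = c • ρ (QuotientGroup.mk t : Q ⧸ S).out := by
  obtain ⟨s, hs⟩ := QuotientGroup.mk_out_eq_mul S t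
  refine ⟨μ (s : Q)⁻¹, ?_⟩
  rw [hs, map_mul, ← smul_mul_assoc, smul_mul_assoc, ← mul_smul_comm, ← mul_one (μ (s : Q)⁻¹ • ρ (s : Q))]
  have h1 : ρ (s : Q) * ρ (s : Q)⁻¹ = 1 := by rw [← map_mul, mul_inv_cancel, map_one]
  rw [h.scal _ (S.inv_mem s.2), mul_smul_comm, mul_one] at h1
  rw [mul_one, h1, mul_one]

omit [IsAlgClosed K] [FiniteDimensional K W] h in
theorem rho_ne_zero (t : Q) : ρ t ≠ 0 := fun e => by
  have : ρ t⁻¹ * ρ t = 1 := by rw [← map_mul, inv_mul_cancel, map_one]
  rw [e, mul_zero] at this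
  exact zero_ne_one this

/-- The representatives of `S` form a basis of the endomorphisms. -/
theorem exists_basis [Finite Q] :
    ∃ b : Basis (Q ⧸ S) K (Module.End K W), ∀ i : Q ⧸ S, b i = ρ i.out := by
  obtain ⟨hspan, hschur⟩ := HHLinear.span_eq_top_and_schur ρ h.irr
  have := h.normal
  let B : Q ⧸ S → Module.End K W := fun i => ρ i.out
  have hμ : ∀ u t : Q, ρ ⁅u, t⁆ = μ ⁅u, t⁆ • 1 := fun u t => h.scal _ (h.comm u t)
  have hρinv : ∀ t, ρ t⁻¹ * ρ t = 1 := fun t => by rw [← map_mul, inv_mul_cancel, map_one]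
  have hind : LinearIndependent K B := by
    refine HHLinear.linearIndependent_of_eigen
      (fun u : Q => LinearMap.mulLeft K (ρ u) * LinearMap.mulRight K (ρ u⁻¹)) B (fun i => Frame.rho_ne_zero (ρ := ρ) _)
      (fun i u => μ ⁅u, i.out⁆) (fun i u => ?_) ?_
    · change ρ u * (B i * ρ u⁻¹) = _
      rw [← map_mul, ← map_mul, show u * (i.out * u⁻¹) = ⁅u, i.out⁆ * i.out by
        rw [commutatorElement_def]; group, map_mul, hμ, smul_mul_assoc, one_mul]
    · intro i j hij
      rw [← i.out_eq', ← j.out_eq']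
      refine QuotientGroup.eq.2 ?_
      suffices hc : ∀ u, Commute (ρ (i.out⁻¹ * j.out)) (ρ u) by
        obtain ⟨c, hc⟩ := hschur _ hc
        exact h.only _ c hc
      intro u
      have h1 : μ ⁅u, i.out⁆ = μ ⁅u, j.out⁆ := congrFun hij u
      have e1 : ∀ t : Q, ρ u * ρ t = μ ⁅u, t⁆ • (ρ t * ρ u) := fun t => by
        rw [← map_mul, ← map_mul, show u * t = ⁅u, t⁆ * (t * u) by
          rw [commutatorElement_def]; group, map_mul, hμ, smul_mul_assoc, one_mul]
      have hc0 : μ ⁅u, i.out⁆ ≠ 0 := fun h0 => by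
        have := hμ u i.out
        rw [h0, zero_smul] at this
        exact Frame.rho_ne_zero (ρ := ρ) _ this
      have e2 : ρ i.out * (ρ u * ρ (i.out⁻¹ * j.out)) = ρ i.out * (ρ (i.out⁻¹ * j.out) * ρ u) := by
        refine smul_right_injective _ hc0 ?_
        change μ ⁅u, i.out⁆ • (ρ i.out * (ρ u * ρ (i.out⁻¹ * j.out))) =
          μ ⁅u, i.out⁆ • (ρ i.out * (ρ (i.out⁻¹ * j.out) * ρ u))
        rw [← mul_assoc, ← smul_mul_assoc, ← e1, mul_assoc, ← map_mul (ρ) i.out, mul_inv_cancel_left,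
          e1, ← h1, ← mul_assoc (ρ i.out), ← map_mul (ρ) i.out, mul_inv_cancel_left]
      have := congrArg (fun F => ρ i.out⁻¹ * F) e2
      simp only [← mul_assoc, hρinv, one_mul] at this
      exact this.symm
  have hBspan : ⊤ ≤ Submodule.span K (Set.range B) := by
    rw [← hspan, Submodule.span_le]
    rintro _ ⟨t, rfl⟩
    obtain ⟨c, hc⟩ := h.rep_out t
    rw [hc]
    exact Submodule.smul_mem _ c (Submodule.subset_span ⟨_, rfl⟩)
  exact ⟨Basis.mk hind hBspan, fun i => Basis.mk_apply _ _ i⟩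

/-- A twist is implemented by an operator. -/
theorem implement [Finite Q] {α : MulAut Q} (ha : Twist S μ α) :
    ∃ g g' : Module.End K W, g * g' = 1 ∧ g' * g = 1 ∧ ∀ t, g * ρ t = ρ (α t) * g := by
  obtain ⟨hspan, -⟩ := HHLinear.span_eq_top_and_schur ρ h.irr
  obtain ⟨b, hb⟩ := h.exists_basis
  let C₀ : Module.End K (Module.End K W) := b.constr K fun i => ρ (α i.out)
  have hC₀ : ∀ t, C₀ (ρ t) = ρ (α t) := by
    intro t
    obtain ⟨s, hs⟩ := QuotientGroup.mk_out_eq_mul S t
    set i : Q ⧸ S := QuotientGroup.mk t with hi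
    have ht : t = i.out * (s : Q)⁻¹ := by rw [hs, mul_inv_cancel_right]
    have hαt : α t = α i.out * α (s : Q)⁻¹ := by rw [← map_mul, ← ht]
    have hb' : C₀ (ρ i.out) = ρ (α i.out) := by rw [← hb, Basis.constr_basis]
    rw [hαt, map_mul, h.scal _ (ha.mem _ (S.inv_mem s.2)), ha.val _ (S.inv_mem s.2), mul_smul_comm, mul_one,
      ← hb', ← map_smul]
    congr 1
    conv_lhs => rw [ht, map_mul, h.scal _ (S.inv_mem s.2), mul_smul_comm, mul_one]
  have hCmul : ∀ F G, C₀ (F * G) = C₀ F * C₀ G := by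
    intro F G
    have hF : F ∈ Submodule.span K (Set.range ρ) := hspan ▸ Submodule.mem_top
    induction hF using Submodule.span_induction with
    | mem x hx =>
      obtain ⟨t, rfl⟩ := hx
      have hG : G ∈ Submodule.span K (Set.range ρ) := hspan ▸ Submodule.mem_top
      induction hG using Submodule.span_induction with
      | mem y hy => obtain ⟨u, rfl⟩ := hy; rw [← map_mul, hC₀, hC₀, hC₀, map_mul, map_mul]
      | zero => simp
      | add y z _ _ hy hz => rw [mul_add, map_add, map_add, hy, hz, mul_add]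
      | smul c y _ hy => rw [mul_smul_comm, map_smul, map_smul, hy, mul_smul_comm]
    | zero => simp
    | add y z _ _ hy hz => rw [add_mul, map_add, map_add, hy, hz, add_mul]
    | smul c y _ hy => rw [smul_mul_assoc, map_smul, map_smul, hy, smul_mul_assoc]
  have hC1 : C₀ 1 = 1 := by rw [← map_one ρ, hC₀, map_one]
  have hsurj : Function.Surjective C₀ := by
    rw [← LinearMap.range_eq_top, eq_top_iff, ← hspan, Submodule.span_le]
    rintro _ ⟨t, rfl⟩
    obtain ⟨u, rfl⟩ := α.surjective t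
    exact ⟨ρ u, hC₀ u⟩
  obtain ⟨T, hT⟩ := (AlgEquiv.ofBijective (AlgHom.ofLinearMap C₀ hC1 hCmul)
    ⟨LinearMap.injective_iff_surjective.2 hsurj, hsurj⟩).eq_linearEquivConjAlgEquiv
  refine ⟨T.toLinearMap, T.symm.toLinearMap, LinearMap.ext fun w => T.apply_symm_apply w,
    LinearMap.ext fun w => T.symm_apply_apply w, fun t => LinearMap.ext fun w => ?_⟩
  have h2 := congrArg (fun Φ : Module.End K W ≃ₐ[K] Module.End K W => Φ (ρ t) (T w)) hT
  simp only [LinearEquiv.conjAlgEquiv_apply] at h2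
  change C₀ (ρ t) (T w) = _ at h2
  rw [hC₀] at h2
  simpa using h2.symm

end Frame

/-- The operators attached to a commuting pair of twists. -/
structure Pair (ρ : Q →* Module.End K W) (θ δ : MulAut Q) (r : ℕ) (G D : Module.End K W) : Prop where
  pow : G ^ r = 1
  comm : G * D = D * G
  inj : Function.Injective D
  conjG : ∀ t, G * ρ t = ρ (θ t) * G
  conjD : ∀ t, D * ρ t = ρ (δ t) * D
  fix : ∀ v, G v = v → D v = v

theorem conj_pow {α : MulAut Q} {A : Module.End K W} (hA : ∀ t, A * ρ t = ρ (α t) * A) :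
    ∀ (n : ℕ) (t : Q), A ^ n * ρ t = ρ ((α ^ n) t) * A ^ n
  | 0, t => by simp
  | n + 1, t => by
    rw [pow_succ, mul_assoc, hA, ← mul_assoc, conj_pow hA n, mul_assoc, pow_succ α, MulAut.mul_apply]

variable {V : Type*} [AddCommGroup V] [Module K V]

theorem twist_mem {τ : Q →* Module.End K V} {α : MulAut Q} {X : Module.End K V} {g g' : Module.End K W}
    (hgg' : g * g' = 1) (hg'g : g' * g = 1) (hg : ∀ t, g * ρ t = ρ (α t) * g)
    (hX : ∀ t, X * τ t = τ (α t) * X) {f : W →ₗ[K] V} (hf : ∀ t, τ t ∘ₗ f = f ∘ₗ ρ t) (t : Q) :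
    τ t ∘ₗ (X ∘ₗ f ∘ₗ g') = (X ∘ₗ f ∘ₗ g') ∘ₗ ρ t := by
  obtain ⟨t', rfl⟩ := α.surjective t
  refine LinearMap.ext fun w => ?_
  have h1 : τ (α t') (X (f (g' w))) = X (τ t' (f (g' w))) :=
    (congrArg (fun F : Module.End K V => F (f (g' w))) (hX t')).symm
  have h2 : g' * ρ (α t') = ρ t' * g' := by
    calc g' * ρ (α t') = g' * (ρ (α t') * g) * g' := by rw [mul_assoc, mul_assoc, hgg', mul_one]
      _ = _ := by rw [← hg, ← mul_assoc g', hg'g, one_mul]
  change τ (α t') (X (f (g' w))) = X (f (g' (ρ (α t') w)))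
  rw [h1, show g' (ρ (α t') w) = ρ t' (g' w) from congrArg (fun F : Module.End K W => F w) h2]
  exact congrArg X (congrArg (fun F : W →ₗ[K] V => F (g' w)) (hf t'))

/-- The pair of operators of an embedded irreducible representation. -/
theorem Frame.exists_pair [IsAlgClosed K] [FiniteDimensional K W] [Nontrivial W] [FiniteDimensional K V]
    [Finite Q] (h : Frame ρ S μ) {θ δ : MulAut Q} (hθ : Twist S μ θ) (hδ : Twist S μ δ) (hθδ : θ * δ = δ * θ)
    {r o : ℕ} (hθr : θ ^ r = 1) (hδo : δ ^ o = 1) (hro : r.Coprime o) (τ : Q →* Module.End K V)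
    {X Y : Module.End K V} (hXτ : ∀ t, X * τ t = τ (θ t) * X) (hYτ : ∀ t, Y * τ t = τ (δ t) * Y)
    (hXY : X * Y = Y * X) (hXr : X ^ r = 1) (hYi : Function.Injective Y) (hXYfix : ∀ v, X v = v → Y v = v)
    {ι : W →ₗ[K] V} (hι : ι ≠ 0) (hint : ∀ t, τ t ∘ₗ ι = ι ∘ₗ ρ t) :
    ∃ G D : Module.End K W, Pair ρ θ δ r G D ∧
      ((∀ v, X v = v → v = 0) → ∀ v, G v = v → v = 0) := by
  obtain ⟨-, hschur⟩ := HHLinear.span_eq_top_and_schur ρ h.irr
  obtain ⟨g, g', hgg', hg'g, hg⟩ := h.implement hθ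
  obtain ⟨k, k', hkk', hk'k, hk⟩ := h.implement hδ
  have hcomm : g * k = k * g := by
    obtain ⟨c, hc⟩ := hschur (g' * k' * g * k) fun t => by
      have e1 : g * k * ρ t = ρ ((θ * δ) t) * (g * k) := by
        rw [mul_assoc, hk, ← mul_assoc, hg, mul_assoc, MulAut.mul_apply]
      have e2 : g' * k' * ρ ((θ * δ) t) = ρ t * (g' * k') := by
        have e3 : k * g * ρ t = ρ ((θ * δ) t) * (k * g) := by
          rw [mul_assoc, hg, ← mul_assoc, hk, mul_assoc, hθδ, MulAut.mul_apply]
        calc g' * k' * ρ ((θ * δ) t) = g' * k' * (ρ ((θ * δ) t) * (k * g)) * (g' * k') := by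
              simp only [mul_assoc]
              rw [← mul_assoc g g' k', hgg', one_mul, hkk', mul_one]
          _ = _ := by
              rw [← e3]
              simp only [← mul_assoc]
              rw [mul_assoc g' k' k, hk'k, mul_one, hg'g, one_mul]
      show g' * k' * g * k * ρ t = ρ t * (g' * k' * g * k)
      rw [show g' * k' * g * k * ρ t = g' * k' * (g * k * ρ t) by simp only [mul_assoc], e1, ← mul_assoc, e2]
      simp only [mul_assoc]
    have hgk : g * k = c • (k * g) := by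
      calc g * k = (k * g) * (g' * k' * g * k) := by
            simp only [← mul_assoc]
            rw [mul_assoc k g g', hgg', mul_one, hkk', one_mul]
        _ = c • (k * g) := by rw [hc, mul_smul_comm, mul_one]
    have hiter : ∀ n : ℕ, g ^ n * k = c ^ n • (k * g ^ n) := fun n => by
      induction n with
      | zero => simp
      | succ n ih =>
        rw [pow_succ g, mul_assoc, hgk, mul_smul_comm, ← mul_assoc, ih, smul_mul_assoc, mul_assoc, smul_smul,
          pow_succ']
    have hiter' : ∀ n : ℕ, g * k ^ n = c ^ n • (k ^ n * g) := fun n => by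
      induction n with
      | zero => simp
      | succ n ih =>
        rw [pow_succ k, ← mul_assoc, ih, smul_mul_assoc, mul_assoc, hgk, mul_smul_comm, ← mul_assoc, smul_smul,
          pow_succ]
    have hgc : Commute g g' := hgg'.trans hg'g.symm
    have hkc : Commute k k' := hkk'.trans hk'k.symm
    obtain ⟨a, ha⟩ := hschur (g ^ r) fun t => by
      show g ^ r * ρ t = ρ t * g ^ r
      rw [conj_pow hg, hθr, MulAut.one_apply]
    obtain ⟨b, hb⟩ := hschur (k ^ o) fun t => by
      show k ^ o * ρ t = ρ t * k ^ o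
      rw [conj_pow hk, hδo, MulAut.one_apply]
    have hk0 : k ≠ 0 := fun e => by rw [e, zero_mul] at hkk'; exact zero_ne_one hkk'
    have hg0 : g ≠ 0 := fun e => by rw [e, zero_mul] at hgg'; exact zero_ne_one hgg'
    have hgr0 : g ^ r ≠ 0 := fun e => by
      have := congrArg (fun F => F * g' ^ r) e
      simp only [← hgc.mul_pow, hgg', one_pow, zero_mul] at this
      exact one_ne_zero this
    have hko0 : k ^ o ≠ 0 := fun e => by
      have := congrArg (fun F => F * k' ^ o) e
      simp only [← hkc.mul_pow, hkk', one_pow, zero_mul] at this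
      exact one_ne_zero this
    have hcr : c ^ r = 1 := by
      have e := hiter r
      rw [ha, smul_mul_assoc, one_mul, mul_smul_comm, mul_one, smul_comm] at e
      have ha0 : a ≠ 0 := fun e0 => hgr0 (by rw [ha, e0, zero_smul])
      rw [(smul_right_injective (Module.End K W) ha0).eq_iff] at e
      exact smul_left_injective K hk0 (e.symm.trans (one_smul K k).symm)
    have hco : c ^ o = 1 := by
      have e := hiter' o
      rw [hb, smul_mul_assoc, one_mul, mul_smul_comm, mul_one, smul_comm] at e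
      have hb0 : b ≠ 0 := fun e0 => hko0 (by rw [hb, e0, zero_smul])
      rw [(smul_right_injective (Module.End K W) hb0).eq_iff] at e
      exact smul_left_injective K hg0 (e.symm.trans (one_smul K g).symm)
    have hc1 : c = 1 := by
      have := pow_gcd_eq_one.2 ⟨hcr, hco⟩
      rwa [hro, pow_one] at this
    rw [hgk, hc1, one_smul]
  have hcomm' : g' * k' = k' * g' := by
    calc g' * k' = g' * k' * (g * k) * (k' * g') := by
          simp only [mul_assoc]
          rw [← mul_assoc k k', hkk', one_mul, hgg', mul_one]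
      _ = g' * k' * (k * g) * (k' * g') := by rw [hcomm]
      _ = k' * g' := by
          simp only [mul_assoc]
          rw [← mul_assoc k' k, hk'k, one_mul, ← mul_assoc g' g, hg'g, one_mul]
  let U : Submodule K (W →ₗ[K] V) :=
    { carrier := {f | ∀ t, τ t ∘ₗ f = f ∘ₗ ρ t}
      add_mem' := fun {a b} ha hb t => by rw [LinearMap.comp_add, LinearMap.add_comp, ha t, hb t]
      zero_mem' := fun t => by simp
      smul_mem' := fun c f hf t => by rw [LinearMap.comp_smul, LinearMap.smul_comp, hf t] }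
  let Φ : Module.End K (W →ₗ[K] V) := (LinearMap.llcomp K W V V X) * (LinearMap.lcomp K V g')
  let Ψ : Module.End K (W →ₗ[K] V) := (LinearMap.llcomp K W V V Y) * (LinearMap.lcomp K V k')
  have hΦ : ∀ f, Φ f = X ∘ₗ f ∘ₗ g' := fun f => rfl
  have hΨ : ∀ f, Ψ f = Y ∘ₗ f ∘ₗ k' := fun f => rfl
  have hΦU : ∀ f ∈ U, Φ f ∈ U := fun f hf => twist_mem hgg' hg'g hg hXτ hf
  have hΨU : ∀ f ∈ U, Ψ f ∈ U := fun f hf => twist_mem hkk' hk'k hk hYτ hf
  have hΦΨ : ∀ f, Φ (Ψ f) = Ψ (Φ f) := fun f => LinearMap.ext fun w => by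
    show X (Y (f (k' (g' w)))) = Y (X (f (g' (k' w))))
    rw [← Module.End.mul_apply X, hXY, ← Module.End.mul_apply k', ← hcomm']
    rfl
  have : Nontrivial U := ⟨⟨⟨ι, hint⟩, 0, fun h => hι (congrArg Subtype.val h)⟩⟩
  obtain ⟨lam, hlam⟩ := Module.End.exists_eigenvalue (Φ.restrict hΦU)
  let E : Submodule K (W →ₗ[K] V) := U ⊓ Module.End.eigenspace Φ lam
  have hΨE : ∀ f ∈ E, Ψ f ∈ E := fun f hf => ⟨hΨU f hf.1, by
    show Ψ f ∈ Module.End.eigenspace Φ lam
    rw [Module.End.mem_eigenspace_iff, hΦΨ, Module.End.mem_eigenspace_iff.1 hf.2, map_smul]⟩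
  have : Nontrivial E := by
    obtain ⟨⟨f, hf⟩, hfe⟩ := hlam.exists_hasEigenvector
    refine ⟨⟨⟨f, hf, Module.End.mem_eigenspace_iff.2 ?_⟩, 0, fun e => hfe.2 (Subtype.ext ?_)⟩⟩
    · exact congrArg Subtype.val (Module.End.mem_eigenspace_iff.1 hfe.1)
    · exact (congrArg Subtype.val e :)
  obtain ⟨nu, hnu⟩ := Module.End.exists_eigenvalue (Ψ.restrict hΨE)
  obtain ⟨⟨f, hfU, hfΦ'⟩, hfe, hfne⟩ := hnu.exists_hasEigenvector
  have hΦf : Φ f = lam • f := Module.End.mem_eigenspace_iff.1 hfΦ'
  have hΨf : Ψ f = nu • f := congrArg Subtype.val (Module.End.mem_eigenspace_iff.1 hfe)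
  have hf0 : f ≠ 0 := fun e => hfne (Subtype.ext e)
  have hfinj : ∀ w, f w = 0 → w = 0 := by
    intro w hw
    rcases h.irr (LinearMap.ker f) (fun t v hv => by
      rw [LinearMap.mem_ker] at hv ⊢
      have := congrArg (fun F : W →ₗ[K] V => F v) (hfU t)
      simp only [LinearMap.comp_apply] at this
      rw [← this, hv, map_zero]) with e | e
    · exact (Submodule.mem_bot K).1 (e ▸ hw)
    · exact absurd (LinearMap.ker_eq_top.1 e) hf0
  have hfinj' : Function.Injective f := (injective_iff_map_eq_zero f).2 hfinj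
  have hXf : ∀ w, X (f w) = f ((lam • g) w) := fun w => by
    have := congrArg (fun F : W →ₗ[K] V => F (g w)) hΦf
    rw [hΦ] at this
    simp only [LinearMap.comp_apply, LinearMap.smul_apply] at this
    rw [← Module.End.mul_apply g', hg'g, Module.End.one_apply] at this
    rw [this, LinearMap.smul_apply, map_smul]
  have hYf : ∀ w, Y (f w) = f ((nu • k) w) := fun w => by
    have := congrArg (fun F : W →ₗ[K] V => F (k w)) hΨf
    rw [hΨ] at this
    simp only [LinearMap.comp_apply, LinearMap.smul_apply] at this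
    rw [← Module.End.mul_apply k', hk'k, Module.End.one_apply] at this
    rw [this, LinearMap.smul_apply, map_smul]
  refine ⟨lam • g, nu • k, ⟨?_, ?_, ?_, fun t => ?_, fun t => ?_, fun v hv => hfinj' ?_⟩, fun hX0 v hv => ?_⟩
  · refine LinearMap.ext fun w => hfinj' ?_
    have hp : ∀ n : ℕ, (X ^ n) (f w) = f (((lam • g) ^ n) w) := fun n => by
      induction n with
      | zero => rfl
      | succ n ih => rw [pow_succ', Module.End.mul_apply, ih, hXf, pow_succ', Module.End.mul_apply]
    rw [← hp, hXr]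
    rfl
  · rw [smul_mul_smul_comm, smul_mul_smul_comm, hcomm, mul_comm lam]
  · intro a b e
    have := congrArg f e
    rw [← hYf, ← hYf] at this
    exact hfinj' (hYi this)
  · rw [smul_mul_assoc, hg, mul_smul_comm]
  · rw [smul_mul_assoc, hk, mul_smul_comm]
  · rw [← hYf]
    exact hXYfix _ (by rw [hXf, hv])
  · exact hfinj v (hX0 _ (by rw [hXf, hv]))

end Cfsg.Agent.TurullTwo
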