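import Cfsg.Agent.Lib.CoprimeLength.NilSeries
import Cfsg.Agent.Lib.CoprimeHHS.Basic
import Mathlib.GroupTheory.Sylow
import Mathlib.GroupTheory.Commutator.Basic
import Mathlib.GroupTheory.NoncommCoprod

/-! Elementary group theory for the induction: coprime parts, unipotent action on an abelian section, centralised
residuals, chief sections. -/

set_option autoImplicit false

open scoped commutatorElement

namespace Cfsg.Agent.TurullTwo

open Cfsg.Agent.CoprimeHHS Cfsg.Agent.CoprimeLength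

variable {G : Type*} [Group G]

/-- An element has a power prime to `t` whose order is a power of `t`. -/
theorem exists_part [Finite G] {t : ℕ} (ht : t.Prime) (x : G) :
    ∃ m a : ℕ, m.Coprime t ∧ (x ^ m) ^ (t ^ a) = 1 := by
  obtain ⟨a, m, hm, he⟩ := Nat.exists_eq_pow_mul_and_not_dvd (orderOf_pos x).ne' t ht.ne_one
  refine ⟨m, a, (ht.coprime_iff_not_dvd.2 hm).symm, ?_⟩
  rw [← pow_mul, mul_comm m, ← he, pow_orderOf_eq_one]

/-- A preimage of an element of order prime to `n` can be chosen with order prime to `n`. -/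
theorem exists_coprime_lift {G' : Type*} [Group G'] [Finite G] {n : ℕ} (hn : n.Prime ∨ n = 1) (f : G →* G')
    {K : Subgroup G} {y : G'} (hy : y ∈ K.map f) (hyn : (orderOf y).Coprime n) :
    ∃ x ∈ K, (orderOf x).Coprime n ∧ f x = y := by
  obtain ⟨x, hx, rfl⟩ := hy
  rcases hn with hn | rfl
  · set a := (orderOf x).factorization n with ha
    obtain ⟨b, hb⟩ := exists_pow_eq_self_of_coprime (x := f x) (n := n ^ a) (hyn.symm.pow_left a)
    refine ⟨(x ^ n ^ a) ^ b, pow_mem (pow_mem hx _) _, ?_, by rw [map_pow, map_pow, hb]⟩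
    refine Nat.Coprime.coprime_dvd_left (orderOf_pow_dvd b) ?_
    rw [orderOf_pow, Nat.gcd_eq_right (Nat.ordProj_dvd (orderOf x) n)]
    exact (Nat.coprime_ordCompl hn (orderOf_pos x).ne').symm
  · exact ⟨x, hx, Nat.coprime_one_right _, rfl⟩

/-- Unipotent action of an element on an abelian section of coprime exponent. -/
theorem comm_mem_of_unipotent [Finite G] {N J : Subgroup G} (hJN : J ≤ N) (hcomm : ⁅N, N⁆ ≤ J) {z : G}
    (hzN : ∀ u ∈ N, z * u * z⁻¹ ∈ N) (hzJ : ∀ u ∈ J, z * u * z⁻¹ ∈ J) {p n : ℕ} (hzn : z ^ n = 1)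
    (hnp : n.Coprime p) (hexp : ∀ u ∈ N, ∃ a, u ^ (p ^ a) ∈ J) {u : ℕ → G} (h0 : u 0 ∈ N)
    (hstep : ∀ i, u (i + 1) = ⁅z, u i⁆) {k : ℕ} (hk : u k ∈ J) : ⁅z, u 0⁆ ∈ J := by
  have hmem : ∀ i, u i ∈ N := fun i => by
    induction i with
    | zero => exact h0
    | succ i ih =>
      rw [hstep, commutatorElement_def]
      exact mul_mem (hzN _ ih) (inv_mem ih)
  have key : ∀ v ∈ N, ⁅z, ⁅z, v⁆⁆ ∈ J → ⁅z, v⁆ ∈ J := by
    intro v hv hzz
    set w := ⁅z, v⁆ with hw
    have hwN : w ∈ N := by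
      rw [hw, commutatorElement_def]; exact mul_mem (hzN _ hv) (inv_mem hv)
    have hzv : z * v * z⁻¹ = w * v := by rw [hw, commutatorElement_def]; group
    -- conjugation modulo `J`
    have hJn : ∀ a ∈ N, ∀ b ∈ J, a * b * a⁻¹ ∈ J := fun a ha b hb => by
      rw [show a * b * a⁻¹ = ⁅a, b⁆ * b by rw [commutatorElement_def]; group]
      exact mul_mem (hcomm (Subgroup.commutator_mem_commutator ha (hJN hb))) hb
    have hit : ∀ i : ℕ, ∃ b ∈ J, z ^ i * v * (z ^ i)⁻¹ = b * w ^ i * v := by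
      intro i
      induction i with
      | zero => exact ⟨1, one_mem _, by simp⟩
      | succ i ih =>
        obtain ⟨b, hb, he⟩ := ih
        have hwi : ∀ l : ℕ, ∃ c ∈ J, z * w ^ l * z⁻¹ = c * w ^ l := by
          intro l
          induction l with
          | zero => exact ⟨1, one_mem _, by simp⟩
          | succ l ihl =>
            obtain ⟨c, hc, hce⟩ := ihl
            refine ⟨c * (w ^ l * ⁅z, w⁆ * (w ^ l)⁻¹), mul_mem hc (hJn _ (pow_mem hwN l) _ hzz), ?_⟩
            calc z * w ^ (l + 1) * z⁻¹ = (z * w ^ l * z⁻¹) * (z * w * z⁻¹) := by rw [pow_succ]; group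
              _ = c * w ^ l * (⁅z, w⁆ * w) := by rw [hce, commutatorElement_def]; group
              _ = _ := by rw [pow_succ]; group
        obtain ⟨c, hc, hce⟩ := hwi i
        refine ⟨z * b * z⁻¹ * c, mul_mem (hzJ b hb) hc, ?_⟩
        calc z ^ (i + 1) * v * (z ^ (i + 1))⁻¹ = z * (z ^ i * v * (z ^ i)⁻¹) * z⁻¹ := by
              rw [pow_succ']; group
          _ = z * b * z⁻¹ * (z * w ^ i * z⁻¹) * (z * v * z⁻¹) := by rw [he]; group
          _ = _ := by rw [hce, hzv, pow_succ]; group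
    obtain ⟨b, hb, he⟩ := hit n
    rw [hzn, inv_one, one_mul, mul_one] at he
    have hwn : w ^ n ∈ J := by
      have h1 : b * w ^ n = 1 := mul_right_cancel (b := v) (by rw [one_mul]; exact he.symm)
      rw [eq_inv_of_mul_eq_one_right h1]
      exact inv_mem hb
    obtain ⟨a, ha⟩ := hexp w hwN
    have h1 := Nat.gcd_eq_gcd_ab n (p ^ a)
    rw [hnp.pow_right a] at h1
    rw [show w = (w ^ n) ^ n.gcdA (p ^ a) * (w ^ (p ^ a)) ^ n.gcdB (p ^ a) by
      rw [← zpow_natCast, ← zpow_natCast w (p ^ a), ← zpow_mul, ← zpow_mul, ← zpow_add, ← h1]; simp]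
    exact mul_mem (zpow_mem hwn _) (zpow_mem ha _)
  induction k generalizing u with
  | zero =>
    rw [commutatorElement_def]
    exact mul_mem (hzJ _ hk) (inv_mem hk)
  | succ k ih =>
    have h1 := ih (u := fun i => u (i + 1)) (hmem 1) (fun i => hstep (i + 1)) hk (fun i => hmem (i + 1))
    simp only [Nat.zero_add, hstep] at h1
    exact key _ h0 h1

/-- The iterated commutators of an element with a member of a subgroup. -/
def iterComm (z c : G) : ℕ → G
  | 0 => c
  | i + 1 => ⁅z, iterComm z c i⁆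

theorem iterComm_mem {Y : Subgroup G} {z c : G} (hz : z ∈ Y) (hc : ∀ y ∈ Y, c * y * c⁻¹ ∈ Y) :
    ∀ i, iterComm z c (i + 1) ∈ Y.lowerCentralSeries i
  | 0 => by
    show ⁅z, c⁆ ∈ Y
    rw [commutatorElement_def, show z * c * z⁻¹ * c⁻¹ = z * (c * z⁻¹ * c⁻¹) by group]
    exact mul_mem hz (hc _ (inv_mem hz))
  | i + 1 => by
    rw [Subgroup.lowerCentralSeries_succ]
    show ⁅z, iterComm z c (i + 1)⁆ ∈ _
    rw [← commutatorElement_inv]
    exact inv_mem (Subgroup.commutator_mem_commutator (iterComm_mem hz hc i) hz)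

theorem iterComm_mem_normal {N : Subgroup G} {z c : G} (hzN : ∀ u ∈ N, z * u * z⁻¹ ∈ N) (hc : c ∈ N) :
    ∀ i, iterComm z c i ∈ N
  | 0 => hc
  | i + 1 => by
    show ⁅z, iterComm z c i⁆ ∈ N
    rw [commutatorElement_def]
    exact mul_mem (hzN _ (iterComm_mem_normal hzN hc i)) (inv_mem (iterComm_mem_normal hzN hc i))

/-- A residual which is a `t`-group centralised by the elements of order prime to `t` is trivial. -/
theorem res_eq_bot_of_centralized {Y : Type*} [Group Y] [Finite Y] {t : ℕ} (ht : t.Prime) {M : Subgroup Y}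
    [M.Normal] (hres : res (⊤ : Subgroup Y) ≤ M) (hM : IsPGroup t M)
    (hcent : ∀ z : Y, (orderOf z).Coprime t → ∀ x ∈ M, z * x = x * z) : res (⊤ : Subgroup Y) = ⊥ := by
  have := Fact.mk ht
  obtain ⟨P, hMP⟩ := hM.exists_le_sylow
  set S := Subgroup.closure {z : Y | (orderOf z).Coprime t} with hS
  have hgen : (P : Subgroup Y) ⊔ S = ⊤ := by
    rw [eq_top_iff]
    intro x _
    have hidx : ((P : Subgroup Y) ⊔ S).index = 1 := by
      by_contra h1
      obtain ⟨l, hl, hld⟩ := Nat.exists_prime_and_dvd h1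
      by_cases hlt : l = t
      · subst hlt
        exact P.not_dvd_index (hld.trans (Subgroup.index_dvd_of_le le_sup_left))
      · have hSn : S.Normal := by
          refine ⟨fun u hu g => ?_⟩
          have hle : S.map (MulAut.conj g).toMonoidHom ≤ S := by
            rw [hS, MonoidHom.map_closure, Subgroup.closure_le]
            rintro _ ⟨z, hz, rfl⟩
            refine Subgroup.subset_closure ?_
            show (orderOf (MulAut.conj g z)).Coprime t
            rwa [MulEquiv.orderOf_eq]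
          simpa using hle ⟨u, hu, rfl⟩
        have hp : IsPGroup t (Y ⧸ S) := by
          intro y
          obtain ⟨x, rfl⟩ := QuotientGroup.mk_surjective y
          refine ⟨(orderOf x).factorization t, ?_⟩
          rw [← QuotientGroup.mk_pow, QuotientGroup.eq_one_iff]
          refine Subgroup.subset_closure ?_
          show (orderOf _).Coprime t
          rw [orderOf_pow, Nat.gcd_eq_right (Nat.ordProj_dvd (orderOf x) t)]
          exact (Nat.coprime_ordCompl ht (orderOf_pos x).ne').symm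
        obtain ⟨a, ha⟩ := hp.exists_card_eq
        have h2 : l ∣ t ^ a := ha ▸ (Subgroup.index_eq_card S ▸ hld.trans (Subgroup.index_dvd_of_le le_sup_right))
        exact hlt ((Nat.prime_dvd_prime_iff_eq hl ht).1 (hl.dvd_of_dvd_pow h2))
    rw [Subgroup.index_eq_one.1 hidx]; trivial
  have hstep : ∀ X : Subgroup Y, X ≤ M → ∀ Z : Subgroup Y, X ≤ Z → ⁅X, (⊤ : Subgroup Y)⁆ ≤ ⁅Z, (P : Subgroup Y)⁆ := by
    intro X hXM Z hXZ
    rw [Subgroup.commutator_le]
    intro x hx y _
    have hy : y ∈ (P : Subgroup Y) ⊔ S := hgen ▸ Subgroup.mem_top y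
    have hSc : S ≤ Subgroup.centralizer (M : Set Y) := by
      rw [hS, Subgroup.closure_le]
      exact fun z hz => Subgroup.mem_centralizer_iff.2 fun a ha => (hcent z hz a ha).symm
    obtain ⟨p, hp, s, hs, rfl⟩ : ∃ p ∈ (P : Subgroup Y), ∃ s ∈ Subgroup.centralizer (M : Set Y), y = p * s := by
      have : (Subgroup.centralizer (M : Set Y)).Normal := by infer_instance
      obtain ⟨p, hp, s, hs, e⟩ := Subgroup.mem_sup_of_normal_right.1
        ((sup_le_sup_left hSc (P : Subgroup Y)) hy)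
      exact ⟨p, hp, s, hs, e.symm⟩
    have h1 : ⁅x, p * s⁆ = ⁅x, p⁆ := by
      rw [commutatorElement_def, commutatorElement_def, mul_inv_rev]
      have h2 : s * x⁻¹ * s⁻¹ = x⁻¹ := by
        rw [← Subgroup.mem_centralizer_iff.1 hs _ (inv_mem (hXM hx)), mul_inv_cancel_right]
      calc x * (p * s) * x⁻¹ * (s⁻¹ * p⁻¹) = x * p * (s * x⁻¹ * s⁻¹) * p⁻¹ := by group
        _ = _ := by rw [h2]
    rw [h1]
    exact Subgroup.commutator_mem_commutator (hXZ hx) hp
  obtain ⟨j, hj⟩ := exists_res_eq (⊤ : Subgroup Y)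
  have hkey : ∀ i, (⊤ : Subgroup Y).lowerCentralSeries (j + i) ≤ (P : Subgroup Y).lowerCentralSeries i ⊓ M := by
    intro i
    induction i with
    | zero => exact le_inf ((hj ▸ hres).trans hMP) (hj ▸ hres)
    | succ i ih =>
      refine le_inf ?_ ((Subgroup.lowerCentralSeries_antitone _ (Nat.le_add_right j (i + 1))).trans (hj ▸ hres))
      show (⊤ : Subgroup Y).lowerCentralSeries (j + i + 1) ≤ _
      rw [Subgroup.lowerCentralSeries_succ, Subgroup.lowerCentralSeries_succ]
      exact hstep _ (ih.trans inf_le_right) _ (ih.trans inf_le_left)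
  have hPn : Group.IsNilpotent (P : Subgroup Y) := P.isPGroup'.isNilpotent
  rw [Subgroup.isNilpotent_iff_lowerCentralSeries] at hPn
  obtain ⟨i, hi⟩ := hPn
  exact eq_bot_iff.2 ((iInf_le _ (j + i)).trans ((hkey i).trans (hi ▸ inf_le_left)))

/-- Two commuting nilpotent subgroups generate a nilpotent subgroup. -/
theorem isNilpotent_sup {A B : Subgroup G} (hA : Group.IsNilpotent A) (hB : Group.IsNilpotent B)
    (hAB : ∀ a ∈ A, ∀ b ∈ B, a * b = b * a) : Group.IsNilpotent ↥(A ⊔ B) := by
  let φ : A × B →* G := MonoidHom.noncommCoprod A.subtype B.subtype fun a b => hAB a a.2 b b.2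
  have hrange : φ.range = A ⊔ B := by
    refine le_antisymm ?_ (sup_le (fun a ha => ⟨(⟨a, ha⟩, 1), (show a * 1 = a from mul_one a)⟩) fun b hb => ⟨(1, ⟨b, hb⟩), (show 1 * b = b from one_mul b)⟩)
    rintro _ ⟨⟨a, b⟩, rfl⟩
    exact Subgroup.mul_mem_sup a.2 b.2
  rw [← hrange]
  exact Group.nilpotent_of_surjective φ.rangeRestrict φ.rangeRestrict_surjective

/-- A nilpotent subgroup acts trivially on a section in which it covers. -/
theorem le_of_chief {P B B0 : Subgroup G} [B0.Normal] (hP : Group.IsNilpotent P) (hBP : B ≤ P ⊔ B0)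
    (hB : B ≤ ⁅B, P⁆ ⊔ B0) : B ≤ B0 := by
  rw [Subgroup.isNilpotent_iff_lowerCentralSeries] at hP
  obtain ⟨n, hn⟩ := hP
  have key : ∀ i, B ≤ P.lowerCentralSeries i ⊔ B0 := by
    intro i
    induction i with
    | zero => exact hBP
    | succ i ih =>
      refine hB.trans (sup_le ?_ le_sup_right)
      rw [Subgroup.commutator_le]
      intro x hx y hy
      obtain ⟨a, ha, b, hb, rfl⟩ := Subgroup.mem_sup_of_normal_right.1 (ih hx)
      rw [show ⁅a * b, y⁆ = (a * ⁅b, y⁆ * a⁻¹) * ⁅a, y⁆ by simp only [commutatorElement_def]; group]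
      refine mul_mem (Subgroup.mem_sup_right ?_) (Subgroup.mem_sup_left ?_)
      · refine (inferInstance : B0.Normal).conj_mem _ ?_ a
        rw [commutatorElement_def, show b * y * b⁻¹ * y⁻¹ = b * (y * b⁻¹ * y⁻¹) by group]
        exact mul_mem hb ((inferInstance : B0.Normal).conj_mem _ (inv_mem hb) y)
      · rw [Subgroup.lowerCentralSeries_succ]
        exact Subgroup.commutator_mem_commutator ha hy
  exact (key n).trans (sup_le (hn ▸ bot_le) le_rfl)

end Cfsg.Agent.TurullTwo
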