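import Cfsg.Agent.Lib.TurullTwo.Group
import Cfsg.Agent.Lib.CoprimeHHS.Regular

/-! The recursion along the orbits of blocks: elements of the lower nilpotent series of the fixed subgroup which act
trivially on the moved blocks act trivially on all of them. -/

set_option autoImplicit false

open scoped commutatorElement

namespace Cfsg.Agent.TurullTwo

open Cfsg.Agent.CoprimeHHS Cfsg.Agent.CoprimeLength

variable {H : Type*} [Group H]

/-- A permuted set in which every orbit of `B` has exactly one fixed point and distinct fixed points have distinct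
stabilisers in `B`. -/
structure OSys {Ω : Type*} [MulAction H Ω] (s : MulAut H) (B : Subgroup H) (r : ℕ) (π : Equiv.Perm Ω) : Prop where
  equiv : ∀ (g : H) (i : Ω), π (g • i) = s g • π i
  pow : π ^ r = 1
  orbit : ∀ i : Ω, ∃ g ∈ B, π (g • i) = g • i
  unique : ∀ w : Ω, π w = w → ∀ g ∈ B, π (g • w) = g • w → g • w = w
  move : ∀ w : Ω, π w = w → ∃ g ∈ B, g • w ≠ w
  separate : ∀ w w' : Ω, π w = w → π w' = w' → (∀ g ∈ B, g • w = w ↔ g • w' = w') → w = w'

/-- A family of kernels of the stabilisers. -/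
structure OKer {Ω : Type*} [MulAction H Ω] (s : MulAut H) (π : Equiv.Perm Ω) (K : Ω → Subgroup H) : Prop where
  stab : ∀ i, ∀ h ∈ K i, h • i = i
  conj : ∀ (g : H) i, ∀ h ∈ K i, g * h * g⁻¹ ∈ K (g • i)
  map : ∀ i, ∀ h ∈ K i, s h ∈ K (π i)

theorem perm_pow_fix {Ω : Type*} {π : Equiv.Perm Ω} {i : Ω} (h : π i = i) : ∀ n : ℕ, (π ^ n) i = i
  | 0 => rfl
  | n + 1 => by rw [pow_succ, Equiv.Perm.mul_apply, h, perm_pow_fix h n]

theorem aut_pow_fix {s : MulAut H} {x : H} (h : s x = x) : ∀ n : ℕ, (s ^ n) x = x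
  | 0 => rfl
  | n + 1 => by rw [pow_succ, MulAut.mul_apply, h, aut_pow_fix h n]

/-- The end of the recursion: the residual has no room for elements seen on an abelian section. -/
theorem multi_final [Finite H] {C : Subgroup H} {k n t : ℕ} (hn : n.Prime ∨ n = 1) (ht : t.Prime)
    (htn : t ≠ n) {ι : Type*} {N : Subgroup H} [N.Normal] (J : ι → Subgroup H) (A : Set ι)
    (hpowJ : ∀ i ∈ A, ∀ u ∈ N, u ^ t ∈ J i)
    (hnormJ : ∀ (g : H), ∀ i ∈ A, ∃ j ∈ A, ∀ u ∈ J j, g * u * g⁻¹ ∈ J i)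
    (hXN : ∀ x ∈ R (k + 1) C, (orderOf x).Coprime n → x ∈ N)
    (hnormC : ∀ c ∈ C, ∀ x ∈ R (k + 1) C, c * x * c⁻¹ ∈ R (k + 1) C)
    (hcen : ∀ z ∈ R k C, (orderOf z).Coprime t → ∀ u ∈ N, ∀ i ∈ A, ⁅z, u⁆ ∈ J i) :
    ∀ x ∈ R (k + 1) C, (orderOf x).Coprime n → ∀ i ∈ A, x ∈ J i := by
  classical
  have := Fact.mk ht
  set L : Subgroup H := N ⊓ ⨅ (i : ι) (_ : i ∈ A), J i with hL
  have hLmem : ∀ u, u ∈ L ↔ u ∈ N ∧ ∀ i ∈ A, u ∈ J i := fun u => by
    simp only [hL, Subgroup.mem_inf, Subgroup.mem_iInf]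
  have hLn : L.Normal := ⟨fun u hu g => by
    rw [hLmem] at hu ⊢
    refine ⟨(inferInstance : N.Normal).conj_mem u hu.1 g, fun i hi => ?_⟩
    obtain ⟨j, hj, hjc⟩ := hnormJ g i hi
    exact hjc u (hu.2 j hj)⟩
  -- a prime for the remaining part
  obtain ⟨q, hq, hqt, hqn⟩ : ∃ q : ℕ, q.Prime ∧ q ≠ t ∧
      ∀ x : H, ∃ b, (orderOf (x ^ q ^ b)).Coprime n := by
    rcases hn with hn | rfl
    · refine ⟨n, hn, fun e => htn e.symm, fun x => ⟨(orderOf x).factorization n, ?_⟩⟩
      rw [orderOf_pow, Nat.gcd_eq_right (Nat.ordProj_dvd (orderOf x) n)]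
      exact (Nat.coprime_ordCompl hn (orderOf_pos x).ne').symm
    · by_cases ht2 : t = 2
      · exact ⟨3, Nat.prime_three, by omega, fun x => ⟨0, Nat.coprime_one_right _⟩⟩
      · exact ⟨2, Nat.prime_two, Ne.symm ht2, fun x => ⟨0, Nat.coprime_one_right _⟩⟩
  have := Fact.mk hq
  set Y := R k C with hY
  have hYC : Y ≤ C := R_le k C
  have hresY : R (k + 1) C = res Y := rfl
  let φ : Y →* H ⧸ L := (QuotientGroup.mk' L).comp Y.subtype
  let ψ : Y →* φ.range := φ.rangeRestrict
  have hψ : Function.Surjective ψ := φ.rangeRestrict_surjective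
  have hψ1 : ∀ y : Y, ψ y = 1 ↔ (y : H) ∈ L := fun y => by
    rw [Subtype.ext_iff]
    exact QuotientGroup.eq_one_iff (y : H)
  set R1 := res (⊤ : Subgroup φ.range) with hR1
  have hR1map : R1 = (res (⊤ : Subgroup Y)).map ψ := by
    rw [map_res, Subgroup.map_top_of_surjective _ hψ]
  have htop : (res (⊤ : Subgroup Y)).map Y.subtype = R (k + 1) C := by
    rw [map_res, ← MonoidHom.range_eq_map, Subgroup.range_subtype, hresY]
  set X := {y : Y | (y : H) ∈ R (k + 1) C ∧ (orderOf (y : H)).Coprime n} with hX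
  set A1 := (Subgroup.closure X).map ψ with hA1
  have : (Subgroup.closure X).Normal := ⟨fun u hu g => by
    have hle : (Subgroup.closure X).map (MulAut.conj g).toMonoidHom ≤ Subgroup.closure X := by
      rw [MonoidHom.map_closure]
      refine Subgroup.closure_mono ?_
      rintro _ ⟨y, hy, rfl⟩
      refine ⟨hnormC _ (hYC g.2) _ hy.1, ?_⟩
      show (orderOf (MulAut.conj (g : H) (y : H))).Coprime n
      rw [MulEquiv.orderOf_eq]; exact hy.2
    exact hle ⟨u, hu, rfl⟩⟩
  have hA1n : A1.Normal := Subgroup.Normal.map inferInstance ψ hψ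
  have hXN' : ∀ u ∈ Subgroup.closure X, (u : H) ∈ N := fun u hu => by
    induction hu using Subgroup.closure_induction with
    | mem y hy => exact hXN _ hy.1 hy.2
    | one => exact one_mem _
    | mul a b _ _ ha hb => exact mul_mem ha hb
    | inv a _ ha => exact inv_mem ha
  have hA1t : ∀ a ∈ A1, a ^ t = 1 := by
    rintro _ ⟨u, hu, rfl⟩
    rw [← map_pow, hψ1, hLmem]
    exact ⟨pow_mem (hXN' u hu) t, fun i hi => hpowJ i hi _ (hXN' u hu)⟩
  have hA1R : A1 ≤ R1 := by
    rw [hR1map]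
    refine Subgroup.map_mono ((Subgroup.closure_le _).2 fun y hy => ?_)
    obtain ⟨y', hy', he⟩ := htop.ge hy.1
    rwa [← Subtype.ext he]
  have hcz : ∀ z : φ.range, (orderOf z).Coprime t → ∀ a ∈ A1, z * a = a * z := by
    intro z hz
    rintro _ ⟨u, hu, rfl⟩
    obtain ⟨y, -, hy, rfl⟩ := exists_coprime_lift (n := t) (Or.inl ht) ψ (K := ⊤)
      (y := z) (by rw [Subgroup.map_top_of_surjective _ hψ]; trivial) hz
    rw [← commutatorElement_eq_one_iff_mul_comm, ← map_commutatorElement, hψ1, hLmem]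
    rw [← Subgroup.orderOf_coe] at hy
    exact ⟨by
      show ⁅(y : H), (u : H)⁆ ∈ N
      rw [commutatorElement_def]
      exact mul_mem ((inferInstance : N.Normal).conj_mem _ (hXN' u hu) _) (inv_mem (hXN' u hu)),
      fun i hi => hcen _ y.2 hy _ (hXN' u hu) i hi⟩
  have hcentral : R1 ≤ Subgroup.centralizer (A1 : Set φ.range) := by
    set Cz := Subgroup.centralizer (A1 : Set φ.range) with hCz
    have hp : IsPGroup t (φ.range ⧸ Cz) := by
      intro y
      obtain ⟨x, rfl⟩ := QuotientGroup.mk_surjective y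
      refine ⟨(orderOf x).factorization t, ?_⟩
      rw [← QuotientGroup.mk_pow, QuotientGroup.eq_one_iff, hCz, Subgroup.mem_centralizer_iff]
      intro a ha
      refine (hcz _ ?_ a ha).symm
      rw [orderOf_pow, Nat.gcd_eq_right (Nat.ordProj_dvd (orderOf x) t)]
      exact (Nat.coprime_ordCompl ht (orderOf_pos x).ne').symm
    have h1 : (R1.map (QuotientGroup.mk' Cz)) = ⊥ := by
      rw [hR1, map_res, Subgroup.map_top_of_surjective _ (QuotientGroup.mk'_surjective Cz), res_eq_bot]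
      exact (hp.of_equiv Subgroup.topEquiv.symm).isNilpotent
    intro x hx
    exact (QuotientGroup.eq_one_iff x).1 (Subgroup.mem_bot.1 (h1 ▸ Subgroup.mem_map_of_mem _ hx))
  have hpow : ∀ x ∈ R1, ∃ b, x ^ q ^ b ∈ A1 := by
    intro x hx
    rw [hR1map] at hx
    obtain ⟨y, hy, rfl⟩ := hx
    obtain ⟨b, hb⟩ := hqn (y : H)
    refine ⟨b, y ^ q ^ b, Subgroup.subset_closure ⟨?_, ?_⟩, map_pow _ _ _⟩
    · rw [Subgroup.coe_pow]
      exact pow_mem (htop.le (Subgroup.mem_map_of_mem _ hy)) _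
    · rwa [Subgroup.coe_pow]
  -- the residual is nilpotent
  have hR1nil : Group.IsNilpotent R1 := by
    have hle : (QuotientGroup.mk' (A1.subgroupOf R1)).ker ≤ Subgroup.center R1 := by
      rw [QuotientGroup.ker_mk']
      intro a ha
      rw [Subgroup.mem_subgroupOf] at ha
      exact Subgroup.mem_center_iff.2 fun g => Subtype.ext ((Subgroup.mem_centralizer_iff.1 (hcentral g.2) _ ha).symm)
    have hq1 : IsPGroup q (R1 ⧸ A1.subgroupOf R1) := by
      intro y
      obtain ⟨x, rfl⟩ := QuotientGroup.mk_surjective y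
      obtain ⟨b, hb⟩ := hpow x x.2
      refine ⟨b, ?_⟩
      rw [← QuotientGroup.mk_pow, QuotientGroup.eq_one_iff, Subgroup.mem_subgroupOf, Subgroup.coe_pow]
      exact hb
    have := hq1.isNilpotent
    exact Subgroup.isNilpotent_of_ker_le_center _ hle
  obtain ⟨P⟩ : Nonempty (Sylow q R1) := inferInstance
  have : R1.Normal := res_normal _
  have hPn : (P : Subgroup R1).Normal :=
    (Group.isNilpotent_of_finite_tfae.out 0 3 rfl rfl).1 hR1nil q inferInstance P
  have : Subsingleton (Sylow q R1) := @Unique.instSubsingleton _ (Sylow.unique_of_normal P hPn)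
  set Q := (P : Subgroup R1).map R1.subtype with hQ
  have hQn : Q.Normal := by
    have : (P : Subgroup R1).Characteristic := Sylow.characteristic_of_normal P hPn
    infer_instance
  have hPmem : ∀ x : R1, (∃ b, x ^ q ^ b = 1) → x ∈ (P : Subgroup R1) := by
    rintro x ⟨b, hb⟩
    have hz : IsPGroup q (Subgroup.zpowers x) := by
      obtain ⟨a, -, ha⟩ := (Nat.dvd_prime_pow hq).1 (orderOf_dvd_of_pow_eq_one hb)
      exact IsPGroup.of_card (n := a) (by rw [Nat.card_zpowers, ha])
    obtain ⟨P', hP'⟩ := hz.exists_le_sylow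
    rw [Subsingleton.elim P P']
    exact hP' (Subgroup.mem_zpowers x)
  -- the residual modulo the Sylow subgroup
  let mkQ := QuotientGroup.mk' Q
  have : (R1.map mkQ).Normal := Subgroup.Normal.map inferInstance mkQ (QuotientGroup.mk'_surjective Q)
  have hres2 : res (⊤ : Subgroup (φ.range ⧸ Q)) ≤ R1.map mkQ := by
    rw [hR1, map_res, Subgroup.map_top_of_surjective _ (QuotientGroup.mk'_surjective Q)]
  have hM : IsPGroup t (R1.map mkQ) := by
    rintro ⟨_, x, hx, rfl⟩
    obtain ⟨b, hb⟩ := hpow x hx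
    refine ⟨1, Subtype.ext ?_⟩
    rw [Subgroup.coe_pow, pow_one, ← map_pow, Subgroup.coe_one]
    refine (QuotientGroup.eq_one_iff _).2 ⟨⟨x ^ t, pow_mem hx t⟩, hPmem _ ⟨b, Subtype.ext ?_⟩, rfl⟩
    show (x ^ t) ^ q ^ b = 1
    rw [← pow_mul, mul_comm, pow_mul, hA1t _ hb]
  have hcentM : ∀ z : φ.range ⧸ Q, (orderOf z).Coprime t → ∀ u ∈ R1.map mkQ, z * u = u * z := by
    intro z hz u hu
    obtain ⟨z', -, hz', rfl⟩ := exists_coprime_lift (n := t) (Or.inl ht) mkQ (K := ⊤)
      (y := z) (by rw [Subgroup.map_top_of_surjective _ (QuotientGroup.mk'_surjective Q)]; trivial) hz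
    obtain ⟨x, hx, rfl⟩ := hu
    obtain ⟨b, hb⟩ := hpow x hx
    have hut : (mkQ x) ^ t = 1 := by
      obtain ⟨i, hi⟩ := hM ⟨mkQ x, x, hx, rfl⟩
      rw [← map_pow]
      refine (QuotientGroup.eq_one_iff _).2 ⟨⟨x ^ t, pow_mem hx t⟩, hPmem _ ⟨b, Subtype.ext ?_⟩, rfl⟩
      show (x ^ t) ^ q ^ b = 1
      rw [← pow_mul, mul_comm, pow_mul, hA1t _ hb]
    obtain ⟨c, hc⟩ := exists_pow_eq_self_of_coprime (x := mkQ x) (n := q ^ b)
      (Nat.Coprime.coprime_dvd_right (orderOf_dvd_of_pow_eq_one hut) (((Nat.coprime_primes hq ht).2 hqt).pow_left b))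
    rw [← hc, ← map_pow, ← map_pow, ← map_mul, ← map_mul, hcz z' hz' _ (pow_mem hb c)]
  have hbot := res_eq_bot_of_centralized ht (M := R1.map mkQ) hres2 hM hcentM
  have hRQ : R1 ≤ Q := by
    intro x hx
    refine (QuotientGroup.eq_one_iff x).1 (Subgroup.mem_bot.1 (hbot ▸ ?_))
    rw [← Subgroup.map_top_of_surjective _ (QuotientGroup.mk'_surjective Q), ← map_res]
    exact Subgroup.mem_map_of_mem _ hx
  intro x hx hxn i hi
  have hxY : x ∈ Y := res_le Y hx
  have ha : ψ ⟨x, hxY⟩ ∈ A1 := ⟨_, Subgroup.subset_closure ⟨hx, hxn⟩, rfl⟩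
  have hone : ψ ⟨x, hxY⟩ = 1 := by
    obtain ⟨u, hu, he⟩ := hRQ (hA1R ha)
    obtain ⟨b, hb⟩ := P.isPGroup' ⟨u, hu⟩
    have h1 : (ψ ⟨x, hxY⟩) ^ q ^ b = 1 := by
      rw [← he]
      exact congrArg (fun v : (P : Subgroup R1) => ((v : R1) : φ.range)) hb
    have h2 := pow_gcd_eq_one.2 ⟨hA1t _ ha, h1⟩
    rwa [((Nat.coprime_primes ht hq).2 (Ne.symm hqt)).pow_right b, pow_one] at h2
  exact (((hLmem x).1 ((hψ1 _).1 hone))).2 i hi

/-- The product of the first translates of an element. -/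
def orbitProd (s : MulAut H) (n : H) : ℕ → H
  | 0 => 1
  | i + 1 => orbitProd s n i * (s ^ i) n

theorem orbitProd_shift (s : MulAut H) (n : H) : ∀ i, n * s (orbitProd s n i) = orbitProd s n (i + 1)
  | 0 => by simp [orbitProd]
  | i + 1 => by
    show n * s (orbitProd s n i * (s ^ i) n) = orbitProd s n (i + 1) * (s ^ (i + 1)) n
    rw [map_mul, ← mul_assoc, orbitProd_shift s n i, ← MulAut.mul_apply, ← pow_succ']

set_option maxHeartbeats 1000000 in
/-- The recursion. -/
theorem multi [Finite H] [Group.IsSolvable H] {r : ℕ} {s : MulAut H} (hs : Cop r s) {B : Subgroup H} [B.Normal] (hBinv : Inv s B)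
    (hBC : ∀ h : H, ∃ b ∈ B, ∃ c, s c = c ∧ h = b * c) {Ω : Type*} [Finite Ω] [MulAction H Ω]
    {π : Equiv.Perm Ω} (hS : OSys s B r π) :
    ∀ (k n : ℕ), (n.Prime ∨ n = 1) → ∀ (K : Ω → Subgroup H), OKer s π K → ∀ A : Set Ω,
      (∀ (g : H), ∀ i ∈ A, g • i ∈ A) → (∀ i ∈ A, π i ∈ A) →
      (∀ x ∈ R k (fixed s), (orderOf x).Coprime n → ∀ b ∈ A, π b ≠ b → x ∈ K b) →
      ∀ x ∈ R k (fixed s), (orderOf x).Coprime n → ∀ w ∈ A, x ∈ K w := by
  intro k
  induction k using Nat.strong_induction_on with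
  | _ k ih =>
  intro n hn K hK A hAg hAπ hmov
  classical
  have hr := hs.prime
  set C := fixed s with hCdef
  have hCk : R k C ≤ C := R_le k C
  have hcC : ∀ {c : H}, c ∈ C → ∀ i, π (c • i) = c • π i := fun {c} hc i => by
    rw [hS.equiv, mem_fixed.1 hc]
  have hnormC : ∀ (m : ℕ), ∀ c ∈ C, ∀ x ∈ R m C, c * x * c⁻¹ ∈ R m C := fun m c hc x hx => by
    have h1 := map_R (MulAut.conj c).toMonoidHom C m
    have h2 : C.map (MulAut.conj c).toMonoidHom ≤ C := by
      rintro _ ⟨y, hy, rfl⟩; exact mul_mem (mul_mem hc hy) (inv_mem hc)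
    exact R_mono h2 m (h1 ▸ ⟨x, hx, rfl⟩)
  set X : Set H := {x | x ∈ R k C ∧ (orderOf x).Coprime n} with hX
  have hXC : ∀ x ∈ X, x ∈ C := fun x hx => hCk hx.1
  have hXconj : ∀ c ∈ C, ∀ x ∈ X, c * x * c⁻¹ ∈ X := fun c hc x hx =>
    ⟨hnormC k c hc x hx.1, by
      show (orderOf (MulAut.conj c x)).Coprime n
      rw [MulEquiv.orderOf_eq]; exact hx.2⟩
  set R' := Subgroup.closure X with hR'
  set N := Subgroup.normalClosure X with hNdef
  have hNn : N.Normal := Subgroup.normalClosure_normal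
  have hR'N : R' ≤ N := Subgroup.closure_le_normalClosure
  -- the elements of `N` fix the points of `A`
  have hXfix : ∀ x ∈ X, ∀ i ∈ A, x • i = i := by
    intro x hx i hi
    by_cases hπi : π i = i
    · obtain ⟨g, hg, hgi⟩ := hS.move i hπi
      have hbmov : π (g • i) ≠ g • i := fun e => hgi (hS.unique i hπi g hg e)
      have hxb : x • g • i = g • i := hK.stab _ _ (hmov x hx.1 hx.2 _ (hAg g i hi) hbmov)
      have hxi : π (x • i) = x • i := by rw [hcC (hXC x hx), hπi]
      have he : x • i = ((x * g * x⁻¹)⁻¹ * g) • i := by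
        have : (x * g) • i = g • i := by rw [mul_smul, hxb]
        rw [mul_smul _ g, ← this, ← mul_smul]
        congr 1
        group
      have hmem : (x * g * x⁻¹)⁻¹ * g ∈ B :=
        mul_mem (inv_mem ((inferInstance : B.Normal).conj_mem g hg x)) hg
      rw [he]
      exact hS.unique i hπi _ hmem (by rw [← he]; exact hxi)
    · exact hK.stab _ _ (hmov x hx.1 hx.2 i hi hπi)
  have hNfix : ∀ u ∈ N, ∀ i ∈ A, u • i = i := by
    intro u hu
    induction hu using Subgroup.closure_induction with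
    | mem y hy =>
      intro i hi
      obtain ⟨x, hx, hxy⟩ := Group.mem_conjugatesOfSet_iff.1 hy
      obtain ⟨g, rfl⟩ := isConj_iff.1 hxy
      rw [mul_smul, mul_smul, hXfix x hx _ (hAg g⁻¹ i hi), smul_inv_smul]
    | one => exact fun i _ => one_smul H i
    | mul a b _ _ ha hb => intro i hi; rw [mul_smul, hb i hi, ha i hi]
    | inv a _ ha => intro i hi; rw [inv_smul_eq_iff, ha i hi]
  -- generators
  have hgen : N ≤ Subgroup.closure {y | ∃ g ∈ B, ∃ x ∈ X, y = g * x * g⁻¹} := by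
    have hcl : (Subgroup.closure {y | ∃ g ∈ B, ∃ x ∈ X, y = g * x * g⁻¹}).Normal := by
      refine ⟨fun u hu h => ?_⟩
      induction hu using Subgroup.closure_induction with
      | mem y hy =>
        obtain ⟨g, hg, x, hx, rfl⟩ := hy
        obtain ⟨b, hb, c, hc, hbc⟩ := hBC (h * g)
        refine Subgroup.subset_closure ⟨b, hb, c * x * c⁻¹, hXconj c hc x hx, ?_⟩
        calc h * (g * x * g⁻¹) * h⁻¹ = (h * g) * x * (h * g)⁻¹ := by group
          _ = _ := by rw [hbc]; group
      | one => rw [mul_one, mul_inv_cancel]; exact one_mem _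
      | mul a b _ _ ha hb =>
        rw [show h * (a * b) * h⁻¹ = (h * a * h⁻¹) * (h * b * h⁻¹) by group]; exact mul_mem ha hb
      | inv a _ ha =>
        rw [show h * a⁻¹ * h⁻¹ = (h * a * h⁻¹)⁻¹ by group]; exact inv_mem ha
    exact Subgroup.normalClosure_le_normal fun x hx => Subgroup.subset_closure ⟨1, one_mem _, x, hx, by group⟩
  have hsN : ∀ u ∈ N, s u ∈ N := by
    intro u hu
    have hle : N.map s.toMonoidHom ≤ N := by
      rw [hNdef, Subgroup.map_normalClosure _ _ s.surjective]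
      refine Subgroup.normalClosure_mono ?_
      rintro _ ⟨x, hx, rfl⟩
      show s x ∈ X
      rwa [mem_fixed.1 (hXC x hx)]
    exact hle ⟨u, hu, rfl⟩
  -- it suffices to find no bad prime
  suffices hmain : ∀ w ∈ A, N ≤ K w from fun x hx hxn w hw =>
    hmain w hw (Subgroup.subset_normalClosure ⟨hx, hxn⟩)
  by_contra hcon
  push Not at hcon
  obtain ⟨w₁, hw₁, hNK⟩ := hcon
  set M₁ := (N ⊓ K w₁) ⊔ ⁅N, N⁆ with hM₁
  have hM₁N : ¬ N ≤ M₁ := by
    intro hle
    refine hNK fun u hu => ?_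
    set L := (K w₁).subgroupOf N with hL
    have : L.Normal := ⟨fun a ha g => by
      rw [hL, Subgroup.mem_subgroupOf] at ha ⊢
      have := hK.conj (g : H) w₁ _ ha
      rwa [hNfix _ g.2 w₁ hw₁] at this⟩
    have : Group.IsSolvable (N ⧸ L) := Group.isSolvable_of_surjective (QuotientGroup.mk'_surjective L)
    have hperf : commutator (N ⧸ L) = ⊤ := by
      rw [eq_top_iff]
      intro y _
      obtain ⟨v, rfl⟩ := QuotientGroup.mk_surjective y
      have hv := hle v.2
      have hmap : ∀ a ∈ M₁, ∀ ha : a ∈ N, QuotientGroup.mk' L ⟨a, ha⟩ ∈ commutator (N ⧸ L) := by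
        intro a ha haN
        have hsub : M₁ ≤ ((commutator (N ⧸ L)).comap (QuotientGroup.mk' L)).map N.subtype := by
          rw [hM₁]
          refine sup_le (fun z hz => ⟨⟨z, hz.1⟩, ?_, rfl⟩) (Subgroup.commutator_le.2 fun p hp q hq =>
            ⟨⁅(⟨p, hp⟩ : N), (⟨q, hq⟩ : N)⁆, ?_, rfl⟩)
          · refine Subgroup.mem_comap.2 ?_
            rw [show QuotientGroup.mk' L ⟨z, hz.1⟩ = 1 from (QuotientGroup.eq_one_iff _).2 hz.2]
            exact one_mem _
          · refine Subgroup.mem_comap.2 ?_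
            rw [map_commutatorElement]
            exact Subgroup.commutator_mem_commutator (Subgroup.mem_top _) (Subgroup.mem_top _)
        obtain ⟨⟨z, hz⟩, hz', rfl⟩ := hsub ha
        exact hz'
      exact hmap v hv v.2
    have hsub : Subsingleton (N ⧸ L) := by
      rcases subsingleton_or_nontrivial (N ⧸ L) with h | h
      · exact h
      · exact absurd hperf (Group.IsSolvable.commutator_lt_top_of_nontrivial _).ne
    exact Subgroup.mem_subgroupOf.1 ((QuotientGroup.eq_one_iff (N := L) (⟨u, hu⟩ : N)).1 (Subsingleton.elim _ _))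
  obtain ⟨y₁, hy₁, hy₁M⟩ : ∃ y ∈ {y | ∃ g ∈ B, ∃ x ∈ X, y = g * x * g⁻¹}, y ∉ M₁ := by
    by_contra hc
    push Not at hc
    exact hM₁N (hgen.trans ((Subgroup.closure_le _).2 hc))
  obtain ⟨g₁, hg₁, x₁, hx₁, rfl⟩ := hy₁
  obtain ⟨e₁, he₁, t, a₁, ht, ha₁⟩ := exists_prime_pow_power hy₁M
  set y' := (g₁ * x₁ * g₁⁻¹) ^ e₁ with hy'
  have hy'N : y' ∈ N := pow_mem (hNn.conj_mem _ (hR'N (Subgroup.subset_closure hx₁)) _) _
  have htn : t ≠ n := by
    rintro rfl
    have h1 : orderOf y' ∣ orderOf x₁ := by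
      refine (orderOf_pow_dvd e₁).trans ?_
      show orderOf (MulAut.conj g₁ x₁) ∣ _
      rw [MulEquiv.orderOf_eq]
    rcases Nat.eq_zero_or_pos a₁ with h0 | h0
    · rw [h0, pow_zero, orderOf_eq_one_iff] at ha₁
      exact he₁ (ha₁ ▸ one_mem _)
    · have h2 : t ∣ orderOf x₁ := (dvd_pow_self t h0.ne').trans (ha₁ ▸ h1)
      exact ht.ne_one (Nat.eq_one_of_dvd_coprimes hx₁.2 h2 dvd_rfl)
  have htcn : t.Coprime n := by
    rcases hn with hn | rfl
    · exact (Nat.coprime_primes ht hn).2 htn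
    · exact Nat.coprime_one_right t
  set J : Ω → Subgroup H := fun b =>
    ((N ⊓ K b) ⊔ ⁅N, N⁆) ⊔ Subgroup.closure ((fun u => u ^ t) '' (N : Set H)) with hJ
  have hJN : ∀ b, J b ≤ N := fun b => sup_le (sup_le inf_le_left (Subgroup.commutator_le_right N N))
    ((Subgroup.closure_le _).2 (by rintro _ ⟨u, hu, rfl⟩; exact pow_mem hu t))
  have hN'J : ∀ b, ⁅N, N⁆ ≤ J b := fun b => le_sup_right.trans le_sup_left
  have hpowJ : ∀ b, ∀ u ∈ N, u ^ t ∈ J b := fun b u hu =>
    Subgroup.mem_sup_right (Subgroup.subset_closure ⟨u, hu, rfl⟩)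
  have hJconj : ∀ (g : H) b, ∀ u ∈ J b, g * u * g⁻¹ ∈ J (g • b) := by
    intro g b
    suffices h : (J b).map (MulAut.conj g).toMonoidHom ≤ J (g • b) from fun u hu => h ⟨u, hu, rfl⟩
    simp only [hJ, Subgroup.map_sup]
    refine sup_le_sup (sup_le_sup ?_ ?_) ?_
    · rintro _ ⟨u, hu, rfl⟩
      exact ⟨hNn.conj_mem _ hu.1 g, hK.conj g b u hu.2⟩
    · rw [Subgroup.map_commutator]
      exact Subgroup.commutator_mono (fun _ ⟨u, hu, e⟩ => e ▸ hNn.conj_mem u hu g)
        (fun _ ⟨u, hu, e⟩ => e ▸ hNn.conj_mem u hu g)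
    · rw [MonoidHom.map_closure]
      refine Subgroup.closure_mono ?_
      rintro _ ⟨_, ⟨u, hu, rfl⟩, rfl⟩
      exact ⟨g * u * g⁻¹, hNn.conj_mem u hu g, by simp [conj_pow]⟩
  have hJconj' : ∀ (g : H) b u, g * u * g⁻¹ ∈ J (g • b) → u ∈ J b := fun g b u hu => by
    have := hJconj g⁻¹ _ _ hu
    rwa [inv_smul_smul, show g⁻¹ * (g * u * g⁻¹) * g⁻¹⁻¹ = u by group] at this
  have hJs : ∀ b, ∀ u ∈ J b, s u ∈ J (π b) := by
    intro b
    suffices h : (J b).map s.toMonoidHom ≤ J (π b) from fun u hu => h ⟨u, hu, rfl⟩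
    simp only [hJ, Subgroup.map_sup]
    refine sup_le_sup (sup_le_sup ?_ ?_) ?_
    · rintro _ ⟨u, hu, rfl⟩
      exact ⟨hsN _ hu.1, hK.map b u hu.2⟩
    · rw [Subgroup.map_commutator]
      exact Subgroup.commutator_mono (fun _ ⟨u, hu, e⟩ => e ▸ hsN u hu) (fun _ ⟨u, hu, e⟩ => e ▸ hsN u hu)
    · rw [MonoidHom.map_closure]
      refine Subgroup.closure_mono ?_
      rintro _ ⟨_, ⟨u, hu, rfl⟩, rfl⟩
      exact ⟨s u, hsN u hu, by simp⟩
  have hJnorm : ∀ b, ∀ v ∈ N, ∀ u ∈ J b, v * u * v⁻¹ ∈ J b := fun b v hv u hu => by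
    rw [show v * u * v⁻¹ = ⁅v, u⁆ * u by rw [commutatorElement_def]; group]
    exact mul_mem (hN'J b (Subgroup.commutator_mem_commutator hv (hJN b hu))) hu
  -- the elements of `R k C` in `N` lie in the moved `J`
  have htpart : ∀ b ∈ A, π b ≠ b → ∀ u ∈ R k C, u ∈ N → u ∈ J b := by
    intro b hb hπb u hu huN
    obtain ⟨m, a, hm, hma⟩ := exists_part ht u
    have hmem : u ^ m ∈ K b := hmov _ (pow_mem hu m)
      (Nat.Coprime.coprime_dvd_left (orderOf_dvd_of_pow_eq_one hma) (htcn.pow_left a)) b hb hπb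
    exact mem_of_coprime_pow hm (Subgroup.mem_sup_left (Subgroup.mem_sup_left ⟨pow_mem huN m, hmem⟩))
      (hpowJ b u huN)
  have hJw₁ : ¬ N ≤ J w₁ := by
    intro hle
    have hMn : (M₁.subgroupOf N).Normal := ⟨fun a ha g => by
      rw [Subgroup.mem_subgroupOf] at ha ⊢
      show (g : H) * a * (g : H)⁻¹ ∈ M₁
      rw [show (g : H) * a * (g : H)⁻¹ = ⁅(g : H), (a : H)⁆ * a by rw [commutatorElement_def]; group]
      exact mul_mem (Subgroup.mem_sup_right (Subgroup.commutator_mem_commutator g.2 a.2)) ha⟩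
    have hcomm : ∀ a b : N ⧸ M₁.subgroupOf N, a * b = b * a := fun a b => by
      induction a using QuotientGroup.induction_on with
      | H a =>
      induction b using QuotientGroup.induction_on with
      | H b =>
      rw [← commutatorElement_eq_one_iff_mul_comm]
      exact (QuotientGroup.eq_one_iff _).2
        (Subgroup.mem_sup_right (Subgroup.commutator_mem_commutator a.2 b.2) : ⁅(a : H), (b : H)⁆ ∈ M₁)
    let pw : (N ⧸ M₁.subgroupOf N) →* (N ⧸ M₁.subgroupOf N) :=
      { toFun := fun a => a ^ t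
        map_one' := one_pow t
        map_mul' := fun a b => (show Commute a b from hcomm a b).mul_pow t }
    have hsurj : Function.Surjective pw := by
      intro a
      obtain ⟨v, rfl⟩ := QuotientGroup.mk_surjective a
      have hsub : J w₁ ≤ (pw.range.comap (QuotientGroup.mk' (M₁.subgroupOf N))).map N.subtype := by
        simp only [hJ]
        refine sup_le (fun z hz => ?_) ((Subgroup.closure_le _).2 ?_)
        · have hzN : z ∈ N := (sup_le inf_le_left (Subgroup.commutator_le_right N N) : M₁ ≤ N) hz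
          refine ⟨⟨z, hzN⟩, ⟨1, ?_⟩, rfl⟩
          rw [map_one]
          exact ((QuotientGroup.eq_one_iff (⟨z, hzN⟩ : N)).2 hz).symm
        · rintro _ ⟨u, hu, rfl⟩
          exact ⟨⟨u, hu⟩ ^ t, ⟨QuotientGroup.mk ⟨u, hu⟩, rfl⟩, rfl⟩
      obtain ⟨v', hv', hv''⟩ := hsub (hle v.2)
      obtain ⟨a, ha⟩ := hv'
      exact ⟨a, ha.trans (congrArg _ (Subtype.ext hv''))⟩
    have hinj := Finite.injective_iff_surjective.2 hsurj
    have hit : ∀ (i : ℕ) (a : N ⧸ M₁.subgroupOf N), a ^ (t ^ i) = 1 → a = 1 := by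
      intro i
      induction i with
      | zero => intro a ha; rwa [pow_zero, pow_one] at ha
      | succ i ihh =>
        intro a ha
        rw [pow_succ', pow_mul] at ha
        exact hinj (show pw a = pw 1 by rw [map_one]; exact ihh _ ha)
    refine he₁ ((QuotientGroup.eq_one_iff (⟨y', hy'N⟩ : N)).1 (hit a₁ _ ?_))
    rw [← QuotientGroup.mk_pow, QuotientGroup.eq_one_iff]
    show y' ^ (t ^ a₁) ∈ M₁
    rw [← ha₁, pow_orderOf_eq_one]
    exact one_mem _
  -- one generator which is seen at a point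
  have hsee : ∀ b ∈ A, ¬ N ≤ J b → ∃ g ∈ B, ∃ x ∈ X, g * x * g⁻¹ ∉ J b := by
    intro b _ hb
    by_contra hc
    push Not at hc
    exact hb (hgen.trans ((Subgroup.closure_le _).2 (by rintro _ ⟨g, hg, x, hx, rfl⟩; exact hc g hg x hx)))
  have hsupp : ∀ (g : H) (x : H), x ∈ X → ∀ b ∈ A, g * x * g⁻¹ ∉ J b → π (g⁻¹ • b) = g⁻¹ • b := by
    intro g x hx b hb hn'
    by_contra hmv
    refine hn' ?_
    have h1 : x ∈ J (g⁻¹ • b) := Subgroup.mem_sup_left (Subgroup.mem_sup_left
      ⟨hR'N (Subgroup.subset_closure hx), hmov x hx.1 hx.2 _ (hAg _ b hb) hmv⟩)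
    have := hJconj g _ _ h1
    rwa [smul_inv_smul] at this
  have hpi : ∀ (g : H) (l : ℕ) i, (π ^ l) (g • i) = (s ^ l) g • (π ^ l) i := fun g l i => by
    induction l with
    | zero => rfl
    | succ l ihl => rw [pow_succ', Equiv.Perm.mul_apply, ihl, hS.equiv, Equiv.Perm.mul_apply,
        pow_succ' s, MulAut.mul_apply]
  -- the fixed element attached to a generator
  have hcex : ∀ g ∈ B, ∀ x ∈ X, ∃ c, c ∈ C ∧ c ∈ N ∧
      (∀ b, (∀ l < r, (s ^ l) (g * x * g⁻¹) ∈ J b) → c ∈ J b) ∧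
      (∀ b ∈ A, π b ≠ b → g * x * g⁻¹ ∉ J b → (g * x * g⁻¹)⁻¹ * c ∈ J b) := by
    intro g hg x hx
    set n' := g * x * g⁻¹ with hn'
    have hn'N : n' ∈ N := hNn.conj_mem _ (hR'N (Subgroup.subset_closure hx)) _
    have hsl : ∀ l : ℕ, (s ^ l) n' ∈ N := fun l => by
      induction l with
      | zero => exact hn'N
      | succ l ihl => rw [pow_succ', MulAut.mul_apply]; exact hsN _ ihl
    have hP : ∀ i, orbitProd s n' i ∈ N := fun i => by
      induction i with
      | zero => exact one_mem _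
      | succ i ihi => exact mul_mem ihi (hsl i)
    have hsh := orbitProd_shift s n' r
    rw [show orbitProd s n' (r + 1) = orbitProd s n' r * (s ^ r) n' from rfl, hs.pow_eq, MulAut.one_apply] at hsh
    set P := orbitProd s n' r with hPdef
    have hfix : P⁻¹ * s P ∈ ⁅N, N⁆ := by
      rw [show P⁻¹ * s P = ⁅P⁻¹, n'⁻¹⁆ by
        rw [commutatorElement_def, show s P = n'⁻¹ * (P * n') by rw [← hsh]; group]; group]
      exact Subgroup.commutator_mem_commutator (inv_mem (hP r)) (inv_mem hn'N)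
    obtain ⟨c, hcN, hsc, hPc⟩ := hs.exists_fixed (K := N) (N := ⁅N, N⁆) hsN (fun u hu => by
        have hle : (⁅N, N⁆).map s.toMonoidHom ≤ ⁅N, N⁆ := by
          rw [Subgroup.map_commutator]
          exact Subgroup.commutator_mono (fun _ ⟨u, hu, e⟩ => e ▸ hsN u hu) (fun _ ⟨u, hu, e⟩ => e ▸ hsN u hu)
        exact hle ⟨u, hu, rfl⟩)
      (Subgroup.commutator_le_right N N)
      (fun v hv => Subgroup.le_normalizer_of_normal (Subgroup.mem_top v)) (hP r) hfix
    refine ⟨c, hsc, hcN, fun b hall => ?_, fun b hb hπb hnb => ?_⟩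
    · have hPJ : ∀ i, i ≤ r → orbitProd s n' i ∈ J b := fun i => by
        induction i with
        | zero => exact fun _ => one_mem _
        | succ i ihi => exact fun hi => mul_mem (ihi (by omega)) (hall i (by omega))
      have := mul_mem (hPJ r le_rfl) (hN'J b hPc)
      rwa [mul_inv_cancel_left] at this
    · have hw : π (g⁻¹ • b) = g⁻¹ • b := hsupp g x hx b hb hnb
      have hother : ∀ l, 0 < l → l < r → (s ^ l) n' ∈ J b := by
        intro l hl0 hlr
        by_contra hnl
        have hsx : (s ^ l) x = x := aut_pow_fix (mem_fixed.1 (hXC x hx)) l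
        rw [hn', map_mul, map_mul, map_inv, hsx] at hnl
        have h2 := hsupp _ x hx b hb hnl
        set w := g⁻¹ • b with hwdef
        have hbw : b = g • w := (smul_inv_smul g b).symm
        have hlb : (π ^ l) b = (s ^ l) g • w := by rw [hbw, hpi, perm_pow_fix hw]
        have heq : ((s ^ l) g)⁻¹ • b = w := by
          have h3 : (π ^ l) (((s ^ l) g)⁻¹ • b) = ((s ^ l) g)⁻¹ • b := perm_pow_fix h2 l
          have hmemB : (s ^ l) g ∈ B := hBinv.pow l g hg
          rw [hbw, ← mul_smul]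
          refine hS.unique w hw _ (mul_mem (inv_mem hmemB) hg) ?_
          rw [mul_smul, ← hbw]
          exact h2
        have hfixl : (π ^ l) b = b := by rw [hlb, ← heq, smul_inv_smul]
        have hcop : l.Coprime r :=
          ((Nat.Prime.coprime_iff_not_dvd hr).2 fun hd => by have := Nat.le_of_dvd hl0 hd; omega).symm
        obtain ⟨m, hm⟩ := exists_pow_eq_self_of_coprime (x := π)
          (Nat.Coprime.coprime_dvd_right (orderOf_dvd_of_pow_eq_one hS.pow) hcop)
        exact hπb (by rw [← hm]; exact perm_pow_fix hfixl m)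
      have hPn : ∀ i, 1 ≤ i → i ≤ r → n'⁻¹ * orbitProd s n' i ∈ J b := fun i => by
        induction i with
        | zero => intro h; omega
        | succ i ihi =>
          intro _ hi
          rcases Nat.eq_zero_or_pos i with rfl | hi0
          · simp [orbitProd]
          · show n'⁻¹ * (orbitProd s n' i * (s ^ i) n') ∈ J b
            rw [← mul_assoc]
            exact mul_mem (ihi hi0 (by omega)) (hother i hi0 (by omega))
      have := mul_mem (hPn r hr.one_le le_rfl) (hN'J b hPc)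
      rwa [← hPdef, mul_assoc, mul_inv_cancel_left] at this
  have hcnot : ∀ {b : Ω} {m c : H}, m ∉ J b → m⁻¹ * c ∈ J b → c ∉ J b := fun {b m c} hm hmc hc => hm (by
    have := mul_mem hc (inv_mem hmc)
    rwa [mul_inv_rev, inv_inv, mul_inv_cancel_left] at this)
  have hR'J : ∀ x ∈ R', ∀ b ∈ A, π b ≠ b → x ∈ J b := fun x hx b hb hπb => by
    refine (Subgroup.closure_le _).2 ?_ hx
    intro y hy
    exact Subgroup.mem_sup_left (Subgroup.mem_sup_left
      ⟨Subgroup.subset_normalClosure hy, hmov y hy.1 hy.2 b hb hπb⟩)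
  rcases k with _ | k'
  · -- the bottom of the recursion
    obtain ⟨g, hg, x, hx, hxJ⟩ := hsee w₁ hw₁ hJw₁
    have hwf := hsupp g x hx w₁ hw₁ hxJ
    obtain ⟨g₂, hg₂, hne⟩ := hS.move _ hwf
    set w := g⁻¹ • w₁ with hw
    have hwA : w ∈ A := hAg _ _ hw₁
    have hxw : x ∉ J w := fun h => hxJ (by have := hJconj g _ _ h; rwa [smul_inv_smul] at this)
    have hbm : π (g₂ • w) ≠ g₂ • w := fun e => hne (hS.unique w hwf g₂ hg₂ e)
    have hnb : g₂ * x * g₂⁻¹ ∉ J (g₂ • w) := fun h => hxw (hJconj' g₂ w x h)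
    obtain ⟨c, hcC', hcN, -, hc⟩ := hcex g₂ hg₂ x hx
    exact hcnot hnb (hc _ (hAg _ _ hwA) hbm hnb) (htpart _ (hAg _ _ hwA) hbm c hcC' hcN)
  · -- the step
    set Y := R k' C with hY
    have hYC : Y ≤ C := R_le k' C
    have hres : R (k' + 1) C = res Y := rfl
    obtain ⟨j₀, hj₀⟩ := exists_res_eq Y
    let K' : Ω → Subgroup H := fun b =>
      { carrier := {h | h • b = b ∧ ∀ u ∈ N, ⁅h, u⁆ ∈ J b}
        one_mem' := ⟨one_smul H b, fun u _ => by simp⟩
        mul_mem' := fun {h₁ h₂} h1 h2 => ⟨by rw [mul_smul, h2.1, h1.1], fun u hu => by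
          rw [show ⁅h₁ * h₂, u⁆ = h₁ * ⁅h₂, u⁆ * h₁⁻¹ * ⁅h₁, u⁆ by simp only [commutatorElement_def]; group]
          refine mul_mem ?_ (h1.2 u hu)
          have := hJconj h₁ b _ (h2.2 u hu)
          rwa [h1.1] at this⟩
        inv_mem' := fun {h} h1 => by
          have hi : h⁻¹ • b = b := by rw [inv_smul_eq_iff]; exact h1.1.symm
          refine ⟨hi, fun u hu => ?_⟩
          rw [show ⁅h⁻¹, u⁆ = h⁻¹ * ⁅h, u⁆⁻¹ * h⁻¹⁻¹ by simp only [commutatorElement_def]; group]
          have := hJconj h⁻¹ b _ (inv_mem (h1.2 u hu))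
          rwa [hi] at this }
    have hK' : OKer s π K' := by
      refine ⟨fun i h hh => hh.1, fun g i h hh => ⟨?_, fun u hu => ?_⟩, fun i h hh => ⟨?_, fun u hu => ?_⟩⟩
      · rw [mul_smul, mul_smul, inv_smul_smul, hh.1]
      · rw [show ⁅g * h * g⁻¹, u⁆ = g * ⁅h, g⁻¹ * u * g⁻¹⁻¹⁆ * g⁻¹ by simp only [commutatorElement_def]; group]
        exact hJconj g i _ (hh.2 _ (hNn.conj_mem u hu g⁻¹))
      · rw [← hS.equiv, hh.1]
      · obtain ⟨v, rfl⟩ := s.surjective u
        rw [← map_commutatorElement]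
        refine hJs i _ (hh.2 v ?_)
        exact (Inv.symm_mem (s := s) hsN) hu
    set A' : Set Ω := {b | b ∈ A ∧ ¬ N ≤ J b} with hA'
    have hA'g : ∀ (g : H), ∀ i ∈ A', g • i ∈ A' := fun g i hi => ⟨hAg g i hi.1, fun hle => hi.2 fun u hu =>
      hJconj' g i u (hle (hNn.conj_mem u hu g))⟩
    have hA'π : ∀ i ∈ A', π i ∈ A' := fun i hi => ⟨hAπ i hi.1, fun hle => hi.2 fun u hu => by
      have hpow : ∀ (l : ℕ) (v : H), v ∈ J (π i) → (s ^ l) v ∈ J ((π ^ l) (π i)) := fun l v hv => by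
        induction l with
        | zero => exact hv
        | succ l ihl =>
          rw [pow_succ' s, MulAut.mul_apply, pow_succ' π, Equiv.Perm.mul_apply]; exact hJs _ _ ihl
      have := hpow (r - 1) (s u) (hle (hsN u hu))
      rwa [← MulAut.mul_apply, ← pow_succ, ← Equiv.Perm.mul_apply, ← pow_succ, Nat.sub_add_cancel hr.one_le,
        hs.pow_eq, hS.pow, MulAut.one_apply, Equiv.Perm.one_apply] at this⟩
    have hz' : ∀ z ∈ Y, (orderOf z).Coprime t → ∀ b ∈ A', π b ≠ b → z ∈ K' b := by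
      intro z hzY hzt b hbA hπb
      have hzC : z ∈ C := hYC hzY
      have hzπ : ∀ i, π (z • i) = z • π i := hcC hzC
      have hzm : ∀ b', π b' ≠ b' → π (z • b') ≠ z • b' := fun b' hb' e => hb' (by
        rw [hzπ] at e; exact smul_left_cancel z e)
      set Jm : Subgroup H := N ⊓ ⨅ (b' : Ω) (_ : b' ∈ A ∧ π b' ≠ b'), J b' with hJm
      have hcmod : ∀ c, c ∈ C → c ∈ N → ∀ b' ∈ A, π b' ≠ b' → ⁅z, c⁆ ∈ J b' := by
        intro c hcC' hcN b' hb' hπb'
        have hJmem : ∀ u, u ∈ Jm ↔ u ∈ N ∧ ∀ i, i ∈ A ∧ π i ≠ i → u ∈ J i := fun u => by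
          simp only [hJm, Subgroup.mem_inf, Subgroup.mem_iInf]
        have hzJ : ∀ u ∈ Jm, z * u * z⁻¹ ∈ Jm := by
          intro u hu
          rw [hJmem] at hu ⊢
          refine ⟨hNn.conj_mem u hu.1 z, fun i hi => ?_⟩
          have hmv : z⁻¹ • i ∈ A ∧ π (z⁻¹ • i) ≠ z⁻¹ • i := by
            refine ⟨hAg _ i hi.1, fun e => hi.2 ?_⟩
            have := congrArg (z • ·) e
            simpa [← hzπ] using this
          have := hJconj z _ _ (hu.2 _ hmv)
          rwa [smul_inv_smul] at this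
        have hend : iterComm z c (j₀ + 1) ∈ Jm := by
          rw [hJmem]
          have h1 : iterComm z c (j₀ + 1) ∈ N := iterComm_mem_normal (fun u hu => hNn.conj_mem u hu z) hcN _
          have h2 : iterComm z c (j₀ + 1) ∈ R (k' + 1) C := by
            rw [hres, hj₀]
            exact iterComm_mem hzY (fun y hy => hnormC k' c hcC' y hy) j₀
          exact ⟨h1, fun i hi => htpart i hi.1 hi.2 _ h2 h1⟩
        have := comm_mem_of_unipotent (N := N) (J := Jm) inf_le_left
          (le_inf (Subgroup.commutator_le_right N N) (le_iInf₂ fun i _ => hN'J i))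
          (fun u hu => hNn.conj_mem u hu z) hzJ (pow_orderOf_eq_one z) hzt
          (fun u hu => ⟨1, by
            rw [pow_one, hJmem]; exact ⟨pow_mem hu t, fun i _ => hpowJ i u hu⟩⟩)
          (u := iterComm z c) hcN (fun i => rfl) hend
        exact ((hJmem _).1 this).2 b' ⟨hb', hπb'⟩
      obtain ⟨g, hg, x, hx, hnb⟩ := hsee b hbA.1 hbA.2
      have hgen' : ∀ g ∈ B, ∀ x ∈ X, g * x * g⁻¹ ∉ J b → z • b = b ∧ ⁅z, g * x * g⁻¹⁆ ∈ J b := by
        intro g hg x hx hnb
        have hwf := hsupp g x hx b hbA.1 hnb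
        set w := g⁻¹ • b with hwdef
        have hbw : b = g • w := (smul_inv_smul g b).symm
        have hxw : x ∉ J w := fun h => hnb (by rw [hbw]; exact hJconj g _ _ h)
        have hwA : w ∈ A := hAg _ _ hbA.1
        -- where the translates of a moved point can go
        have hgo : ∀ g' ∈ B, g' • w ≠ w → ∃ l : ℕ, (z * g') • w = (s ^ l) g' • (z • w) := by
          intro g' hg' hne
          have hmv : π (g' • w) ≠ g' • w := fun e => hne (hS.unique w hwf g' hg' e)
          have hn2 : g' * x * g'⁻¹ ∉ J (g' • w) := fun h => hxw (hJconj' g' w x h)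
          obtain ⟨c, hcC', hcN, hcall, hc⟩ := hcex g' hg' x hx
          have hcb := hcnot hn2 (hc _ (hAg _ _ hwA) hmv hn2)
          have hzb : c ∉ J (z • g' • w) := by
            intro h
            refine hcb (hJconj' z _ _ ?_)
            have h1 := hcmod c hcC' hcN _ (hAg _ _ (hAg _ _ hwA)) (hzm _ hmv)
            rw [show z * c * z⁻¹ = ⁅z, c⁆ * c by rw [commutatorElement_def]; group]
            exact mul_mem h1 h
          obtain ⟨l, -, hl⟩ : ∃ l < r, (s ^ l) (g' * x * g'⁻¹) ∉ J (z • g' • w) := by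
            by_contra hcon
            push Not at hcon
            exact hzb (hcall _ hcon)
          refine ⟨l, ?_⟩
          rw [map_mul, map_mul, map_inv, aut_pow_fix (mem_fixed.1 (hXC x hx)) l] at hl
          have h2 := hsupp _ x hx _ (hAg _ _ (hAg _ _ hwA)) hl
          set p := ((s ^ l) g')⁻¹ • z • g' • w with hp
          have hzwf : π (z • w) = z • w := by rw [hzπ, hwf]
          have hpe : p = (((s ^ l) g')⁻¹ * (z * g' * z⁻¹)) • (z • w) := by
            rw [hp, mul_smul _ (z * g' * z⁻¹), mul_smul _ z⁻¹, mul_smul z g', inv_smul_smul]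
          have hpz : p = z • w := by
            rw [hpe]
            refine hS.unique _ hzwf _ (mul_mem (inv_mem (hBinv.pow l g' hg'))
              ((inferInstance : B.Normal).conj_mem g' hg' z)) ?_
            rw [← hpe]; exact h2
          rw [← hpz, hp, smul_inv_smul, mul_smul]
        have hzwf : π (z • w) = z • w := by rw [hzπ, hwf]
        -- equal stabilisers
        have hsub : ∀ g' ∈ B, g' • (z • w) = z • w → g' • w = w := by
          intro g' hg' hfix
          by_contra hne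
          obtain ⟨l, hl⟩ := hgo g' hg' hne
          have hfl : (s ^ l) g' • (z • w) = z • w := by
            rw [← perm_pow_fix hzwf l, ← hpi, hfix, perm_pow_fix hzwf l]
          rw [hfl, mul_smul] at hl
          exact hne (smul_left_cancel z hl)
        have hzw : z • w = w := by
          refine hS.separate _ _ hzwf hwf fun g' hg' => ⟨hsub g' hg', fun hfix => ?_⟩
          -- the converse by counting
          let f : {g' : H | g' ∈ B ∧ g' • (z • w) = z • w} → {g' : H | g' ∈ B ∧ g' • w = w} :=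
            fun a => ⟨a.1, a.2.1, hsub a.1 a.2.1 a.2.2⟩
          have hf : Function.Injective f := fun a b e => Subtype.ext (congrArg Subtype.val e :)
          let e : {g' : H | g' ∈ B ∧ g' • w = w} ≃ {g' : H | g' ∈ B ∧ g' • (z • w) = z • w} :=
            { toFun := fun a => ⟨z * a.1 * z⁻¹, (inferInstance : B.Normal).conj_mem _ a.2.1 z, by
                rw [mul_smul, mul_smul, inv_smul_smul, a.2.2]⟩
              invFun := fun a => ⟨z⁻¹ * a.1 * z⁻¹⁻¹, (inferInstance : B.Normal).conj_mem _ a.2.1 z⁻¹, by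
                rw [mul_smul, mul_smul, inv_inv, a.2.2, inv_smul_smul]⟩
              left_inv := fun a => Subtype.ext (by group)
              right_inv := fun a => Subtype.ext (by group) }
          obtain ⟨a, ha⟩ := ((Nat.bijective_iff_injective_and_card f).2 ⟨hf, Nat.card_congr e.symm⟩).2
            ⟨g', hg', hfix⟩
          rw [show g' = a.1 from (congrArg Subtype.val ha).symm]
          exact a.2.2
        have hmvb : g • w ≠ w := fun e => hπb (by rw [hbw, e, hwf])
        obtain ⟨l, hl⟩ := hgo g hg hmvb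
        rw [hzw, mul_smul, ← hbw] at hl
        have hzl : z • b = (π ^ l) b := by rw [hl, hbw, hpi, perm_pow_fix hwf l]
        have hiter : ∀ i : ℕ, z ^ i • b = (π ^ (l * i)) b := fun i => by
          induction i with
          | zero => simp
          | succ i ihi =>
            have hcomm : ∀ (i : ℕ) b', z ^ i • π b' = π (z ^ i • b') := fun i b' =>
              (hcC (pow_mem hzC i) b').symm
            have hcomm' : ∀ (i l : ℕ) b', z ^ i • (π ^ l) b' = (π ^ l) (z ^ i • b') := fun i l b' => by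
              induction l with
              | zero => rfl
              | succ l ihl => rw [pow_succ', Equiv.Perm.mul_apply, hcomm, ihl, Equiv.Perm.mul_apply]
            rw [pow_succ, mul_smul, hzl, hcomm', ihi, ← Equiv.Perm.mul_apply, ← pow_add, Nat.mul_succ,
              Nat.add_comm]
        have hfixl : (π ^ (l * orderOf z)) b = b := by rw [← hiter, pow_orderOf_eq_one, one_smul]
        have hzr : r.Coprime (orderOf z) :=
          Nat.Coprime.coprime_dvd_right (orderOf_dvd_natCard z) (hr.coprime_iff_not_dvd.2 hs.ndvd)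
        have hzb : z • b = b := by
          rw [hzl]
          by_contra hne
          have hnd : ¬ r ∣ l * orderOf z := fun hd => by
            rcases hr.dvd_mul.1 hd with hd | hd
            · obtain ⟨m, rfl⟩ := hd
              exact hne (by rw [pow_mul, hS.pow, one_pow]; rfl)
            · exact hr.ne_one (Nat.eq_one_of_dvd_coprimes hzr dvd_rfl hd)
          obtain ⟨m, hm⟩ := exists_pow_eq_self_of_coprime (x := π) (n := l * orderOf z)
            (Nat.Coprime.coprime_dvd_right (orderOf_dvd_of_pow_eq_one hS.pow)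
              ((hr.coprime_iff_not_dvd.2 hnd).symm))
          exact hπb (by rw [← hm]; exact perm_pow_fix hfixl m)
        refine ⟨hzb, ?_⟩
        -- the fixed element agrees with the generator at `b`
        obtain ⟨c, hcC', hcN, -, hc⟩ := hcex g hg x hx
        have hcb := hcmod c hcC' hcN b hbA.1 hπb
        have hj := hc b hbA.1 hπb hnb
        set n' := g * x * g⁻¹ with hn'
        have hjz : z * (n'⁻¹ * c)⁻¹ * z⁻¹ ∈ J b := by
          have := hJconj z b _ (inv_mem hj); rwa [hzb] at this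
        rw [show ⁅z, n'⁆ = ⁅z, c⁆ * (c * (z * (n'⁻¹ * c)⁻¹ * z⁻¹ * (n'⁻¹ * c)) * c⁻¹) by
          simp only [commutatorElement_def]; group]
        exact mul_mem hcb (hJnorm b c hcN _ (mul_mem hjz hj))
      have hzb := (hgen' g hg x hx hnb).1
      have hJz : ∀ u ∈ J b, z * u * z⁻¹ ∈ J b := fun u hu => by
        have := hJconj z b u hu; rwa [hzb] at this
      refine ⟨hzb, fun u hu => ?_⟩
      have hu' := hgen hu
      clear hu
      suffices h : u ∈ N ∧ ⁅z, u⁆ ∈ J b from h.2
      induction hu' using Subgroup.closure_induction with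
      | mem y hy =>
        obtain ⟨g', hg', x', hx', rfl⟩ := hy
        have hyN : g' * x' * g'⁻¹ ∈ N := hNn.conj_mem _ (hR'N (Subgroup.subset_closure hx')) _
        refine ⟨hyN, ?_⟩
        by_cases hin : g' * x' * g'⁻¹ ∈ J b
        · rw [commutatorElement_def]
          exact mul_mem (hJz _ hin) (inv_mem hin)
        · exact (hgen' g' hg' x' hx' hin).2
      | one => exact ⟨one_mem _, by simp⟩
      | mul a c _ _ ha hc =>
        refine ⟨mul_mem ha.1 hc.1, ?_⟩
        rw [show ⁅z, a * c⁆ = ⁅z, a⁆ * (a * ⁅z, c⁆ * a⁻¹) by simp only [commutatorElement_def]; group]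
        exact mul_mem ha.2 (hJnorm b a ha.1 _ hc.2)
      | inv a _ ha =>
        refine ⟨inv_mem ha.1, ?_⟩
        rw [show ⁅z, a⁻¹⁆ = a⁻¹ * ⁅z, a⁆⁻¹ * a⁻¹⁻¹ by simp only [commutatorElement_def]; group]
        exact hJnorm b _ (inv_mem ha.1) _ (inv_mem ha.2)
    have hrec := ih k' (Nat.lt_succ_self k') t (Or.inl ht) K' hK' A' hA'g hA'π hz'
    have hcen : ∀ z ∈ Y, (orderOf z).Coprime t → ∀ u ∈ N, ∀ w ∈ A, ⁅z, u⁆ ∈ J w := by
      intro z hz hzt u hu w hw
      by_cases hle : N ≤ J w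
      · refine hle ?_
        rw [commutatorElement_def]
        exact mul_mem (hNn.conj_mem u hu z) (inv_mem hu)
      · exact (hrec z hz hzt w ⟨hw, hle⟩).2 u hu
    -- the contradiction in the quotient of `Y`
    have hfin := multi_final (k := k') hn ht htn J A (fun i _ u hu => hpowJ i u hu)
      (fun g i hi => ⟨g⁻¹ • i, hAg _ i hi, fun u hu => by
        have := hJconj g _ _ hu; rwa [smul_inv_smul] at this⟩)
      (fun x hx hxn => Subgroup.subset_normalClosure ⟨hx, hxn⟩) (hnormC (k' + 1)) hcen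
    refine hJw₁ (hgen.trans ((Subgroup.closure_le _).2 ?_))
    rintro _ ⟨g, -, x, hx, rfl⟩
    have := hJconj g _ _ (hfin x hx.1 hx.2 (g⁻¹ • w₁) (hAg _ _ hw₁))
    rwa [smul_inv_smul] at this

end Cfsg.Agent.TurullTwo
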