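import Cfsg.Agent.Lib.TurullTwo.Family
import Cfsg.Agent.Lib.TurullTwo.Multi

/-! Either the elements fixing the fixed vectors act trivially, or the family of a normal subgroup commutes with
the whole of `B` and with the operator of order `r`. -/

set_option autoImplicit false

open scoped commutatorElement
open Cfsg.Agent.CoprimeHHS Cfsg.Agent.CoprimeLength

namespace Cfsg.Agent.TurullTwo

variable {H : Type*} [Group H] [Finite H] {K : Type*} [Field K] {V : Type*} [AddCommGroup V] [Module K V]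
  {r : ℕ} {s : MulAut H} {τ : H →* Module.End K V} {T : Module.End K V}

theorem Irr.T_pow_conj (h : Irr r s τ T) : ∀ (n : ℕ) (x : H), T ^ n * τ x = τ ((s ^ n) x) * T ^ n
  | 0, x => by simp
  | n + 1, x => by
    rw [pow_succ, mul_assoc, h.conj, ← mul_assoc, h.T_pow_conj n, mul_assoc, pow_succ s, MulAut.mul_apply]

variable [FiniteDimensional K V]

set_option maxHeartbeats 1000000 in
/-- The reduction to blocks which are fixed by everything. -/
theorem reduce [Group.IsSolvable H] (h : Irr r s τ T) {B B0 G0 : Subgroup H} [B.Normal] [B0.Normal] [G0.Normal]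
    (hBi : Inv s B) (hGi : Inv s G0) (hB0G : B0 ≤ G0) (hB0B : B0 ≤ B)
    (hBC : ∀ x : H, ∃ b ∈ B, ∃ c, s c = c ∧ x = b * c)
    (hfix : ∀ b ∈ B, s b = b → b ∈ B0) (hder : ∀ a ∈ B, ∀ b ∈ B, ⁅a, b⁆ ∈ B0) (k n : ℕ) (hn : n.Prime ∨ n = 1)
    (hhyp : ∀ x ∈ R k (fixed s), (orderOf x).Coprime n → ∀ v, T v = v → τ x v = v) :
    (∀ x ∈ R k (fixed s), (orderOf x).Coprime n → x = 1) ∨
      (∀ E, IsGen τ G0 E → T * E = E * T ∧ ∀ b ∈ B, τ b * E = E * τ b) := by
  classical
  set C := fixed s with hC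
  have hr := h.cop.prime
  have hτ1 : ∀ g : H, τ g * τ g⁻¹ = 1 ∧ τ g⁻¹ * τ g = 1 := fun g =>
    ⟨by rw [← map_mul, mul_inv_cancel, map_one], by rw [← map_mul, inv_mul_cancel, map_one]⟩
  have hconjg : ∀ g x : H, τ g * τ x = τ (MulAut.conj g x) * τ g := fun g x => by
    rw [← map_mul, ← map_mul]; congr 1; simp [MulAut.conj_apply]
  have hGc : ∀ g : H, Inv (MulAut.conj g) G0 := fun g x hx => (inferInstance : G0.Normal).conj_mem x hx g
  have hTs : ∀ x, T ^ (r - 1) * τ x = τ ((s ^ (r - 1)) x) * T ^ (r - 1) := h.T_pow_conj (r - 1)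
  -- the atoms
  let Ω := {P : Module.End K V // IsAtom' τ G0 P}
  haveI : Finite Ω := (atom_finite τ G0).to_subtype
  letI instΩ : MulAction H Ω :=
    { smul := fun g P => ⟨τ g * P.1 * τ g⁻¹, P.2.transport (hGc g) (hconjg g) (hτ1 g).1 (hτ1 g).2 (hGc g⁻¹)
        (hconjg g⁻¹)⟩
      one_smul := fun P => Subtype.ext (by
        show τ 1 * P.1 * τ 1⁻¹ = P.1
        rw [inv_one, map_one, one_mul, mul_one])
      mul_smul := fun g g' P => Subtype.ext (by
        show τ (g * g') * P.1 * τ (g * g')⁻¹ = τ g * (τ g' * P.1 * τ g'⁻¹) * τ g⁻¹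
        rw [mul_inv_rev, map_mul, map_mul]; simp only [mul_assoc]) }
  have hsmul : ∀ (g : H) (P : Ω), (g • P).1 = τ g * P.1 * τ g⁻¹ := fun g P => rfl
  obtain ⟨hT1, hT2⟩ := h.T_cancel
  let π : Equiv.Perm Ω :=
    { toFun := fun P => ⟨T * P.1 * T ^ (r - 1),
        P.2.transport hGi h.conj hT1 hT2 (hGi.pow (r - 1)) hTs⟩
      invFun := fun P => ⟨T ^ (r - 1) * P.1 * T,
        P.2.transport (hGi.pow (r - 1)) hTs hT2 hT1 hGi h.conj⟩
      left_inv := fun P => Subtype.ext (by
        show T ^ (r - 1) * (T * P.1 * T ^ (r - 1)) * T = P.1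
        rw [show T ^ (r - 1) * (T * P.1 * T ^ (r - 1)) * T = (T ^ (r - 1) * T) * P.1 * (T ^ (r - 1) * T) by
          simp only [mul_assoc], hT2, one_mul, mul_one])
      right_inv := fun P => Subtype.ext (by
        show T * (T ^ (r - 1) * P.1 * T) * T ^ (r - 1) = P.1
        rw [show T * (T ^ (r - 1) * P.1 * T) * T ^ (r - 1) = (T * T ^ (r - 1)) * P.1 * (T * T ^ (r - 1)) by
          simp only [mul_assoc], hT1, one_mul, mul_one]) }
  have hπ : ∀ P : Ω, (π P).1 = T * P.1 * T ^ (r - 1) := fun P => rfl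
  have hTP : ∀ P : Ω, T * P.1 = (π P).1 * T := fun P => by rw [hπ, mul_assoc, hT2, mul_one]
  have hπl : ∀ (l : ℕ) (P : Ω), T ^ l * P.1 = ((π ^ l) P).1 * T ^ l := fun l P => by
    induction l with
    | zero => simp
    | succ l ih => rw [pow_succ', mul_assoc, ih, ← mul_assoc, hTP, pow_succ' π, Equiv.Perm.mul_apply, mul_assoc]
  have hπr : π ^ r = 1 := Equiv.ext fun P => Subtype.ext (by
    have := hπl r P
    rw [h.pow, one_mul, mul_one] at this
    exact this.symm)
  have hequiv : ∀ (g : H) (P : Ω), π (g • P) = s g • π P := fun g P => Subtype.ext (by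
    rw [hπ, hsmul, hsmul, hπ, ← mul_assoc T, ← mul_assoc T, h.conj, mul_assoc _ (τ g⁻¹)]
    have h1 : τ g⁻¹ * T ^ (r - 1) = T ^ (r - 1) * τ (s g)⁻¹ := by
      rw [hTs]
      congr 2
      have hs1 : (s ^ (r - 1)) (s g) = g := by
        rw [← MulAut.mul_apply, ← pow_succ, Nat.sub_add_cancel hr.one_le, h.cop.pow_eq, MulAut.one_apply]
      rw [map_inv, hs1]
    rw [h1]; simp only [mul_assoc])
  have hG0fix : ∀ g ∈ G0, ∀ P : Ω, g • P = P := fun g hg P => Subtype.ext (by
    rw [hsmul, ← P.2.dual.comm_tau hg, mul_assoc, (hτ1 g).1, mul_one])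
  -- elements fixing the fixed vectors act trivially on the moved atoms
  have hmove : ∀ d ∈ C, (∀ v, T v = v → τ d v = v) → ∀ P : Ω, π P ≠ P →
      τ d * P.1 = P.1 ∧ P.1 * τ d = P.1 := by
    intro d hdC hd P hP
    have hinj : ∀ l < r, ∀ l' < r, (π ^ l) P = (π ^ l') P → l = l' := by
      intro l hl l' hl' e
      by_contra hne
      wlog hlt : l' < l generalizing l l' with H
      · exact H l' hl' l hl e.symm (Ne.symm hne) (by omega)
      have hf : (π ^ (l - l')) P = P := (π ^ l').injective (by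
        rw [← Equiv.Perm.mul_apply, ← pow_add, Nat.add_sub_cancel' hlt.le, e])
      have hcop : (l - l').Coprime r :=
        (hr.coprime_iff_not_dvd.2 fun hd => by have := Nat.le_of_dvd (by omega) hd; omega).symm
      obtain ⟨m, hm⟩ := exists_pow_eq_self_of_coprime (x := π)
        (Nat.Coprime.coprime_dvd_right (orderOf_dvd_of_pow_eq_one hπr) hcop)
      exact hP (by rw [← hm]; exact perm_pow_fix hf m)
    -- the fixed vector over `P`
    have hw : ∀ v : V, T (∑ l ∈ Finset.range r, (T ^ l) (P.1 v)) = ∑ l ∈ Finset.range r, (T ^ l) (P.1 v) := by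
      intro v
      rw [map_sum]
      obtain ⟨r', hr'⟩ : ∃ r', r = r' + 1 := ⟨r - 1, (Nat.sub_add_cancel hr.one_le).symm⟩
      rw [hr', Finset.sum_range_succ, Finset.sum_range_succ' (fun l => (T ^ l) (P.1 v))]
      congr 1
      · exact Finset.sum_congr rfl fun l _ => by rw [pow_succ' T, Module.End.mul_apply]
      · rw [← Module.End.mul_apply T, ← pow_succ', ← hr', h.pow, pow_zero]
    have hproj : ∀ (Q : Ω) (v : V) (l : ℕ), Q.1 ((T ^ l) (P.1 v)) = if (π ^ l) P = Q then (T ^ l) (P.1 v) else 0 := by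
      intro Q v l
      rw [← Module.End.mul_apply (T ^ l), hπl]
      split_ifs with e
      · rw [← e, Module.End.mul_apply, ← Module.End.mul_apply, ((π ^ l) P).2.idem]
      · rw [Module.End.mul_apply, ← Module.End.mul_apply, Q.2.ortho ((π ^ l) P).2 fun e' => e (Subtype.ext e'.symm)]
        rfl
    have hkey : ∀ (v : V), (d • P).1 (∑ l ∈ Finset.range r, (T ^ l) (P.1 v)) = τ d (P.1 v) := by
      intro v
      conv_lhs => rw [← hd _ (hw v)]
      rw [hsmul, Module.End.mul_apply, tau_inv_cancel, Module.End.mul_apply, map_sum, Finset.sum_eq_single 0]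
      · rw [pow_zero, Module.End.one_apply, ← Module.End.mul_apply P.1, P.2.idem]
      · intro l hl hl0
        rw [hproj P v l, if_neg fun e => hl0 (hinj l (Finset.mem_range.1 hl) 0 hr.pos (by rw [e]; rfl))]
      · intro h0; exact absurd (Finset.mem_range.2 hr.pos) h0
    obtain ⟨v₀, hv₀⟩ : ∃ v, P.1 v ≠ 0 := by
      by_contra hc
      push Not at hc
      exact P.2.ne (LinearMap.ext hc)
    obtain ⟨l, hl, hdl⟩ : ∃ l < r, (π ^ l) P = d • P := by
      by_contra hc
      push Not at hc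
      have := hkey v₀
      rw [map_sum, Finset.sum_eq_zero fun l hl => by rw [hproj, if_neg (hc l (Finset.mem_range.1 hl))]] at this
      exact hv₀ (by rw [← tau_inv_cancel τ d (P.1 v₀), ← this, map_zero])
    have hdiso : ∀ i : ℕ, d ^ i • P = (π ^ (l * i)) P := fun i => by
      induction i with
      | zero => simp
      | succ i ih =>
        have hcomm : ∀ (m : ℕ) (Q : Ω), (π ^ m) (d • Q) = d • (π ^ m) Q := fun m Q => by
          induction m with
          | zero => rfl
          | succ m ihm =>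
            rw [pow_succ', Equiv.Perm.mul_apply, ihm, hequiv, mem_fixed.1 hdC, Equiv.Perm.mul_apply]
        rw [pow_succ', mul_smul, ih, ← hcomm, ← hdl, ← Equiv.Perm.mul_apply, ← pow_add, Nat.mul_succ]
    have hfl : (π ^ (l * orderOf d)) P = P := by rw [← hdiso, pow_orderOf_eq_one, one_smul]
    have hdP : d • P = P := by
      rw [← hdl]
      have hzr : r.Coprime (orderOf d) :=
        Nat.Coprime.coprime_dvd_right (orderOf_dvd_natCard d) (hr.coprime_iff_not_dvd.2 h.cop.ndvd)
      rcases Nat.eq_zero_or_pos l with rfl | hl0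
      · rfl
      exfalso
      have hnd : ¬ r ∣ l * orderOf d := fun hd' => by
        rcases hr.dvd_mul.1 hd' with hd' | hd'
        · have := Nat.le_of_dvd hl0 hd'; omega
        · exact hr.ne_one (Nat.eq_one_of_dvd_coprimes hzr dvd_rfl hd')
      obtain ⟨m, hm⟩ := exists_pow_eq_self_of_coprime (x := π) (n := l * orderOf d)
        (Nat.Coprime.coprime_dvd_right (orderOf_dvd_of_pow_eq_one hπr) ((hr.coprime_iff_not_dvd.2 hnd).symm))
      exact hP (by rw [← hm]; exact perm_pow_fix hfl m)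
    have h1 : τ d * P.1 = P.1 := by
      refine LinearMap.ext fun v => ?_
      rw [Module.End.mul_apply, ← hkey v, hdP, map_sum, Finset.sum_eq_single 0]
      · rw [pow_zero, Module.End.one_apply, ← Module.End.mul_apply P.1, P.2.idem]
      · intro l' hl' hl0
        rw [hproj P v l', if_neg fun e => hl0 (hinj l' (Finset.mem_range.1 hl') 0 hr.pos (by rw [e]; rfl))]
      · intro h0; exact absurd (Finset.mem_range.2 hr.pos) h0
    refine ⟨h1, ?_⟩
    have h2 : (d • P).1 = P.1 := by rw [hdP]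
    rw [hsmul, h1] at h2
    conv_lhs => rw [← h2]
    rw [mul_assoc, (hτ1 d).2, mul_one]
  -- the trivial outcome
  have hsum : ∑ P ∈ (atom_finite τ G0).toFinset, P = 1 := sum_atoms τ G0
  have hone : ∀ d : H, (∀ P : Ω, τ d * P.1 = P.1) → d = 1 := fun d hd => h.inj (by
    rw [map_one]
    calc τ d = τ d * ∑ P ∈ (atom_finite τ G0).toFinset, P := by rw [hsum, mul_one]
      _ = 1 := by
        rw [Finset.mul_sum]
        exact (Finset.sum_congr rfl fun P hP => hd ⟨P, (Set.Finite.mem_toFinset _).1 hP⟩).trans hsum)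
  by_cases hex : ∃ P₀ : Ω, π P₀ = P₀
  swap
  · push Not at hex
    exact Or.inl fun x hx hxn => hone x fun P => (hmove x (R_le k C hx) (hhyp x hx hxn) P (hex P)).1
  obtain ⟨P₀, hP₀⟩ := hex
  -- transitivity
  have htrans : ∀ P : Ω, ∃ g : H, g • P₀ = P := by
    intro P
    by_contra hc
    push Not at hc
    let _ : Fintype Ω := Fintype.ofFinite Ω
    set O : Finset Ω := Finset.univ.filter fun Q => ∃ g : H, g • P₀ = Q with hO
    set Q := ∑ Q ∈ O, Q.1 with hQ
    have hOg : ∀ (g : H) (A : Ω), A ∈ O ↔ g • A ∈ O := fun g A => by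
      simp only [hO, Finset.mem_filter, Finset.mem_univ, true_and]
      constructor
      · rintro ⟨g', rfl⟩; exact ⟨g * g', mul_smul g g' P₀⟩
      · rintro ⟨g', hg'⟩; exact ⟨g⁻¹ * g', by rw [mul_smul, hg', inv_smul_smul]⟩
    have hQτ : ∀ g : H, τ g * Q = Q * τ g := by
      intro g
      rw [hQ, Finset.mul_sum, Finset.sum_mul]
      refine Finset.sum_equiv (MulAction.toPerm g) (hOg g) fun A _ => ?_
      show τ g * A.1 = (g • A).1 * τ g
      rw [hsmul, mul_assoc, (hτ1 g).2, mul_one]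
    have hOπ : ∀ A : Ω, A ∈ O ↔ π A ∈ O := fun A => by
      simp only [hO, Finset.mem_filter, Finset.mem_univ, true_and]
      constructor
      · rintro ⟨g', rfl⟩; exact ⟨s g', by rw [hequiv, hP₀]⟩
      · rintro ⟨g', hg'⟩
        refine ⟨s.symm g', π.injective ?_⟩
        rw [hequiv, hP₀, MulEquiv.apply_symm_apply, hg']
    have hQT : T * Q = Q * T := by
      rw [hQ, Finset.mul_sum, Finset.sum_mul]
      exact Finset.sum_equiv π hOπ fun A _ => hTP A
    rcases h.irr (LinearMap.range Q) (fun x v ⟨w, hw⟩ => ⟨τ x w, by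
        rw [← hw, ← Module.End.mul_apply, ← hQτ, Module.End.mul_apply]⟩) (fun v ⟨w, hw⟩ => ⟨T w, by
        rw [← hw, ← Module.End.mul_apply, ← hQT, Module.End.mul_apply]⟩) with e | e
    · have hQ0 : Q = 0 := LinearMap.range_eq_bot.1 e
      have hQP : P₀.1 * Q = P₀.1 := by
        rw [hQ, Finset.mul_sum, Finset.sum_eq_single P₀]
        · exact P₀.2.idem
        · exact fun A _ hA => P₀.2.ortho A.2 fun e' => hA (Subtype.ext e'.symm)
        · intro h0; exact absurd (Finset.mem_filter.2 ⟨Finset.mem_univ _, 1, one_smul H P₀⟩) h0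
      rw [hQ0, mul_zero] at hQP
      exact P₀.2.ne hQP.symm
    · refine P.2.ne (LinearMap.ext fun v => ?_)
      obtain ⟨w, hw⟩ := e.ge (Submodule.mem_top : v ∈ ⊤)
      have hPQ : P.1 * Q = 0 := by
        rw [hQ, Finset.mul_sum]
        refine Finset.sum_eq_zero fun A hA => P.2.ortho A.2 fun e' => ?_
        obtain ⟨g, hg⟩ := (Finset.mem_filter.1 hA).2
        exact hc g (hg.trans (Subtype.ext e'.symm))
      rw [← hw, ← Module.End.mul_apply, hPQ, LinearMap.zero_apply, LinearMap.zero_apply]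
  by_cases hfixB : ∀ b ∈ B, b • P₀ = P₀
  · -- everything is fixed
    have hBfix : ∀ b ∈ B, ∀ P : Ω, b • P = P := fun b hb P => by
      obtain ⟨g, rfl⟩ := htrans P
      have h1 := hfixB _ ((inferInstance : B.Normal).conj_mem b hb g⁻¹)
      conv_rhs => rw [← h1]
      rw [← mul_smul, ← mul_smul]
      congr 1
      group
    have hπfix : ∀ P : Ω, π P = P := fun P => by
      obtain ⟨g, rfl⟩ := htrans P
      obtain ⟨b, hb, c, hc, rfl⟩ := hBC g
      rw [mul_smul, hequiv, hBfix b hb, hBfix (s b) (hBi b hb), hequiv, hP₀, hc]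
    refine Or.inr fun E hE => ?_
    have hcomm : ∀ F : Module.End K V, (∀ P : Ω, F * P.1 = P.1 * F) → F * E = E * F := by
      intro F hF
      have hEs : E = ∑ P ∈ (atom_finite τ G0).toFinset, E * P := by rw [← Finset.mul_sum, hsum, mul_one]
      rw [hEs, Finset.mul_sum, Finset.sum_mul]
      refine Finset.sum_congr rfl fun P hP => ?_
      have hPa : IsAtom' τ G0 P := (Set.Finite.mem_toFinset _).1 hP
      rcases hPa.atom E hE.dual hE.idem with h0 | h0
      · rw [h0, mul_zero, zero_mul]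
      · rw [h0]; exact hF ⟨P, hPa⟩
    refine ⟨hcomm T fun P => by rw [hTP, hπfix], fun b hb => hcomm (τ b) fun P => ?_⟩
    have := congrArg Subtype.val (hBfix b hb P)
    rw [hsmul] at this
    conv_rhs => rw [← this, mul_assoc, (hτ1 b).2, mul_one]
  -- some element of `B` moves the atoms
  push Not at hfixB
  obtain ⟨b₀, hb₀, hb₀P⟩ := hfixB
  left
  have horb : ∀ P : Ω, ∃ b ∈ B, π (b • P) = b • P := fun P => by
    obtain ⟨g, rfl⟩ := htrans P
    obtain ⟨b, hb, c, hc, rfl⟩ := hBC g
    exact ⟨b⁻¹, inv_mem hb, by rw [← mul_smul, inv_mul_cancel_left, hequiv, hP₀, hc]⟩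
  have huniq : ∀ P : Ω, π P = P → ∀ g ∈ B, π (g • P) = g • P → g • P = P := by
    intro P hP g hg hgP
    set S := B ⊓ MulAction.stabilizer H P with hS
    have hgs : g⁻¹ * s g ∈ S := Subgroup.mem_inf.2 ⟨mul_mem (inv_mem hg) (hBi g hg), by
      rw [MulAction.mem_stabilizer_iff, mul_smul, inv_smul_eq_iff]
      rw [hequiv, hP] at hgP
      exact hgP⟩
    have hSi : Inv s S := fun x hx => Subgroup.mem_inf.2 ⟨hBi x hx.1, by
      rw [MulAction.mem_stabilizer_iff]
      conv_lhs => rw [← hP, ← hequiv]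
      rw [show x • P = P from hx.2, hP]⟩
    have hSn : B ≤ Subgroup.normalizer (S : Set H) := by
      intro x hx
      have key : ∀ x ∈ B, ∀ y ∈ S, x * y * x⁻¹ ∈ S := fun x hx y hy => Subgroup.mem_inf.2
        ⟨(inferInstance : B.Normal).conj_mem y hy.1 x, by
          rw [show x * y * x⁻¹ = ⁅x, y⁆ * y by rw [commutatorElement_def]; group,
            MulAction.mem_stabilizer_iff, mul_smul, show y • P = P from hy.2]
          exact hG0fix _ (hB0G (hder x hx y hy.1)) P⟩
      rw [Subgroup.mem_normalizer_iff]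
      refine fun y => ⟨key x hx y, fun hy => ?_⟩
      have := key x⁻¹ (inv_mem hx) _ hy
      rwa [show x⁻¹ * (x * y * x⁻¹) * x⁻¹⁻¹ = y by group] at this
    obtain ⟨c, hcB, hsc, hgc⟩ := h.cop.exists_fixed hBi hSi inf_le_left hSn hg hgs
    have h1 : (g⁻¹ * c) • P = P := hgc.2
    rw [mul_smul, hG0fix c (hB0G (hfix c hcB hsc)), inv_smul_eq_iff] at h1
    exact h1.symm
  have hmovefix : ∀ P : Ω, π P = P → ∃ g ∈ B, g • P ≠ P := by
    intro P _
    obtain ⟨g, rfl⟩ := htrans P
    refine ⟨g * b₀ * g⁻¹, (inferInstance : B.Normal).conj_mem b₀ hb₀ g, fun e => hb₀P ?_⟩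
    rw [mul_smul, mul_smul, inv_smul_smul, smul_left_cancel_iff] at e
    exact e
  -- the coarse points
  let rel : Ω → Ω → Prop := fun i j =>
    (∀ g ∈ B, g • i = i ↔ g • j = j) ∧ ∃ g ∈ B, π (g • i) = g • i ∧ π (g • j) = g • j
  have hrel : Equivalence rel := by
    refine ⟨fun i => ⟨fun g _ => Iff.rfl, ?_⟩, fun {i j} hij => ⟨fun g hg => (hij.1 g hg).symm, ?_⟩,
      fun {i j l} hij hjl => ⟨fun g hg => (hij.1 g hg).trans (hjl.1 g hg), ?_⟩⟩
    · obtain ⟨g, hg, hgi⟩ := horb i
      exact ⟨g, hg, hgi, hgi⟩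
    · obtain ⟨g, hg, h1, h2⟩ := hij.2
      exact ⟨g, hg, h2, h1⟩
    · obtain ⟨g, hg, h1, h2⟩ := hij.2
      obtain ⟨g', hg', h3, h4⟩ := hjl.2
      refine ⟨g, hg, h1, ?_⟩
      have h5 := huniq _ h2 (g' * g⁻¹) (mul_mem hg' (inv_mem hg)) (by
        rw [← mul_smul, inv_mul_cancel_right]; exact h3)
      rw [← mul_smul, inv_mul_cancel_right] at h5
      have h6 : (g⁻¹ * g') • j = j := by rw [mul_smul, h5, inv_smul_smul]
      have h7 := (hjl.1 _ (mul_mem (inv_mem hg) hg')).1 h6
      rw [mul_smul, inv_smul_eq_iff] at h7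
      rw [← h7]; exact h4
  let st : Setoid Ω := ⟨rel, hrel⟩
  have hrelg : ∀ (a : H) (i j : Ω), rel i j → rel (a • i) (a • j) := by
    intro a i j hij
    refine ⟨fun g hg => ?_, ?_⟩
    · have hg' : a⁻¹ * g * a ∈ B := (inferInstance : B.Normal).conj_mem' g hg a
      have := hij.1 _ hg'
      rw [mul_smul, mul_smul, mul_smul, mul_smul, inv_smul_eq_iff, inv_smul_eq_iff] at this
      exact this
    · obtain ⟨g, hg, h1, h2⟩ := hij.2
      obtain ⟨b, hb, c, hc, rfl⟩ := hBC a
      refine ⟨c * g * c⁻¹ * b⁻¹, mul_mem ((inferInstance : B.Normal).conj_mem g hg c) (inv_mem hb), ?_, ?_⟩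
      · rw [← mul_smul, show c * g * c⁻¹ * b⁻¹ * (b * c) = c * g by group, mul_smul, hequiv, h1, hc]
      · rw [← mul_smul, show c * g * c⁻¹ * b⁻¹ * (b * c) = c * g by group, mul_smul, hequiv, h2, hc]
  have hrelπ : ∀ i j : Ω, rel i j → rel (π i) (π j) := by
    intro i j hij
    refine ⟨fun g hg => ?_, ?_⟩
    · obtain ⟨g', rfl⟩ := s.surjective g
      rw [← hequiv, ← hequiv, π.injective.eq_iff, π.injective.eq_iff]
      exact hij.1 g' (hBi.symm_mem hg)
    · obtain ⟨g, hg, h1, h2⟩ := hij.2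
      exact ⟨s g, hBi g hg, by rw [← hequiv, h1, h1], by rw [← hequiv, h2, h2]⟩
  let Ωc := Quotient st
  letI instΩc : MulAction H Ωc :=
    { smul := fun a => Quotient.map' (fun i => a • i) fun i j hij => hrelg a i j hij
      one_smul := fun x => Quotient.inductionOn x fun i => congrArg (Quotient.mk st) (one_smul H i)
      mul_smul := fun a a' x => Quotient.inductionOn x fun i => congrArg (Quotient.mk st) (mul_smul a a' i) }
  have hsm : ∀ (a : H) (i : Ω), a • (Quotient.mk st i) = Quotient.mk st (a • i) := fun a i => rfl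
  let πf : Ωc → Ωc := Quotient.map' π fun i j hij => hrelπ i j hij
  have hπfl : ∀ (l : ℕ) (i : Ω), πf^[l] (Quotient.mk st i) = Quotient.mk st ((π ^ l) i) := fun l i => by
    induction l with
    | zero => rfl
    | succ l ih => rw [Function.iterate_succ_apply', ih, pow_succ' π, Equiv.Perm.mul_apply]; rfl
  have hπfr : ∀ x, πf^[r] x = x := fun x => Quotient.inductionOn x fun i => by
    rw [hπfl, hπr]; rfl
  let πc : Equiv.Perm Ωc :=
    { toFun := πf
      invFun := πf^[r - 1]
      left_inv := fun x => by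
        rw [← Function.iterate_succ_apply, Nat.succ_eq_add_one, Nat.sub_add_cancel hr.one_le, hπfr]
      right_inv := fun x => by
        show πf (πf^[r - 1] x) = x
        rw [← Function.iterate_succ_apply' πf, Nat.succ_eq_add_one, Nat.sub_add_cancel hr.one_le, hπfr] }
  have hπc : ∀ i : Ω, πc (Quotient.mk st i) = Quotient.mk st (π i) := fun i => rfl
  have hcfix : ∀ i : Ω, πc (Quotient.mk st i) = Quotient.mk st i → π i = i := by
    intro i hi
    rw [hπc] at hi
    obtain ⟨g, hg, h1, h2⟩ := (Quotient.exact hi : rel (π i) i).2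
    have h3 : s g • π i = g • i := by rw [← hequiv, h2]
    have h4 := huniq _ h1 (s g * g⁻¹) (mul_mem (hBi g hg) (inv_mem hg)) (by
      rw [← mul_smul, inv_mul_cancel_right, h3]; exact h2)
    rw [← mul_smul, inv_mul_cancel_right, h3] at h4
    exact (smul_left_cancel g h4).symm
  have hstab : ∀ i : Ω, π i = i → ∀ g ∈ B, (g • (Quotient.mk st i) = Quotient.mk st i ↔ g • i = i) := by
    intro i hi g hg
    refine ⟨fun e => ?_, fun e => by rw [hsm, e]⟩
    rw [hsm] at e
    obtain ⟨a, ha, h1, h2⟩ := (Quotient.exact e : rel (g • i) i).2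
    have h3 := huniq _ h2 (a * g * a⁻¹) (mul_mem (mul_mem ha hg) (inv_mem ha)) (by
      rw [mul_smul, inv_smul_smul, mul_smul]; exact h1)
    rw [mul_smul, inv_smul_smul, mul_smul] at h3
    exact smul_left_cancel a h3
  have hSys : OSys s B r πc := by
    refine ⟨fun a x => Quotient.inductionOn x fun i => congrArg (Quotient.mk st) (hequiv a i), ?_, fun x => ?_,
      fun x => ?_, fun x => ?_, fun x y => ?_⟩
    · refine Equiv.ext fun x => ?_
      rw [Equiv.Perm.coe_pow]
      exact hπfr x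
    · induction x using Quotient.inductionOn with
      | h i =>
        obtain ⟨g, hg, hgi⟩ := horb i
        exact ⟨g, hg, by rw [hsm, hπc, hgi]⟩
    · induction x using Quotient.inductionOn with
      | h i =>
        intro hx g hg hgx
        rw [hsm] at hgx ⊢
        rw [huniq i (hcfix i hx) g hg (hcfix _ hgx)]
    · induction x using Quotient.inductionOn with
      | h i =>
        intro hx
        obtain ⟨g, hg, hne⟩ := hmovefix i (hcfix i hx)
        exact ⟨g, hg, fun e => hne ((hstab i (hcfix i hx) g hg).1 e)⟩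
    · induction x using Quotient.inductionOn with
      | h i =>
        induction y using Quotient.inductionOn with
        | h j =>
          intro hi hj hij
          refine Quotient.sound ⟨fun g hg => ?_, 1, one_mem _, ?_, ?_⟩
          · rw [← hstab i (hcfix i hi) g hg, ← hstab j (hcfix j hj) g hg]
            exact hij g hg
          · rw [one_smul, hcfix i hi]
          · rw [one_smul, hcfix j hj]
  let Kf : Ω → Subgroup H := fun P =>
    { carrier := {g | τ g * P.1 = P.1 ∧ P.1 * τ g = P.1}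
      one_mem' := by simp
      mul_mem' := fun {a b} ha hb => by
        show τ (a * b) * P.1 = P.1 ∧ P.1 * τ (a * b) = P.1
        rw [map_mul]
        exact ⟨by rw [mul_assoc, hb.1, ha.1], by rw [← mul_assoc, ha.2, hb.2]⟩
      inv_mem' := fun {a} ha => by
        show τ a⁻¹ * P.1 = P.1 ∧ P.1 * τ a⁻¹ = P.1
        exact ⟨by conv_lhs => rw [← ha.1, ← mul_assoc, (hτ1 a).2, one_mul],
          by conv_lhs => rw [← ha.2, mul_assoc, (hτ1 a).1, mul_one]⟩ }
  let Kc : Ωc → Subgroup H := fun x => ⨅ (i : Ω) (_ : Quotient.mk st i = x), Kf i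
  have hKmem : ∀ x g, g ∈ Kc x ↔ ∀ i, Quotient.mk st i = x → g ∈ Kf i := fun x g => by
    simp only [Kc, Subgroup.mem_iInf]
  have hKer : OKer s πc Kc := by
    refine ⟨fun x g hg => ?_, fun a x g hg => ?_, fun x g hg => ?_⟩
    · induction x using Quotient.inductionOn with
      | h i =>
        have h1 := (hKmem _ _).1 hg i rfl
        rw [hsm]
        congr 1
        apply Subtype.ext
        rw [hsmul, h1.1]
        conv_lhs => rw [← h1.2]
        rw [mul_assoc, (hτ1 g).1, mul_one]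
    · rw [hKmem]
      intro i hi
      have h1 := (hKmem _ _).1 hg (a⁻¹ • i) (by rw [← hsm, hi, inv_smul_smul])
      have h2 : τ g * (τ a⁻¹ * i.1 * τ a⁻¹⁻¹) = τ a⁻¹ * i.1 * τ a⁻¹⁻¹ := h1.1
      have h3 : (τ a⁻¹ * i.1 * τ a⁻¹⁻¹) * τ g = τ a⁻¹ * i.1 * τ a⁻¹⁻¹ := h1.2
      rw [inv_inv] at h2 h3
      refine ⟨?_, ?_⟩
      · calc τ (a * g * a⁻¹) * i.1 = τ a * (τ g * (τ a⁻¹ * i.1 * τ a)) * τ a⁻¹ := by
              simp only [map_mul, mul_assoc, (hτ1 a).1, mul_one]
          _ = i.1 := by rw [h2]; simp only [← mul_assoc, (hτ1 a).1, one_mul]; simp only [mul_assoc, (hτ1 a).1, mul_one]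
      · calc i.1 * τ (a * g * a⁻¹) = τ a * ((τ a⁻¹ * i.1 * τ a) * τ g) * τ a⁻¹ := by
              simp only [← mul_assoc, map_mul, (hτ1 a).1, one_mul]
          _ = i.1 := by rw [h3]; simp only [← mul_assoc, (hτ1 a).1, one_mul]; simp only [mul_assoc, (hτ1 a).1, mul_one]
    · rw [hKmem]
      intro i hi
      obtain ⟨j, rfl⟩ := π.surjective i
      have h1 := (hKmem _ _).1 hg j (πc.injective hi)
      refine ⟨?_, ?_⟩
      · calc τ (s g) * (π j).1 = T * (τ g * j.1) * T ^ (r - 1) := by
              rw [hπ, ← mul_assoc (τ (s g)), ← mul_assoc (τ (s g)), ← h.conj]; simp only [mul_assoc]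
          _ = _ := by rw [h1.1, hπ]
      · calc (π j).1 * τ (s g) = T * (j.1 * τ g) * T ^ (r - 1) := by
              rw [hπ, mul_assoc _ (T ^ (r - 1)), hTs]
              have hs1 : (s ^ (r - 1)) (s g) = g := by
                rw [← MulAut.mul_apply, ← pow_succ, Nat.sub_add_cancel hr.one_le, h.cop.pow_eq, MulAut.one_apply]
              rw [hs1]; simp only [mul_assoc]
          _ = _ := by rw [h1.2, hπ]
  have hmul := multi h.cop hBi hBC hSys k n hn Kc hKer Set.univ (fun _ _ _ => trivial) (fun _ _ => trivial)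
    (fun x hx hxn b _ hb => (hKmem _ _).2 fun i hi => hmove x (R_le k C hx) (hhyp x hx hxn) i fun e => hb (by
      rw [← hi, hπc, e]))
  exact fun x hx hxn => hone x fun P => ((hKmem _ _).1 (hmul x hx hxn _ trivial) P rfl).1

end Cfsg.Agent.TurullTwo
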