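import Cfsg.Agent.Lib.TurullTwo.Sub
import Cfsg.Agent.Lib.TurullTwo.Reduce

/-! Passing to the subgroup generated by the fixed points and a chief section: what kills an element on all its
subquotients with fixed vectors makes it centralise the lower part of the section. -/

set_option autoImplicit false

universe u v w

open scoped commutatorElement
open Module Cfsg.Agent.CoprimeHHS Cfsg.Agent.CoprimeLength

namespace Cfsg.Agent.TurullTwo

variable {H : Type u} [Group H] [Finite H] {K : Type w} [Field K] {V : Type v} [AddCommGroup V] [Module K V]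
  [FiniteDimensional K V] {r : ℕ} {s : MulAut H} {τ : H →* Module.End K V} {T : Module.End K V}

omit [Finite H] in
theorem mem_R_of_coe {U : Subgroup H} {C : Subgroup H} [Finite U] [Finite H] (hC : C ≤ U) (k : ℕ) (x : U) :
    x ∈ R k (C.subgroupOf U) ↔ (x : H) ∈ R k C := by
  have h1 : (R k (C.subgroupOf U)).map U.subtype = R k C := by
    rw [map_R, Subgroup.map_subgroupOf_eq_of_le hC]
  rw [← h1]
  exact (Subgroup.mem_map_iff_mem U.subtype_injective).symm

theorem fixed_aut {U : Subgroup H} (hU : Inv s U) : fixed hU.aut = (fixed s).subgroupOf U := by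
  ext x
  rw [Subgroup.mem_subgroupOf, mem_fixed, mem_fixed, Subtype.ext_iff]
  rfl

/-- The kernel of the smaller subquotient centralises the lower part of a chief section. -/
theorem centralizes_chief {q : ℕ} [Fact q.Prime] [CharP K q] [Group.IsSolvable H] [Nontrivial V] (h : Irr r s τ T)
    (hfix : ∃ v, v ≠ 0 ∧ T v = v) {B B0 : Subgroup H} [B.Normal] (hch : Chief s B B0)
    (hBC : ∀ x : H, ∃ b ∈ B, ∃ c, s c = c ∧ x = b * c)
    (hstar : ∀ E, IsGen τ B0 E → T * E = E * T ∧ ∀ b ∈ B, τ b * E = E * τ b)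
    {U : Subgroup H} (hU : Inv s U) (hCU : fixed s ≤ U) (hB0U : B0 ≤ U) {d : H} (hdC : s d = d)
    (hd : ∀ v, T v = v → τ d v = v)
    (hkill : ∀ (W : Type v) [AddCommGroup W] [Module K W] [FiniteDimensional K W]
      (τ' : U →* Module.End K W) (T' : Module.End K W), Act r hU.aut τ' T' → (∃ w, w ≠ 0 ∧ T' w = w) →
        (∀ x : U, (∀ v, T v = v → τ x v = v) → ∀ w, T' w = w → τ' x w = w) → τ' ⟨d, hCU hdC⟩ = 1) :
    ∀ x ∈ B0, d * x = x * d := by
  classical
  haveI := hch.normal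
  obtain ⟨W, i1, i2, i3, τ', T', hact, hw, htr, hN⟩ := exists_sub h hfix hU
  have hd1 := hkill W τ' T' hact hw htr
  set M : Subgroup U := τ'.ker ⊓ B0.subgroupOf U with hM
  suffices hbot : M = ⊥ by
    intro x hx
    let xU : U := ⟨x, hB0U hx⟩
    let dU : U := ⟨d, hCU hdC⟩
    have hmem : ⁅dU, xU⁆ ∈ M := by
      refine ⟨?_, ?_⟩
      · show τ' ⁅dU, xU⁆ = 1
        rw [commutatorElement_def, map_mul, map_mul, map_mul, hd1, one_mul, mul_assoc (τ' xU)]
        have h2 : τ' dU⁻¹ = 1 := by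
          have := (map_mul τ' dU dU⁻¹).symm
          rw [mul_inv_cancel, map_one, hd1, one_mul] at this
          exact this
        rw [h2, one_mul, ← map_mul, mul_inv_cancel, map_one]
      · show ⁅d, x⁆ ∈ B0
        rw [commutatorElement_def]
        exact mul_mem (hch.normal.conj_mem x hx d) (inv_mem hx)
    rw [hbot, Subgroup.mem_bot] at hmem
    exact commutatorElement_eq_one_iff_mul_comm.1 (congrArg Subtype.val hmem)
  by_contra hne
  obtain ⟨A, ⟨hAM, hAn, hA0⟩, hmin⟩ := WellFounded.has_min (wellFounded_lt (α := Subgroup U))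
    {A | A ≤ M ∧ A.Normal ∧ A ≠ ⊥} ⟨M, le_rfl, inferInstance, hne⟩
  have hab : ⁅A, A⁆ = ⊥ := by
    by_contra hne'
    have hle : ⁅A, A⁆ ≤ A := Subgroup.commutator_le_right A A
    refine hmin ⁅A, A⁆ ⟨hle.trans hAM, inferInstance, hne'⟩ (lt_of_le_of_ne hle fun e => hA0 ?_)
    exact eq_bot_iff.2 (le_of_le_sup_commutator (N := ⊥) (by rw [bot_sup_eq, e]))
  set A' : Subgroup H := A.map U.subtype with hA'
  have hA'B : A' ≤ B0 := by
    rintro _ ⟨x, hx, rfl⟩
    exact (hAM hx).2
  have hA'n : ∀ g ∈ U, ∀ x ∈ A', g * x * g⁻¹ ∈ A' := by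
    rintro g hg _ ⟨x, hx, rfl⟩
    exact ⟨⟨g, hg⟩ * x * ⟨g, hg⟩⁻¹, hAn.conj_mem x hx _, rfl⟩
  have hq : Nat.Prime q := Fact.out
  have hAq : ∀ x : A, orderOf x ≠ q := by
    intro x hx
    -- the part of order a power of the characteristic
    let Q : Subgroup H :=
      { carrier := {y | y ∈ A' ∧ y ^ q = 1}
        one_mem' := ⟨one_mem _, one_pow q⟩
        mul_mem' := fun {a b} ha hb => ⟨mul_mem ha.1 hb.1, by
          obtain ⟨a', ha', rfl⟩ := ha.1
          obtain ⟨b', hb', rfl⟩ := hb.1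
          have h0 : ⁅a', b'⁆ = (1 : U) := Subgroup.mem_bot.1 (hab ▸ Subgroup.commutator_mem_commutator ha' hb')
          have hc : ⁅(a' : H), (b' : H)⁆ = (1 : H) := congrArg (Subtype.val : U → H) h0
          show ((a' : H) * (b' : H)) ^ q = 1
          rw [(commutatorElement_eq_one_iff_commute.1 hc : Commute (a' : H) b').mul_pow]
          show (a' : H) ^ q * (b' : H) ^ q = 1
          rw [show (a' : H) ^ q = 1 from ha.2, show (b' : H) ^ q = 1 from hb.2, one_mul]⟩
        inv_mem' := fun {a} ha => ⟨inv_mem ha.1, by rw [inv_pow, ha.2, inv_one]⟩ }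
    have hQ : Q = ⊥ := h.eq_bot_of_normal_in (q := q) hch.inv (fun y hy => hA'B hy.1)
      (fun y => ⟨1, Subtype.ext (by rw [pow_one]; exact y.2.2)⟩)
      fun g hg y hy => ⟨hA'n g (hB0U hg) y hy.1, by rw [conj_pow, hy.2, mul_one, mul_inv_cancel]⟩
    have hmem : ((x : U) : H) ∈ Q := ⟨⟨(x : U), x.2, rfl⟩, by
      have := pow_orderOf_eq_one x
      rw [hx] at this
      exact congrArg (fun y : A => ((y : U) : H)) this⟩
    rw [hQ, Subgroup.mem_bot] at hmem
    rw [show x = 1 from Subtype.ext (Subtype.ext hmem), orderOf_one] at hx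
    exact hq.ne_one hx.symm
  have hcard : (Nat.card A : K) ≠ 0 := card_ne_zero hAq
  have hcard' : (Nat.card A' : K) ≠ 0 := by
    rwa [hA', ← Nat.card_congr (A.equivMapOfInjective _ U.subtype_injective).toEquiv]
  have hgen : IsGen τ B0 (eN τ A' * eps τ 1 1) :=
    ⟨A', 1, 1, hA'B, fun g hg => hA'n g (hB0U hg), hcard', one_mem _, by rw [orderOf_one, Nat.cast_one]; exact one_ne_zero,
      fun g _ => by simp, one_pow _, rfl⟩
  have he : eps τ (1 : H) (1 : K) = 1 := by simp [eps]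
  rw [he, mul_one] at hgen
  obtain ⟨hT, hB⟩ := hstar _ hgen
  have hτ : ∀ x, τ x * eN τ A' = eN τ A' * τ x := by
    intro x
    obtain ⟨b, hb, c, hc, rfl⟩ := hBC x
    rw [map_mul, mul_assoc, eN_comm (hA'n c (hCU hc)), ← mul_assoc, hB b hb, mul_assoc]
  obtain ⟨v, hv0, hv⟩ := hN A hcard fun x hx => (hAM hx).1
  have hev : eN τ A' v = v := eN_apply_fixed hcard' fun x ⟨y, hy, e⟩ => e ▸ hv y hy
  rcases h.irr (LinearMap.range (eN τ A')) (fun x u ⟨w, hw⟩ => ⟨τ x w, by
      rw [← hw, ← Module.End.mul_apply, ← hτ, Module.End.mul_apply]⟩) (fun u ⟨w, hw⟩ => ⟨T w, by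
      rw [← hw, ← Module.End.mul_apply, ← hT, Module.End.mul_apply]⟩) with e | e
  · rw [LinearMap.range_eq_bot.1 e, LinearMap.zero_apply] at hev
    exact hv0 hev.symm
  · refine hA0 ((Subgroup.eq_bot_iff_forall _).2 fun x hx => Subtype.ext (h.inj ?_))
    rw [OneMemClass.coe_one, map_one]
    refine LinearMap.ext fun u => ?_
    obtain ⟨w, hw⟩ := e.ge (Submodule.mem_top : u ∈ ⊤)
    rw [← hw, ← Module.End.mul_apply, mul_eN (⟨x, hx, rfl⟩ : (x : H) ∈ A')]
    rfl

end Cfsg.Agent.TurullTwo
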