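import Cfsg.Agent.Lib.TurullTwo.Sub
import Cfsg.Agent.Lib.TurullTwo.Core

/-! The blocks of a group of class two: an element of order prime to `r` and to the exponent acts on each
block as the identity or as the inversion modulo its scalar elements. -/

set_option autoImplicit false

universe u v w

open scoped commutatorElement
open Module Cfsg.Agent.CoprimeHHS

namespace Cfsg.Agent.TurullTwo

variable {H : Type u} [Group H] [Finite H] {K : Type w} [Field K] [IsAlgClosed K] {V : Type v}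
  [AddCommGroup V] [Module K V] [FiniteDimensional K V] {r : ℕ} {s : MulAut H}
  {τ : H →* Module.End K V} {T : Module.End K V}

/-- A subgroup of class two which is special with respect to the automorphism and whose family is fixed. -/
structure Ext (s : MulAut H) (τ : H →* Module.End K V) (T : Module.End K V) (B B0 : Subgroup H) (p : ℕ) :
    Prop where
  prime : p.Prime
  normal : B.Normal
  inv : Inv s B
  le : B0 ≤ B
  central : ∀ z ∈ B0, ∀ b ∈ B, b * z = z * b
  der : ⁅B, B⁆ ≤ B0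
  fix : ∀ b ∈ B, s b = b → b ∈ B0
  fixed : ∀ z ∈ B0, s z = z
  exp : ∀ b ∈ B, b ^ p ∈ B0
  star : ∀ E, IsGen τ B E → T * E = E * T ∧ ∀ b ∈ B, τ b * E = E * τ b
  ord : ∀ z ∈ B, (orderOf z : K) ≠ 0

namespace Ext

variable {B B0 : Subgroup H} {p : ℕ} (hE : Ext s τ T B B0 p)
include hE

omit [IsAlgClosed K] [FiniteDimensional K V] in
theorem comm_mem {a b : H} (ha : a ∈ B) (hb : b ∈ B) : ⁅a, b⁆ ∈ B0 :=
  hE.der (Subgroup.commutator_mem_commutator ha hb)

omit [IsAlgClosed K] [FiniteDimensional K V] in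
theorem comm_mul {a b x : H} (ha : a ∈ B) (hb : b ∈ B) (hx : x ∈ B) : ⁅a * b, x⁆ = ⁅a, x⁆ * ⁅b, x⁆ := by
  have h1 : a * ⁅b, x⁆ = ⁅b, x⁆ * a := hE.central _ (hE.comm_mem hb hx) a ha
  have h2 : ⁅a, x⁆ * ⁅b, x⁆ = ⁅b, x⁆ * ⁅a, x⁆ := hE.central _ (hE.comm_mem hb hx) _ (hE.le (hE.comm_mem ha hx))
  rw [show ⁅a * b, x⁆ = a * ⁅b, x⁆ * a⁻¹ * ⁅a, x⁆ by simp only [commutatorElement_def]; group, h1,
    mul_inv_cancel_right, ← h2]

/-- The elements which are scalar on an atom. -/
def rad (P : Module.End K V) : Subgroup H where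
  carrier := {b | b ∈ B ∧ ∀ x ∈ B, τ ⁅b, x⁆ * P = P}
  one_mem' := ⟨one_mem B, fun x _ => by simp⟩
  mul_mem' := fun {a b} ha hb => ⟨mul_mem ha.1 hb.1, fun x hx => by
    rw [hE.comm_mul ha.1 hb.1 hx, map_mul, mul_assoc, hb.2 x hx, ha.2 x hx]⟩
  inv_mem' := fun {a} ha => ⟨inv_mem ha.1, fun x hx => by
    have h1 := hE.comm_mul ha.1 (inv_mem ha.1) hx
    rw [mul_inv_cancel, commutatorElement_one_left] at h1
    rw [eq_inv_of_mul_eq_one_right h1.symm]
    have h2 := ha.2 x hx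
    conv_lhs => rw [← h2, ← mul_assoc, ← map_mul, inv_mul_cancel, map_one, one_mul]⟩

omit [IsAlgClosed K] [FiniteDimensional K V] in
theorem rad_le (P : Module.End K V) : hE.rad P ≤ B := fun _ hb => hb.1

omit [IsAlgClosed K] [FiniteDimensional K V] in
theorem le_rad (P : Module.End K V) : B0 ≤ hE.rad P := fun z hz => ⟨hE.le hz, fun x hx => by
  rw [commutatorElement_eq_one_iff_mul_comm.2 (hE.central z hz x hx).symm, map_one, one_mul]⟩

variable {P : Module.End K V} (hP : IsAtom' τ B P)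
include hP

omit [IsAlgClosed K] [FiniteDimensional K V] in
theorem atom_comm : P * T = T * P ∧ ∀ b ∈ B, P * τ b = τ b * P :=
  ⟨hP.dual T fun E he => (hE.star E he).1, fun b hb => hP.dual (τ b) fun E he => (hE.star E he).2 b hb⟩

omit [IsAlgClosed K] [FiniteDimensional K V] in
theorem rad_inv (h : Irr r s τ T) : Inv s (hE.rad P) := fun b hb => ⟨hE.inv b hb.1, fun x hx => by
  obtain ⟨y, rfl⟩ := s.surjective x
  have hy := hE.inv.symm_mem hx
  have hPT := (hE.atom_comm hP).1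
  rw [← map_commutatorElement]
  have h1 := congrArg (fun F => T * F * T ^ (r - 1)) (hb.2 y hy)
  simp only [← mul_assoc, h.conj] at h1
  rw [mul_assoc (τ (s ⁅b, y⁆)), ← hPT, ← mul_assoc, mul_assoc _ T, h.T_cancel.1, mul_one,
    mul_assoc P, h.T_cancel.1, mul_one] at h1
  exact h1⟩

/-- The scalar elements act by scalars. -/
theorem rad_scalar {z : H} (hz : z ∈ hE.rad P) : ∃ c : K, τ z * P = c • P := by
  classical
  let N : Subgroup H :=
    { carrier := {x | x ∈ B0 ∧ τ x * P = P}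
      one_mem' := ⟨one_mem B0, by simp⟩
      mul_mem' := fun {a b} ha hb => ⟨mul_mem ha.1 hb.1, by rw [map_mul, mul_assoc, hb.2, ha.2]⟩
      inv_mem' := fun {a} ha => ⟨inv_mem ha.1, by
        conv_lhs => rw [← ha.2, ← mul_assoc, ← map_mul, inv_mul_cancel, map_one, one_mul]⟩ }
  have hNB : N ≤ B := fun x hx => hE.le hx.1
  have hNn : ∀ g ∈ B, ∀ x ∈ N, g * x * g⁻¹ ∈ N := fun g hg x hx => by
    rwa [hE.central x hx.1 g hg, mul_inv_cancel_right]
  have hcard : (Nat.card N : K) ≠ 0 := by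
    intro e
    obtain ⟨q, hq⟩ := CharP.exists K
    rcases CharP.char_is_prime_or_zero K q with hqp | rfl
    · have := Fact.mk hqp
      obtain ⟨x, hx⟩ := exists_prime_orderOf_dvd_card' (G := N) q ((CharP.cast_eq_zero_iff K q _).1 e)
      refine hE.ord x (hNB x.2) ((CharP.cast_eq_zero_iff K q _).2 ?_)
      rw [Subgroup.orderOf_coe, hx]
    · exact Nat.card_pos.ne' ((CharP.cast_eq_zero_iff K 0 _).1 e |> zero_dvd_iff.1)
  have hzc : ∀ g ∈ B, ⁅z, g⁆ ∈ N := fun g hg => ⟨hE.comm_mem hz.1 hg, hz.2 g hg⟩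
  have heN : eN τ N * P = P := by
    refine LinearMap.ext fun v => ?_
    rw [Module.End.mul_apply]
    exact eN_apply_fixed hcard fun x hx => congrArg (fun F : Module.End K V => F v) hx.2
  have ho := hE.ord z hz.1
  have hcases : ∀ c : K, c ^ orderOf z = 1 → eps τ z c * P = 0 ∨ eps τ z c * P = P := by
    intro c hc
    have hEg : IsGen τ B (eN τ N * eps τ z c) := ⟨N, z, c, hNB, hNn, hcard, hz.1, ho, hzc, hc, rfl⟩
    have he : eN τ N * eps τ z c * P = eps τ z c * P := by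
      rw [← IsGen.eN_eps_comm (hNn z hz.1), mul_assoc, heN]
    rcases hP.atom _ hEg.dual hEg.idem with h0 | h0
    · exact Or.inl (he ▸ h0)
    · exact Or.inr (he ▸ h0)
  rcases Nat.lt_or_ge 1 (orderOf z) with h1 | h1
  · have := NeZero.mk ho
    obtain ⟨ζ, hζ⟩ := HasEnoughRootsOfUnity.exists_primitiveRoot K (orderOf z)
    have hproj : ∀ j, Sector.eproj (orderOf z) ζ (τ z) j = eps τ z (ζ ^ j) := fun j => by
      simp only [Sector.eproj, eps, inv_pow, map_pow]
    have hc : ∀ j : ℕ, (ζ ^ j) ^ orderOf z = 1 := fun j => by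
      rw [← pow_mul, mul_comm, pow_mul, hζ.pow_eq_one, one_pow]
    by_contra hno
    push Not at hno
    refine hP.ne ?_
    rw [← one_mul P, ← Sector.sum_eproj hζ h1 ho (τ z), Finset.sum_mul]
    refine Finset.sum_eq_zero fun j _ => ?_
    rw [hproj]
    rcases hcases _ (hc j) with h0 | h0
    · exact h0
    · refine absurd ?_ (hno (ζ ^ j))
      conv_lhs => rw [← h0]
      rw [← mul_assoc, tau_eps (hc j), smul_mul_assoc, h0]
  · exact ⟨1, by rw [orderOf_eq_one_iff.1 (le_antisymm h1 (orderOf_pos z)), map_one, one_mul, one_smul]⟩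

omit [IsAlgClosed K] [FiniteDimensional K V] in
theorem rad_conj_B {g b : H} (hg : g ∈ B) (hb : b ∈ hE.rad P) : g * b * g⁻¹ ∈ hE.rad P := by
  rw [show g * b * g⁻¹ = ⁅g, b⁆ * b by rw [commutatorElement_def]; group]
  exact mul_mem (hE.le_rad P (hE.comm_mem hg hb.1)) hb

omit [IsAlgClosed K] [FiniteDimensional K V] hP in
theorem rad_conj_of_centralizes {g : H} (hg : ∀ z ∈ ⁅B, B⁆, g * z = z * g) {b : H} (hb : b ∈ hE.rad P) :
    g * b * g⁻¹ ∈ hE.rad P := by
  have := hE.normal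
  refine ⟨this.conj_mem b hb.1 g, fun x hx => ?_⟩
  have hx' := this.conj_mem' x hx g
  rw [show ⁅g * b * g⁻¹, x⁆ = g * ⁅b, g⁻¹ * x * g⁆ * g⁻¹ by simp only [commutatorElement_def]; group,
    hg _ (Subgroup.commutator_mem_commutator hb.1 hx'), mul_inv_cancel_right]
  exact hb.2 _ hx'

omit [IsAlgClosed K] [FiniteDimensional K V] hP in
theorem rad_conj_of_fixes {g : H} (hg : τ g * P = P * τ g) {b : H} (hb : b ∈ hE.rad P) :
    g * b * g⁻¹ ∈ hE.rad P := by
  have := hE.normal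
  refine ⟨this.conj_mem b hb.1 g, fun x hx => ?_⟩
  have hx' := this.conj_mem' x hx g
  rw [show ⁅g * b * g⁻¹, x⁆ = g * ⁅b, g⁻¹ * x * g⁆ * g⁻¹ by simp only [commutatorElement_def]; group,
    map_mul, map_mul, mul_assoc]
  have h1 : τ g⁻¹ * P = P * τ g⁻¹ := by
    calc τ g⁻¹ * P = τ g⁻¹ * (P * τ g) * τ g⁻¹ := by
          rw [mul_assoc, mul_assoc, ← map_mul τ g, mul_inv_cancel, map_one, mul_one]
      _ = _ := by rw [← hg, ← mul_assoc, ← map_mul, inv_mul_cancel, map_one, one_mul]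
  rw [h1, mul_assoc, ← mul_assoc (τ ⁅b, g⁻¹ * x * g⁆), hb.2 _ hx', ← mul_assoc, hg, mul_assoc, ← map_mul,
    mul_inv_cancel, map_one, mul_one]

omit [IsAlgClosed K] [FiniteDimensional K V] in
theorem rad_fpf (h : Irr r s τ T) {b : H} (hb : b ∈ B) (hbs : b⁻¹ * s b ∈ hE.rad P) : b ∈ hE.rad P := by
  have := hE.normal
  have hn : B ≤ Subgroup.normalizer (hE.rad P : Set H) := fun g hg => by
    rw [Subgroup.mem_normalizer_iff]
    refine fun y => ⟨hE.rad_conj_B hP hg, fun hy => ?_⟩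
    have := hE.rad_conj_B hP (inv_mem hg) hy
    rwa [show g⁻¹ * (g * y * g⁻¹) * g⁻¹⁻¹ = y by group] at this
  obtain ⟨c, hc, hsc, hbc⟩ := h.cop.exists_fixed hE.inv (hE.rad_inv hP h) (hE.rad_le P) hn hb hbs
  have := mul_mem (hE.le_rad P (hE.fix c hc hsc)) (inv_mem hbc)
  rwa [mul_inv_rev, inv_inv, mul_inv_cancel_left] at this

/-- The dichotomy on an atom. -/
theorem sign (h : Irr r s τ T) {d : H} (hsd : s d = d) (hd0 : ∀ z ∈ B0, d * z = z * d)
    (hdfix : ∀ v, T v = v → τ d v = v) (hdp : (orderOf d).Coprime p) :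
    (∀ b ∈ B, b⁻¹ * (d * b * d⁻¹) ∈ hE.rad P) ∨
      ((∃ v, v ≠ 0 ∧ T v = v) ∧ ∀ b ∈ B, b * (d * b * d⁻¹) ∈ hE.rad P) := by
  classical
  have := hE.normal
  have hBn : ∀ g x, x ∈ B → g * x * g⁻¹ ∈ B := fun g x hx => this.conj_mem x hx g
  obtain ⟨hPT, hPB⟩ := hE.atom_comm hP
  -- the restriction to `B`
  let τB : B →* Module.End K V := τ.comp B.subtype
  obtain ⟨W, hWP, hW0, hWi, hWmin⟩ := HHLinear.exists_irreducible τB (LinearMap.range P)
    (fun e => hP.ne (LinearMap.range_eq_bot.1 e)) (fun t v hv => by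
      obtain ⟨w, rfl⟩ := hv
      exact ⟨τ (t : H) w, by
        rw [← Module.End.mul_apply, hPB _ t.2, Module.End.mul_apply]; rfl⟩)
  haveI : Nontrivial W := Submodule.nontrivial_iff_ne_bot.2 hW0
  let ρ : B →* Module.End K W := Rep.resEnd τB W hWi
  have hρ : ∀ (t : B) (x : W), ((ρ t x : W) : V) = τ (t : H) (x : V) := fun t x => rfl
  have hPW : ∀ x : W, P (x : V) = (x : V) := fun x => by
    obtain ⟨w, hw⟩ := hWP x.2
    rw [← hw, ← Module.End.mul_apply, hP.idem]
  have hirr : ∀ U : Submodule K W, (∀ t, ∀ v ∈ U, ρ t v ∈ U) → U = ⊥ ∨ U = ⊤ := fun U hU => by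
    rcases hWmin (U.map W.subtype) (Submodule.map_subtype_le _ _) (by
      rintro t _ ⟨v, hv, rfl⟩
      exact ⟨_, hU t v hv, rfl⟩) with e | e
    · exact Or.inl (Submodule.map_injective_of_injective W.injective_subtype (by rw [e, Submodule.map_bot]))
    · exact Or.inr (Submodule.map_injective_of_injective W.injective_subtype (by rw [e, Submodule.map_subtype_top]))
  obtain ⟨w₀, hw₀⟩ := exists_ne (0 : W)
  set S : Subgroup B := (hE.rad P).subgroupOf B with hS
  have hsc : ∀ t : B, ∃ c : K, t ∈ S → τ (t : H) * P = c • P := fun t => by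
    by_cases ht : t ∈ S
    · obtain ⟨c, hc⟩ := hE.rad_scalar hP ht
      exact ⟨c, fun _ => hc⟩
    · exact ⟨0, fun e => absurd e ht⟩
  choose μ hμ using hsc
  have hμuniq : ∀ {x : H} {c c' : K}, τ x * P = c • P → τ x * P = c' • P → c = c' := fun h1 h2 =>
    smul_left_injective K hP.ne (h1.symm.trans h2)
  have hscal : ∀ t ∈ S, ρ t = μ t • 1 := fun t ht => LinearMap.ext fun x => Subtype.ext (by
    rw [hρ, LinearMap.smul_apply, Module.End.one_apply, Submodule.coe_smul]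
    conv_lhs => rw [← hPW x, ← Module.End.mul_apply, hμ t ht, LinearMap.smul_apply, hPW x])
  have hfr : Frame ρ S μ := by
    refine ⟨hirr, hscal, fun t c hc => ⟨t.2, fun x hx => ?_⟩, fun a b => ?_⟩
    · have hmem : ⁅(t : H), x⁆ ∈ hE.rad P := hE.le_rad P (hE.comm_mem t.2 hx)
      obtain ⟨c', hc'⟩ := hE.rad_scalar hP hmem
      let xB : B := ⟨x, hx⟩
      have h1 : ρ ⁅t, xB⁆ = 1 := by
        rw [commutatorElement_def, map_mul, map_mul, map_mul, hc, smul_mul_assoc, one_mul, smul_mul_assoc,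
          smul_mul_assoc, mul_assoc (ρ xB), ]
        have h2 : ρ t * ρ t⁻¹ = 1 := by rw [← map_mul, mul_inv_cancel, map_one]
        rw [hc, smul_mul_assoc, one_mul] at h2
        rw [← smul_mul_assoc c, ← mul_assoc]
        calc (c • ρ xB) * ρ t⁻¹ * ρ xB⁻¹ = ρ xB * (c • ρ t⁻¹) * ρ xB⁻¹ := by
              rw [smul_mul_assoc, ← mul_smul_comm]
          _ = 1 := by rw [h2, mul_one, ← map_mul, mul_inv_cancel, map_one]
      have h2 : (w₀ : V) = c' • (w₀ : V) := by
        have := congrArg (fun F : Module.End K W => ((F w₀ : W) : V)) h1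
        simp only [hρ, Module.End.one_apply] at this
        conv_lhs => rw [← this, ← hPW w₀, ← Module.End.mul_apply]
        rw [show ((⁅t, xB⁆ : B) : H) = ⁅(t : H), x⁆ from rfl, hc', LinearMap.smul_apply, hPW]
      have hw0' : (w₀ : V) ≠ 0 := fun e => hw₀ (Subtype.ext e)
      have : c' = 1 := (smul_left_injective K hw0' (h2.symm.trans (one_smul K _).symm))
      show τ ⁅(t : H), x⁆ * P = P
      rw [hc', this, one_smul]
    · exact hE.le_rad P (hE.comm_mem a.2 b.2)
  haveI := hfr.normal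
  let θ : MulAut B := hE.inv.aut
  have hdi : Inv (MulAut.conj d) B := fun x hx => hBn d x hx
  let δ : MulAut B := hdi.aut
  have hθ : Twist S μ θ := by
    refine ⟨fun t ht => hE.rad_inv hP h _ ht, fun t ht => hμuniq (hμ _ (hE.rad_inv hP h _ ht)) ?_⟩
    show τ (s (t : H)) * P = μ t • P
    have h1 := congrArg (fun F => T * F * T ^ (r - 1)) (hμ t ht)
    simp only [← mul_assoc, h.conj, mul_smul_comm, smul_mul_assoc] at h1
    rwa [mul_assoc (τ (s (t : H))), ← hPT, ← mul_assoc, mul_assoc _ T, h.T_cancel.1, mul_one,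
      mul_assoc P, h.T_cancel.1, mul_one] at h1
  have hdder : ∀ z ∈ ⁅B, B⁆, d * z = z * d := fun z hz => hd0 z (hE.der hz)
  have hδm : ∀ t ∈ S, δ t ∈ S := fun t ht => hE.rad_conj_of_centralizes hdder ht
  have hmulτ : ∀ a b : B, a ∈ S → b ∈ S → τ ((a * b : B) : H) * P = (μ a * μ b) • P := fun a b ha hb => by
    rw [Subgroup.coe_mul, map_mul, mul_assoc, hμ b hb, mul_smul_comm, hμ a ha, smul_smul, mul_comm (μ b)]
  have hδ : Twist S μ δ := by
    refine ⟨hδm, fun t ht => ?_⟩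
    obtain ⟨x, hx, c, hcS, hsc', hxc⟩ := h.cop.exists_disp_mul (hE.rad_inv hP h) (x := (t : H)) ht
    let M : Subgroup H :=
      { carrier := {y | ∃ hy : y ∈ hE.rad P, μ (δ ⟨y, hy.1⟩) = μ ⟨y, hy.1⟩}
        one_mem' := ⟨one_mem _, by rw [show (⟨1, _⟩ : B) = 1 from rfl, map_one]⟩
        mul_mem' := fun {a b} ⟨ha, ha'⟩ ⟨hb, hb'⟩ => ⟨mul_mem ha hb, by
          have e : (⟨a * b, (mul_mem ha hb).1⟩ : B) = ⟨a, ha.1⟩ * ⟨b, hb.1⟩ := rfl
          rw [e, map_mul]
          refine (hμuniq (hμ _ (mul_mem (hδm _ ha) (hδm _ hb))) (hmulτ _ _ (hδm _ ha) (hδm _ hb))).trans ?_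
          rw [ha', hb']
          exact (hμuniq (hmulτ _ _ ha hb) (hμ _ (mul_mem (s := S) ha hb)))⟩
        inv_mem' := fun {a} ⟨ha, ha'⟩ => ⟨inv_mem ha, by
          have e : (⟨a⁻¹, (inv_mem ha).1⟩ : B) = (⟨a, ha.1⟩ : B)⁻¹ := rfl
          rw [e, map_inv]
          have key : ∀ y : B, y ∈ S → μ y⁻¹ = (μ y)⁻¹ := fun y hy => by
            have h1 := hmulτ y y⁻¹ hy (inv_mem hy)
            rw [mul_inv_cancel, OneMemClass.coe_one, map_one, one_mul] at h1
            exact eq_inv_of_mul_eq_one_right (smul_left_injective K hP.ne (h1.symm.trans (one_smul K P).symm))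
          rw [key _ (hδm _ ha), key _ ha, ha']⟩ }
    have hB0M : ∀ z ∈ hE.rad P, s z = z → z ∈ M := fun z hz hzs => by
      have hz0 := hE.fix z hz.1 hzs
      refine ⟨hz, congrArg μ (Subtype.ext ?_)⟩
      show d * z * d⁻¹ = z
      rw [hd0 z hz0, mul_inv_cancel_right]
    have hdispM : disp s (hE.rad P) ≤ M := by
      rw [disp, Subgroup.closure_le]
      rintro _ ⟨u, hu, rfl⟩
      refine ⟨mul_mem (inv_mem hu) (hE.rad_inv hP h u hu), ?_⟩
      have hval : ∀ y : B, y ∈ S → μ (y⁻¹ * θ y) = 1 := fun y hy => by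
        have h2 := hmulτ y (y⁻¹ * θ y) hy (mul_mem (inv_mem hy) (hθ.mem y hy))
        rw [mul_inv_cancel_left] at h2
        have h3 := hμuniq (hμ _ (hθ.mem y hy)) h2
        rw [hθ.val y hy] at h3
        have hne : μ y ≠ 0 := fun e0 => hP.ne (by
          have := hμ y hy
          rw [e0, zero_smul] at this
          calc P = τ (y : H)⁻¹ * (τ (y : H) * P) := by rw [← mul_assoc, ← map_mul, inv_mul_cancel, map_one, one_mul]
            _ = 0 := by rw [this, mul_zero])
        exact (mul_right_inj' hne).1 (h3.symm.trans (mul_one _).symm)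
      have e : δ ⟨u⁻¹ * s u, (mul_mem (inv_mem hu) (hE.rad_inv hP h u hu)).1⟩ =
          (δ ⟨u, hu.1⟩)⁻¹ * θ (δ ⟨u, hu.1⟩) := by
        apply Subtype.ext
        show d * (u⁻¹ * s u) * d⁻¹ = (d * u * d⁻¹)⁻¹ * s (d * u * d⁻¹)
        rw [map_mul, map_mul, map_inv, hsd]
        group
      rw [e, hval _ (hδm _ hu)]
      exact (hval ⟨u, hu.1⟩ hu).symm
    have hmem : (t : H) ∈ M := hxc ▸ mul_mem (hdispM hx) (hB0M c hcS hsc')
    exact hmem.2
  have hδθ : θ * δ = δ * θ := MulEquiv.ext fun t => Subtype.ext (by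
    show s (d * (t : H) * d⁻¹) = d * s (t : H) * d⁻¹
    rw [map_mul, map_mul, map_inv, hsd])
  have hθr : θ ^ r = 1 := MulEquiv.ext fun t => Subtype.ext (by rw [Inv.aut_pow_apply, h.cop.pow_eq]; rfl)
  have hδo : δ ^ orderOf d = 1 := MulEquiv.ext fun t => Subtype.ext (by
    rw [Inv.aut_pow_apply, ← map_pow, pow_orderOf_eq_one, map_one]; rfl)
  have hro : r.Coprime (orderOf d) :=
    Nat.Coprime.coprime_dvd_right (orderOf_dvd_natCard d) (h.cop.prime.coprime_iff_not_dvd.2 h.cop.ndvd)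
  have := Fact.mk hE.prime
  have hno : (orderOf d).Coprime S.index := by
    have hp : IsPGroup p (B ⧸ S) := by
      intro y
      obtain ⟨t, rfl⟩ := QuotientGroup.mk_surjective y
      refine ⟨1, ?_⟩
      rw [pow_one, ← QuotientGroup.mk_pow, QuotientGroup.eq_one_iff]
      exact hE.le_rad P (hE.exp t t.2)
    obtain ⟨a, ha⟩ := hp.exists_card_eq
    rw [Subgroup.index_eq_card, ha]
    exact hdp.pow_right a
  have hfree : ∀ t : B, t⁻¹ * θ t ∈ S → t ∈ S := fun t ht => hE.rad_fpf hP h t.2 ht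
  rcases core hfr hθ hδ hδθ h.cop.prime h.rK hθr hδo hro hno hfree τB (X := T) (Y := τ d)
    (fun t => h.conj (t : H))
    (fun t => by
      show τ d * τ (t : H) = τ (d * (t : H) * d⁻¹) * τ d
      rw [← map_mul, ← map_mul, inv_mul_cancel_right])
    (by rw [h.conj, hsd]) h.pow
    (fun a b e => by have := congrArg (τ d⁻¹) e; rwa [tau_inv_cancel, tau_inv_cancel] at this)
    hdfix (ι := W.subtype) (fun e => hw₀ (Subtype.ext (by
      simpa using congrArg (fun G : W →ₗ[K] V => G w₀) e))) (fun t => rfl) with h1 | ⟨h1, h2⟩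
  · exact Or.inl fun b hb => h1 ⟨b, hb⟩
  · exact Or.inr ⟨h1, fun b hb => h2 ⟨b, hb⟩⟩

omit hP in
/-- An element lying in every radical is fixed. -/
theorem mem_of_forall_rad (h : Irr r s τ T) {b : H} (hb : b ∈ B)
    (hall : ∀ P, IsAtom' τ B P → b ∈ hE.rad P) : b ∈ B0 := by
  refine hE.fix b hb (h.inj ?_)
  have hall' : ∀ P, IsAtom' τ B P → τ (s b) * P = τ b * P := fun P hP => by
    obtain ⟨c, hc⟩ := hE.rad_scalar hP (hall P hP)
    have h1 := congrArg (fun F => T * F * T ^ (r - 1)) hc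
    simp only [← mul_assoc, h.conj, mul_smul_comm, smul_mul_assoc] at h1
    rw [mul_assoc (τ (s b)), ← (hE.atom_comm hP).1, ← mul_assoc, mul_assoc _ T, h.T_cancel.1, mul_one,
      mul_assoc P, h.T_cancel.1, mul_one] at h1
    rw [h1, hc]
  calc τ (s b) = τ (s b) * ∑ P ∈ (atom_finite τ B).toFinset, P := by rw [sum_atoms, mul_one]
    _ = τ b * ∑ P ∈ (atom_finite τ B).toFinset, P := by
      rw [Finset.mul_sum, Finset.mul_sum]
      exact Finset.sum_congr rfl fun P hP => hall' P ((Set.Finite.mem_toFinset _).1 hP)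
    _ = τ b := by rw [sum_atoms, mul_one]

end Ext

end Cfsg.Agent.TurullTwo
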