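import Cfsg.Agent.Lib.TurullTwo.FZero
import Cfsg.Agent.Lib.TurullTwo.Sign

/-! A nilpotent term of the series of the fixed subgroup which fixes the fixed vectors, with the elements of order
prime to the characteristic of the preceding term, is trivial. -/

set_option autoImplicit false

universe u v w

open scoped commutatorElement
open Module Cfsg.Agent.CoprimeHHS Cfsg.Agent.CoprimeLength

namespace Cfsg.Agent.TurullTwo

section

variable {H : Type u} [Group H] [Finite H] {s : MulAut H}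

theorem res_le_commutator (L : Subgroup H) : res L ≤ ⁅res L, L⁆ := by
  obtain ⟨j, hj⟩ := exists_res_eq L
  rw [hj, ← Subgroup.lowerCentralSeries_succ, ← hj]
  exact iInf_le _ (j + 1)

theorem R_conj_mem {C : Subgroup H} (k : ℕ) {c x : H} (hc : c ∈ C) (hx : x ∈ R k C) : c * x * c⁻¹ ∈ R k C := by
  have hC : C.map (MulAut.conj c).toMonoidHom = C := by
    refine Subgroup.eq_of_le_of_card_ge ?_ ?_
    · rintro _ ⟨y, hy, rfl⟩
      exact mul_mem (mul_mem hc hy) (inv_mem hc)
    · rw [← Nat.card_congr (C.equivMapOfInjective _ (MulAut.conj c).injective).toEquiv]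
  rw [← hC, ← map_R]
  exact ⟨x, hx, rfl⟩

/-- A minimal invariant section inside which commutators vanish has prime exponent. -/
theorem exists_exp_of_max {B B0 : Subgroup H} [B.Normal] [B0.Normal] (hBi : Inv s B) (hB0i : Inv s B0)
    (hle : B0 ≤ B) (hnle : ¬ B ≤ B0) (hder : ⁅B, B⁆ ≤ B0)
    (hmax : ∀ L : Subgroup H, L.Normal → Inv s L → B0 ≤ L → L ≤ B → L = B0 ∨ L = B) :
    ∃ p : ℕ, p.Prime ∧ (∀ b ∈ B, b ^ p ∈ B0) ∧ ∃ x ∈ B, x ∉ B0 ∧ x ^ p ∈ B0 := by
  obtain ⟨b, hb, hb0⟩ := SetLike.not_le_iff_exists.1 hnle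
  set u : H ⧸ B0 := (b : H ⧸ B0) with hu
  have hu1 : orderOf u ≠ 1 := fun e => hb0 ((QuotientGroup.eq_one_iff b).1 (orderOf_eq_one_iff.1 e))
  obtain ⟨p, hp, hpo⟩ := Nat.exists_prime_and_dvd hu1
  have hx : b ^ (orderOf u / p) ∈ B ∧ b ^ (orderOf u / p) ∉ B0 ∧ (b ^ (orderOf u / p)) ^ p ∈ B0 := by
    refine ⟨pow_mem hb _, fun e => ?_, ?_⟩
    · rw [← QuotientGroup.eq_one_iff, QuotientGroup.mk_pow, ← orderOf_dvd_iff_pow_eq_one] at e
      have h1 := Nat.le_of_dvd (Nat.div_pos (Nat.le_of_dvd (orderOf_pos u) hpo) hp.pos) e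
      exact absurd h1 (_root_.not_le.2 (Nat.div_lt_self (orderOf_pos u) hp.one_lt))
    · rw [← pow_mul, Nat.div_mul_cancel hpo, ← QuotientGroup.eq_one_iff, QuotientGroup.mk_pow, pow_orderOf_eq_one]
  let L : Subgroup H :=
    { carrier := {x | x ∈ B ∧ x ^ p ∈ B0}
      one_mem' := ⟨one_mem B, by rw [one_pow]; exact one_mem B0⟩
      mul_mem' := fun {a c} ha hc => ⟨mul_mem ha.1 hc.1, by
        have hcomm : Commute (a : H ⧸ B0) (c : H ⧸ B0) := by
          rw [← commutatorElement_eq_one_iff_commute]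
          exact (map_commutatorElement (QuotientGroup.mk' B0) a c).symm.trans
            ((QuotientGroup.eq_one_iff _).2 (hder (Subgroup.commutator_mem_commutator ha.1 hc.1)))
        rw [← QuotientGroup.eq_one_iff, QuotientGroup.mk_pow, QuotientGroup.mk_mul, hcomm.mul_pow,
          ← QuotientGroup.mk_pow, ← QuotientGroup.mk_pow, (QuotientGroup.eq_one_iff _).2 ha.2,
          (QuotientGroup.eq_one_iff _).2 hc.2, one_mul]⟩
      inv_mem' := fun {a} ha => ⟨inv_mem ha.1, by rw [inv_pow]; exact inv_mem ha.2⟩ }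
  have hLn : L.Normal := ⟨fun x hx g => ⟨(inferInstance : B.Normal).conj_mem x hx.1 g, by
    rw [_root_.conj_pow]; exact (inferInstance : B0.Normal).conj_mem _ hx.2 g⟩⟩
  have hLi : Inv s L := fun x hx => ⟨hBi x hx.1, by rw [← map_pow]; exact hB0i _ hx.2⟩
  rcases hmax L hLn hLi (fun x hx => ⟨hle hx, pow_mem hx p⟩) (fun x hx => hx.1) with e | e
  · exact absurd (e.le (show b ^ (orderOf u / p) ∈ L from ⟨hx.1, hx.2.2⟩)) hx.2.1
  · exact ⟨p, hp, fun y hy => (e.ge hy).2, _, hx⟩

/-- A chief section has prime exponent. -/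
theorem Chief.exists_exp {B B0 : Subgroup H} [B.Normal] (hBi : Inv s B) (hch : Chief s B B0) :
    ∃ p : ℕ, p.Prime ∧ (∀ b ∈ B, b ^ p ∈ B0) ∧ ∃ x ∈ B, x ∉ B0 ∧ x ^ p ∈ B0 :=
  have := hch.normal
  exists_exp_of_max hBi hch.inv hch.le hch.not_le hch.der hch.max

/-- The elements of prime power order of a nilpotent term centralise a chief section of the same exponent. -/
theorem centralizes_of_pPart {B B0 : Subgroup H} [B.Normal] (hBi : Inv s B) (hch : Chief s B B0)
    (hBC : ∀ x : H, ∃ b ∈ B, ∃ c, s c = c ∧ x = b * c) {p : ℕ} [Fact p.Prime] (hexp : ∀ b ∈ B, b ^ p ∈ B0)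
    {k : ℕ} (hres : R (k + 1) (fixed s) = ⊥) {d : H} (hd : d ∈ R k (fixed s)) {a : ℕ} (hda : d ^ p ^ a = 1)
    {b : H} (hb : b ∈ B) : ⁅b, d⁆ ∈ B0 := by
  have := hch.normal
  set M := R k (fixed s) with hM
  set D := Subgroup.closure {x : H | x ∈ M ∧ ∃ a : ℕ, x ^ p ^ a = 1} with hD
  have hdD : d ∈ D := Subgroup.subset_closure ⟨hd, a, hda⟩
  have hDp : IsPGroup p D := by
    haveI : Group.IsNilpotent M := res_eq_bot.1 hres
    obtain ⟨Q⟩ : Nonempty (Sylow p M) := inferInstance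
    have hQn : (Q : Subgroup M).Normal := inferInstance
    refine (Q.isPGroup'.map M.subtype).to_le ((Subgroup.closure_le _).2 ?_)
    rintro x ⟨hxM, i, hi⟩
    have hz : IsPGroup p (Subgroup.zpowers (⟨x, hxM⟩ : M)) := by
      obtain ⟨j, -, hj⟩ := (Nat.dvd_prime_pow (Fact.out : p.Prime)).1
        (orderOf_dvd_of_pow_eq_one (x := (⟨x, hxM⟩ : M)) (Subtype.ext hi : (⟨x, hxM⟩ : M) ^ p ^ i = 1))
      exact IsPGroup.of_card (n := j) (by rw [Nat.card_zpowers, hj])
    have he := Q.is_maximal' (hz.to_sup_of_normal_right Q.isPGroup') le_sup_right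
    exact ⟨⟨x, hxM⟩, he.le (Subgroup.mem_sup_left (Subgroup.mem_zpowers _)), rfl⟩
  have hDs : ∀ x ∈ D, s x = x := fun x hx =>
    ((Subgroup.closure_le (fixed s)).2 (fun y hy => R_le k _ hy.1)) hx
  have hDc : ∀ c, s c = c → D.map (MulAut.conj c).toMonoidHom ≤ D := fun c hc => by
    rw [hD, MonoidHom.map_closure, Subgroup.closure_le]
    rintro _ ⟨x, ⟨hxM, i, hi⟩, rfl⟩
    refine Subgroup.subset_closure ⟨R_conj_mem k (mem_fixed.2 hc) hxM, i, ?_⟩
    show (c * x * c⁻¹) ^ p ^ i = 1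
    rw [_root_.conj_pow, hi, mul_one, mul_inv_cancel]
  set L := ⁅B, D⁆ ⊔ B0 with hL
  have hLB : L ≤ B := sup_le (Subgroup.commutator_le_left B D) hch.le
  have hLc : ∀ c, s c = c → L.map (MulAut.conj c).toMonoidHom ≤ L := fun c hc => by
    rw [hL, Subgroup.map_sup, Subgroup.map_commutator]
    refine sup_le_sup (Subgroup.commutator_mono ?_ (hDc c hc)) ?_
    · rintro _ ⟨x, hx, rfl⟩; exact (inferInstance : B.Normal).conj_mem x hx c
    · rintro _ ⟨x, hx, rfl⟩; exact hch.normal.conj_mem x hx c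
  have hLn : L.Normal := ⟨fun y hy g => by
    obtain ⟨b', hb', c, hc, rfl⟩ := hBC g
    have hcy : c * y * c⁻¹ ∈ L := hLc c hc ⟨y, hy, rfl⟩
    rw [show b' * c * y * (b' * c)⁻¹ = ⁅b', c * y * c⁻¹⁆ * (c * y * c⁻¹) by rw [commutatorElement_def]; group]
    exact mul_mem (Subgroup.mem_sup_right (hch.der (Subgroup.commutator_mem_commutator hb' (hLB hcy)))) hcy⟩
  have hLi : Inv s L := (inv_commutator hBi fun x hx => by rwa [hDs x hx]).sup hch.inv
  rcases hch.max L hLn hLi le_sup_right hLB with e | e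
  · exact e.le (Subgroup.mem_sup_left (Subgroup.commutator_mem_commutator hb hdD))
  refine absurd ?_ hch.not_le
  set π := QuotientGroup.mk' B0 with hπ
  have hBn : (B.map π).Normal := Subgroup.Normal.map inferInstance _ (QuotientGroup.mk'_surjective _)
  have hBp : IsPGroup p (B.map π) := by
    rintro ⟨_, y, hy, rfl⟩
    refine ⟨1, Subtype.ext ?_⟩
    rw [pow_one, Subgroup.coe_pow, OneMemClass.coe_one, hπ, ← map_pow]
    exact (QuotientGroup.eq_one_iff _).2 (hexp y hy)
  have hP := hBp.to_sup_of_normal_left (hDp.map π)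
  have hbot : B0.map π = ⊥ := by
    rw [eq_bot_iff]
    rintro _ ⟨x, hx, rfl⟩
    exact Subgroup.mem_bot.2 ((QuotientGroup.eq_one_iff x).2 hx)
  have hle := le_of_chief (B0 := (⊥ : Subgroup (H ⧸ B0))) hP.isNilpotent
    (B := B.map π) (le_sup_left.trans le_sup_left) (by
      conv_lhs => rw [← e, hL, Subgroup.map_sup, Subgroup.map_commutator, hbot]
      exact sup_le_sup_right (Subgroup.commutator_mono le_rfl le_sup_right) _)
  intro y hy
  exact (QuotientGroup.eq_one_iff y).1 (Subgroup.mem_bot.1 (hle ⟨y, hy, rfl⟩))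

variable {K : Type w} [Field K] {V : Type v} [AddCommGroup V] [Module K V] [FiniteDimensional K V] {r : ℕ}
  {τ : H →* Module.End K V} {T : Module.End K V}

/-- Every block has a fixed vector. -/
theorem Ext.exists_fixed_vector {B B0 : Subgroup H} {p : ℕ} (hE : Ext s τ T B B0 p) (h : Irr r s τ T)
    (hfix : ∃ v, v ≠ 0 ∧ T v = v) (hBC : ∀ x : H, ∃ b ∈ B, ∃ c, s c = c ∧ x = b * c) {P : Module.End K V}
    (hP : IsAtom' τ B P) : ∃ v, v ≠ 0 ∧ T v = v ∧ P v = v := by
  classical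
  have := hE.normal
  have hτ1 : ∀ g : H, τ g * τ g⁻¹ = 1 ∧ τ g⁻¹ * τ g = 1 := fun g =>
    ⟨by rw [← map_mul, mul_inv_cancel, map_one], by rw [← map_mul, inv_mul_cancel, map_one]⟩
  set S := (atom_finite τ B).toFinset.filter (fun P => ∃ v, v ≠ 0 ∧ T v = v ∧ P v = v) with hS
  have hmem : ∀ {A}, A ∈ S ↔ IsAtom' τ B A ∧ ∃ v, v ≠ 0 ∧ T v = v ∧ A v = v := by
    intro A; rw [hS, Finset.mem_filter, Set.Finite.mem_toFinset]; rfl
  have hconj : ∀ c, s c = c → ∀ A ∈ S, τ c * A * τ c⁻¹ ∈ S := by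
    intro c hc A hA
    obtain ⟨hAa, v, hv0, hTv, hAv⟩ := hmem.1 hA
    refine hmem.2 ⟨hAa.transport (α := MulAut.conj c) (fun x hx => (inferInstance : B.Normal).conj_mem x hx c)
      (fun x => by rw [← map_mul, ← map_mul]; congr 1; simp [MulAut.conj_apply]) (hτ1 c).1 (hτ1 c).2
      (β := MulAut.conj c⁻¹) (fun x hx => (inferInstance : B.Normal).conj_mem x hx c⁻¹)
      (fun x => by rw [← map_mul, ← map_mul]; congr 1; simp [MulAut.conj_apply]), τ c v,
      fun e => hv0 (by rw [← tau_inv_cancel τ c v, e, map_zero]), by rw [h.conj_apply, hc, hTv], ?_⟩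
    rw [Module.End.mul_apply, tau_inv_cancel, Module.End.mul_apply, hAv]
  set Q := ∑ A ∈ S, A with hQ
  have hQT : T * Q = Q * T := by
    rw [hQ, Finset.mul_sum, Finset.sum_mul]
    exact Finset.sum_congr rfl fun A hA => ((hE.atom_comm (hmem.1 hA).1).1).symm
  have hQB : ∀ b ∈ B, τ b * Q = Q * τ b := fun b hb => by
    rw [hQ, Finset.mul_sum, Finset.sum_mul]
    exact Finset.sum_congr rfl fun A hA => (((hE.atom_comm (hmem.1 hA).1).2) b hb).symm
  have hQC : ∀ c, s c = c → τ c * Q = Q * τ c := fun c hc => by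
    have hci : s c⁻¹ = c⁻¹ := by rw [map_inv, hc]
    rw [hQ, Finset.mul_sum, Finset.sum_mul]
    refine Finset.sum_nbij' (fun A => τ c * A * τ c⁻¹) (fun A => τ c⁻¹ * A * τ c) (fun A hA => hconj c hc A hA)
      (fun A hA => by have := hconj c⁻¹ hci A hA; rwa [inv_inv] at this) (fun A _ => ?_) (fun A _ => ?_)
      (fun A _ => ?_)
    · simp only [← mul_assoc, (hτ1 c).2, one_mul]
      rw [mul_assoc, (hτ1 c).2, mul_one]
    · simp only [← mul_assoc, (hτ1 c).1, one_mul]
      rw [mul_assoc, (hτ1 c).1, mul_one]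
    · rw [mul_assoc, (hτ1 c).2, mul_one]
  have hQH : ∀ x, τ x * Q = Q * τ x := fun x => by
    obtain ⟨b, hb, c, hc, rfl⟩ := hBC x
    rw [map_mul, mul_assoc, hQC c hc, ← mul_assoc, hQB b hb, mul_assoc]
  obtain ⟨v, hv0, hTv⟩ := hfix
  rcases h.irr (LinearMap.range Q) (fun x u ⟨w, hw⟩ => ⟨τ x w, by
      rw [← hw, ← Module.End.mul_apply, ← hQH, Module.End.mul_apply]⟩) (fun u ⟨w, hw⟩ => ⟨T w, by
      rw [← hw, ← Module.End.mul_apply, ← hQT, Module.End.mul_apply]⟩) with e | e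
  · exfalso
    have hne : ∃ A ∈ (atom_finite τ B).toFinset, A v ≠ 0 := by
      by_contra hc
      push Not at hc
      refine hv0 ?_
      calc v = (∑ A ∈ (atom_finite τ B).toFinset, A) v := by rw [sum_atoms]; rfl
        _ = 0 := by rw [LinearMap.sum_apply]; exact Finset.sum_eq_zero hc
    obtain ⟨A, hA, hAv⟩ := hne
    have hAa : IsAtom' τ B A := (Set.Finite.mem_toFinset _).1 hA
    have hAS : A ∈ S := hmem.2 ⟨hAa, A v, hAv, by
      rw [← Module.End.mul_apply, ← (hE.atom_comm hAa).1, Module.End.mul_apply, hTv],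
      by rw [← Module.End.mul_apply, hAa.idem]⟩
    refine hAa.ne ?_
    calc A = A * Q := by
          rw [hQ, Finset.mul_sum, Finset.sum_eq_single A (fun A' hA' hne =>
            hAa.ortho (hmem.1 hA').1 (Ne.symm hne)) (fun h' => absurd hAS h'), hAa.idem]
      _ = 0 := by rw [LinearMap.range_eq_bot.1 e, mul_zero]
  · by_contra hP'
    refine hP.ne (LinearMap.ext fun u => ?_)
    obtain ⟨w, hw⟩ := e.ge (Submodule.mem_top : u ∈ ⊤)
    have hPQ : P * Q = 0 := by
      rw [hQ, Finset.mul_sum]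
      exact Finset.sum_eq_zero fun A hA => hP.ortho (hmem.1 hA).1 fun e' => hP' (e' ▸ (hmem.1 hA).2)
    rw [← hw, ← Module.End.mul_apply, hPQ]
    rfl

end

variable {K : Type w} [Field K] [IsAlgClosed K] {q : ℕ} [Fact q.Prime] [CharP K q] {r : ℕ}

set_option maxHeartbeats 1000000 in
theorem bstar_aux : ∀ (n : ℕ) (H : Type u) [Group H] [Finite H] [Group.IsSolvable H], Nat.card H ≤ n →
    ∀ (V : Type v) [AddCommGroup V] [Module K V] [FiniteDimensional K V] (s : MulAut H)
      (τ : H →* Module.End K V) (T : Module.End K V), Irr r s τ T → (∃ v, v ≠ 0 ∧ T v = v) → ∀ k : ℕ,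
      R (k + 1) (fixed s) = ⊥ → (∀ x ∈ R k (fixed s), ∀ v, T v = v → τ x v = v) →
      (∀ k', k = k' + 1 → ∀ y ∈ R k' (fixed s), (orderOf y).Coprime q → ∀ v, T v = v → τ y v = v) →
      ∀ x ∈ R k (fixed s), x = 1 := by
  intro n
  induction n using Nat.strong_induction_on with
  | _ n ih =>
  intro H _ _ _ hcard V _ _ _ s τ T h hfix k hres hyp hyp' d0 hd0
  haveI : Nontrivial V := by
    obtain ⟨v, hv, -⟩ := hfix
    exact ⟨⟨v, 0, hv⟩⟩
  by_cases hne : disp s (⊤ : Subgroup H) = ⊥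
  · exact h.eq_one_of_fixed_all hfix hne (hyp d0 hd0)
  obtain ⟨hBn, hBi, hBd, hBC, B0, hch⟩ := exists_setup h.cop hne
  set B := disp s (⊤ : Subgroup H) with hB
  by_contra hd01
  have hall : ∀ B0, Chief s B B0 → (∀ E, IsGen τ B0 E → T * E = E * T ∧ ∀ b ∈ B, τ b * E = E * τ b) ∧
      ∀ d ∈ R k (fixed s), ∀ x ∈ B0, d * x = x * d := by
    intro B0 hch
    haveI := hch.normal
    rcases reduce h hBi hch.inv le_rfl hch.le hBC hch.fix
        (fun a ha b hb => hch.der (Subgroup.commutator_mem_commutator ha hb)) k 1 (Or.inr rfl)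
        (fun x hx _ => hyp x hx) with h1 | hstar
    · exact absurd (h1 d0 hd0 (Nat.coprime_one_right _)) hd01
    have hU := hch.sup_inv
    have hCU : fixed s ≤ fixed s ⊔ B0 := le_sup_left
    refine ⟨hstar, fun d hd => centralizes_chief (q := q) h hfix hch hBC hstar hU hCU le_sup_right
      (R_le k _ hd) (hyp d hd) fun W _ _ _ τ' T' hact hw htr => ?_⟩
    obtain ⟨hi, hIrr⟩ := hact.quot
    have hlt : Nat.card (↥(fixed s ⊔ B0) ⧸ τ'.ker) < n :=
      lt_of_le_of_lt (Nat.le_of_dvd Nat.card_pos (Subgroup.card_quotient_dvd_card _))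
        (lt_of_lt_of_le hch.card_lt hcard)
    have hd1 := ih _ hlt (↥(fixed s ⊔ B0) ⧸ τ'.ker) le_rfl W hi.qAut _ T' hIrr hw k
      (by
        rw [R_fixed_qAut (h.cop.sub hU) hi, fixed_aut hU]
        refine (Subgroup.map_eq_bot_iff _).2 (le_trans (fun x hx => ?_) bot_le)
        have := (mem_R_of_coe hCU (k + 1) x).1 hx
        rw [hres, Subgroup.mem_bot] at this
        exact Subgroup.mem_bot.2 (Subtype.ext this))
      (fun y hy v hv => by
        obtain ⟨y', hy', -, rfl⟩ := exists_preimage hU h.cop hCU hi (Or.inr rfl) hy (Nat.coprime_one_right _)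
        rw [QuotientGroup.lift_mk]
        exact htr y' (hyp _ hy') v hv)
      (fun k' hk' y hy hyq v hv => by
        obtain ⟨y', hy', hyq', rfl⟩ := exists_preimage hU h.cop hCU hi (Or.inl Fact.out) hy hyq
        rw [QuotientGroup.lift_mk]
        exact htr y' (hyp' k' hk' _ hy' hyq') v hv)
      (QuotientGroup.mk (⟨d, hCU (R_le k _ hd)⟩ : ↥(fixed s ⊔ B0))) (mk_mem_R hU h.cop hCU hi hd)
    exact MonoidHom.mem_ker.1 ((QuotientGroup.eq_one_iff _).1 hd1)
  have hmove : ∀ B0, Chief s B B0 → ¬ ∀ b ∈ B, ⁅b, d0⁆ ∈ B0 := fun B0 hch hdB =>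
    hd01 (h.eq_one_of_chief q hBi hBd hch hBC hfix (hall B0 hch).1 (R_le k _ hd0) (hyp d0 hd0)
      ((hall B0 hch).2 d0 hd0) hdB)
  haveI := hch.normal
  obtain ⟨hstar0, hcent⟩ := hall B0 hch
  -- the lower part is central
  have hBB0 : B ≤ Subgroup.centralizer (B0 : Set H) := by
    by_contra hc
    set B1 := B ⊓ Subgroup.centralizer (B0 : Set H) with hB1
    have hnle : ¬ B ≤ B1 ⊔ ⁅B, B⁆ := fun hle => hc ((le_of_le_sup_commutator hle).trans inf_le_right)
    obtain ⟨B0', hch', hL⟩ := exists_chief B hBi hBd (L₀ := B1 ⊔ ⁅B, B⁆)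
      ((hBi.inf hch.inv.centralizer).sup (inv_commutator hBi hBi))
      (sup_le inf_le_left (Subgroup.commutator_le_right _ _)) le_sup_right hnle hBC
    refine hmove B0' hch' fun b hb => hL (Subgroup.mem_sup_left ?_)
    have hd0c : d0 ∈ Subgroup.centralizer (B0 : Set H) :=
      Subgroup.mem_centralizer_iff.2 fun x hx => (hcent d0 hd0 x hx).symm
    exact Subgroup.commutator_le_inf B (Subgroup.centralizer (B0 : Set H))
      (Subgroup.commutator_mem_commutator hb hd0c)
  have hcen : ∀ z ∈ B0, ∀ b ∈ B, b * z = z * b := fun z hz b hb =>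
    (Subgroup.mem_centralizer_iff.1 (hBB0 hb) z hz).symm
  have hB0C : ∀ z ∈ B0, s z = z := fun z hz =>
    (h.central_of_star q hch.inv hstar0 hz fun g hg => hcen z hz g (hch.le hg)).1
  have hzero : ∀ z ∈ R k (fixed s), z ∈ B0 → z = 1 := fun z hz hz0 =>
    h.eq_one_of_centralizes hBi hBC hfix (hyp z hz) fun b hb => (hcen z hz0 b hb).symm
  rcases reduce h (G0 := B) hBi hBi hch.le hch.le hBC hch.fix
      (fun a ha b hb => hch.der (Subgroup.commutator_mem_commutator ha hb)) k 1 (Or.inr rfl)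
      (fun x hx _ => hyp x hx) with h1 | hstarB
  · exact hd01 (h1 d0 hd0 (Nat.coprime_one_right _))
  -- the exponent
  obtain ⟨p, hp, hexp, x0, hx0B, hx0, hx0p⟩ := hch.exists_exp hBi
  haveI := Fact.mk hp
  have hBq : ¬ q ∣ Nat.card B := by
    haveI : Group.IsNilpotent B := by
      rw [Subgroup.isNilpotent_iff_lowerCentralSeries]
      refine ⟨2, eq_bot_iff.2 ?_⟩
      rw [Subgroup.lowerCentralSeries_succ, Subgroup.commutator_le]
      intro z hz b hb
      have hz' : z ∈ ⁅B, B⁆ := by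
        rwa [Subgroup.lowerCentralSeries_succ] at hz
      rw [Subgroup.mem_bot, commutatorElement_eq_one_iff_mul_comm]
      exact (hcen z (hch.der hz') b hb).symm
    obtain ⟨Q⟩ : Nonempty (Sylow q B) := inferInstance
    have hQn : (Q : Subgroup B).Normal := inferInstance
    have hbot := h.eq_bot_of_normal_in hBi (P := (Q : Subgroup B).map B.subtype) (Subgroup.map_subtype_le _)
      (Q.isPGroup'.map _) (by
        rintro g hg _ ⟨y, hy, rfl⟩
        exact ⟨⟨g, hg⟩ * y * ⟨g, hg⟩⁻¹, hQn.conj_mem y hy _, rfl⟩)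
    rw [Subgroup.map_eq_bot_iff_of_injective _ B.subtype_injective] at hbot
    have := Q.not_dvd_index
    rwa [hbot, Subgroup.index_bot] at this
  have hord : ∀ z ∈ B, (orderOf z : K) ≠ 0 := fun z hz e => hBq (((CharP.cast_eq_zero_iff K q _).1 e).trans
    (Subgroup.orderOf_mk z hz ▸ orderOf_dvd_natCard (⟨z, hz⟩ : B)))
  have hpq : p ≠ q := by
    intro e
    subst e
    have hcop : p.Coprime (orderOf x0) := hp.coprime_iff_not_dvd.2 fun hd => hBq (hd.trans
      (Subgroup.orderOf_mk x0 hx0B ▸ orderOf_dvd_natCard (⟨x0, hx0B⟩ : B)))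
    obtain ⟨m, hm⟩ := exists_pow_eq_self_of_coprime hcop
    exact hx0 (hm ▸ pow_mem hx0p m)
  have hE : Ext s τ T B B0 p :=
    ⟨hp, hBn, hBi, hch.le, hcen, hch.der, hch.fix, hB0C, hexp, hstarB, hord⟩
  have hderexp : ∀ z ∈ ⁅B, B⁆, z ^ p = 1 := by
    let E : Subgroup H :=
      { carrier := {z | z ∈ B0 ∧ z ^ p = 1}
        one_mem' := ⟨one_mem B0, one_pow p⟩
        mul_mem' := fun {a c} ha hc => ⟨mul_mem ha.1 hc.1, by
          rw [(show Commute a c from hcen c hc.1 a (hch.le ha.1)).mul_pow, ha.2, hc.2, one_mul]⟩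
        inv_mem' := fun {a} ha => ⟨inv_mem ha.1, by rw [inv_pow, ha.2, inv_one]⟩ }
    suffices hle : ⁅B, B⁆ ≤ E from fun z hz => (hle hz).2
    rw [Subgroup.commutator_le]
    intro a ha b hb
    refine ⟨hE.comm_mem ha hb, ?_⟩
    have hpow : ∀ i : ℕ, ⁅a ^ i, b⁆ = ⁅a, b⁆ ^ i := fun i => by
      induction i with
      | zero => simp
      | succ i ih => rw [pow_succ, hE.comm_mul (pow_mem ha i) ha hb, ih, pow_succ]
    rw [← hpow, commutatorElement_eq_one_iff_mul_comm]
    exact (hcen _ (hexp a ha) b hb).symm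
  cases k with
  | zero =>
    have hab : ∀ a ∈ B, ∀ b ∈ B, a * b = b * a := fun a ha b hb =>
      commutatorElement_eq_one_iff_mul_comm.1
        (hzero _ (mem_fixed.2 (hB0C _ (hE.comm_mem ha hb))) (hE.comm_mem ha hb))
    exact hch.not_le fun b hb =>
      hch.fix b hb (h.central_of_star q hBi hstarB hb fun g hg => hab g hg b hb).1
  | succ k' =>
    set Y := R k' (fixed s) with hY
    have hYfix : ∀ y ∈ Y, s y = y := fun y hy => R_le k' _ hy
    have hYder : ∀ y ∈ Y, (orderOf y).Coprime p → ∀ z ∈ ⁅B, B⁆, y * z = z * y := by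
      intro y hy hyp'' z hz
      obtain ⟨j, hj⟩ := exists_res_eq Y
      have hzfix := hB0C z (hch.der hz)
      have hyder : ∀ u ∈ ⁅B, B⁆, y * u * y⁻¹ ∈ ⁅B, B⁆ := fun u hu =>
        (inferInstance : (⁅B, B⁆).Normal).conj_mem u hu y
      have hmem := comm_mem_of_unipotent (N := ⁅B, B⁆) (J := ⊥) bot_le
        (by
          rw [Subgroup.commutator_le]
          intro a ha b hb
          rw [Subgroup.mem_bot, commutatorElement_eq_one_iff_mul_comm]
          exact (hcen a (hch.der ha) b (hch.le (hch.der hb))).symm)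
        hyder (fun u hu => by rw [Subgroup.mem_bot.1 hu, mul_one, mul_inv_cancel]; exact one_mem _)
        (pow_orderOf_eq_one y) hyp'' (fun u hu => ⟨1, by rw [pow_one, Subgroup.mem_bot]; exact hderexp u hu⟩)
        (u := iterComm y z) hz (fun _ => rfl) (k := j + 1) (by
          rw [Subgroup.mem_bot]
          refine hzero _ ?_ (hch.der (iterComm_mem_normal hyder hz _))
          show iterComm y z (j + 1) ∈ res Y
          rw [hj]
          exact iterComm_mem hy (fun w hw => R_conj_mem k' (mem_fixed.2 hzfix) hw) j)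
      rw [Subgroup.mem_bot] at hmem
      exact commutatorElement_eq_one_iff_mul_comm.1 hmem
    have hYrad : ∀ y ∈ Y, ∀ P, IsAtom' τ B P → ∀ x ∈ hE.rad P, y * x * y⁻¹ ∈ hE.rad P := by
      intro y hy P hP x hx
      obtain ⟨u, v, huv, hu, hv, ⟨a, hua⟩, hvp⟩ := PBasic.exists_pPart_mul (p := p) y
      have huY : u ∈ Y := Subgroup.zpowers_le.2 hy hu
      have hvY : v ∈ Y := Subgroup.zpowers_le.2 hy hv
      have h1 : v * x * v⁻¹ ∈ hE.rad P := hE.rad_conj_of_centralizes (hYder v hvY hvp) hx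
      obtain ⟨w, hw0, hTw, hPw⟩ := hE.exists_fixed_vector h hfix hBC hP
      have huw : τ u w = w := hyp' k' rfl u huY (by
        rw [hua]
        exact Nat.Coprime.pow_left a ((Nat.coprime_primes hp Fact.out).2 hpq)) w hTw
      have huw' : τ u⁻¹ w = w := by
        conv_lhs => rw [← huw, tau_inv_cancel]
      have hP' : IsAtom' τ B (τ u * P * τ u⁻¹) :=
        hP.transport (α := MulAut.conj u) (fun x hx => (inferInstance : B.Normal).conj_mem x hx u)
          (fun x => by rw [← map_mul, ← map_mul]; congr 1; simp [MulAut.conj_apply])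
          (by rw [← map_mul, mul_inv_cancel, map_one]) (by rw [← map_mul, inv_mul_cancel, map_one])
          (β := MulAut.conj u⁻¹) (fun x hx => (inferInstance : B.Normal).conj_mem x hx u⁻¹)
          (fun x => by rw [← map_mul, ← map_mul]; congr 1; simp [MulAut.conj_apply])
      have hPu : τ u * P * τ u⁻¹ = P := by
        by_contra hne'
        refine hw0 ?_
        calc w = (τ u * P * τ u⁻¹) (P w) := by
              rw [hPw, Module.End.mul_apply, huw', Module.End.mul_apply, hPw, huw]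
          _ = 0 := by rw [← Module.End.mul_apply, hP'.ortho hP hne', LinearMap.zero_apply]
      have hcomm : τ u * P = P * τ u := by
        conv_rhs => rw [← hPu, mul_assoc, ← map_mul, inv_mul_cancel, map_one, mul_one]
      have h2 := hE.rad_conj_of_fixes hcomm h1
      rw [← huv]
      rwa [show u * v * x * (u * v)⁻¹ = u * (v * x * v⁻¹) * u⁻¹ by group]
    have hsgn : ∀ d ∈ R (k' + 1) (fixed s), ∀ P, IsAtom' τ B P →
        (∀ b ∈ B, d * b * d⁻¹ * b⁻¹ ∈ hE.rad P) ∨ (∀ b ∈ B, d * b * d⁻¹ * b ∈ hE.rad P) := by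
      intro d hd P hP
      obtain ⟨u, v, huv, hu, hv, ⟨a, hua⟩, hvp⟩ := PBasic.exists_pPart_mul (p := p) d
      have huR : u ∈ R (k' + 1) (fixed s) := Subgroup.zpowers_le.2 hd hu
      have hvR : v ∈ R (k' + 1) (fixed s) := Subgroup.zpowers_le.2 hd hv
      have hu1 : ∀ y ∈ B, u * y * u⁻¹ * y⁻¹ ∈ hE.rad P := fun y hy => hE.le_rad P (by
        rw [show u * y * u⁻¹ * y⁻¹ = ⁅y, u⁆⁻¹ by rw [commutatorElement_def]; group]
        exact inv_mem (centralizes_of_pPart hBi hch hBC hexp hres huR (a := a)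
          (by rw [← hua, pow_orderOf_eq_one]) hy))
      rcases hE.sign hP h (R_le _ _ hvR) (hcent v hvR) (hyp v hvR) hvp with h1 | ⟨-, h1⟩
      · refine Or.inl fun b hb => ?_
        rw [← huv, show u * v * b * (u * v)⁻¹ * b⁻¹ =
          (u * (v * b * v⁻¹) * u⁻¹ * (v * b * v⁻¹)⁻¹) * (b * (b⁻¹ * (v * b * v⁻¹)) * b⁻¹) by group]
        exact mul_mem (hu1 _ ((inferInstance : B.Normal).conj_mem b hb v)) (hE.rad_conj_B hP hb (h1 b hb))
      · refine Or.inr fun b hb => ?_
        rw [← huv, show u * v * b * (u * v)⁻¹ * b =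
          (u * (v * b * v⁻¹) * u⁻¹ * (v * b * v⁻¹)⁻¹) * (b⁻¹ * (b * (v * b * v⁻¹)) * b⁻¹⁻¹) by group]
        exact mul_mem (hu1 _ ((inferInstance : B.Normal).conj_mem b hb v))
          (hE.rad_conj_B hP (inv_mem hb) (h1 b hb))
    let L : Subgroup H :=
      { carrier := {g | ∀ P, IsAtom' τ B P → ∀ b ∈ B, g * b * g⁻¹ * b⁻¹ ∈ hE.rad P}
        one_mem' := fun P _ b _ => by rw [one_mul, inv_one, mul_one, mul_inv_cancel]; exact one_mem _
        mul_mem' := fun {g g'} hg hg' P hP b hb => by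
          set e := g' * b * g'⁻¹ * b⁻¹ with he
          have he' : e ∈ hE.rad P := hg' P hP b hb
          have hge : g * e * g⁻¹ ∈ hE.rad P := by
            have := mul_mem (hg P hP e he'.1) he'
            rwa [inv_mul_cancel_right] at this
          rw [show g * g' * b * (g * g')⁻¹ * b⁻¹ = (g * e * g⁻¹) * (g * b * g⁻¹ * b⁻¹) by rw [he]; group]
          exact mul_mem hge (hg P hP b hb)
        inv_mem' := fun {g} hg P hP b hb => by
          have := inv_mem (hg P hP _ ((inferInstance : B.Normal).conj_mem' b hb g))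
          rwa [show (g * (g⁻¹ * b * g) * g⁻¹ * (g⁻¹ * b * g)⁻¹)⁻¹ = g⁻¹ * b * g⁻¹⁻¹ * b⁻¹ by group] at this }
    have hRL : R (k' + 1) (fixed s) ≤ L := by
      refine (res_le_commutator Y).trans ?_
      rw [Subgroup.commutator_le]
      intro d hd y hy P hP b hb
      have hyinv := inv_mem hy
      set x := y⁻¹ * b * y with hx
      have hxB : x ∈ B := (inferInstance : B.Normal).conj_mem' b hb y
      set z := d⁻¹ * x * d with hz
      have hzB : z ∈ B := (inferInstance : B.Normal).conj_mem' x hxB d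
      set e := y * z * y⁻¹ with he
      have heB : e ∈ B := (inferInstance : B.Normal).conj_mem z hzB y
      rw [show ⁅d, y⁆ * b * ⁅d, y⁆⁻¹ * b⁻¹ = d * e * d⁻¹ * b⁻¹ by
        rw [he, hz, hx, commutatorElement_def]; group]
      rcases hsgn d hd P hP with h1 | h1
      · have h2 : e * b⁻¹ ∈ hE.rad P := by
          have := hYrad y hy P hP _ (inv_mem (h1 z hzB))
          rwa [show y * (d * z * d⁻¹ * z⁻¹)⁻¹ * y⁻¹ = e * b⁻¹ by rw [he, hz, hx]; group] at this
        rw [show d * e * d⁻¹ * b⁻¹ = (d * e * d⁻¹ * e⁻¹) * (e * b⁻¹) by group]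
        exact mul_mem (h1 e heB) h2
      · have h2 : b * e ∈ hE.rad P := by
          have := hYrad y hy P hP _ (h1 z hzB)
          rwa [show y * (d * z * d⁻¹ * z) * y⁻¹ = b * e by rw [he, hz, hx]; group] at this
        rw [show d * e * d⁻¹ * b⁻¹ = (d * e * d⁻¹ * e) * (b * e)⁻¹ by group]
        exact mul_mem (h1 e heB) (inv_mem h2)
    refine hmove B0 hch fun b hb => ?_
    rw [← commutatorElement_inv, commutatorElement_def]
    exact inv_mem (hE.mem_of_forall_rad h (mul_mem ((inferInstance : B.Normal).conj_mem b hb d0) (inv_mem hb))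
      fun P hP => hRL hd0 P hP b hb)

/-- A nilpotent term fixing the fixed vectors is trivial. -/
theorem bstar {H : Type u} [Group H] [Finite H] [Group.IsSolvable H] {V : Type v} [AddCommGroup V] [Module K V]
    [FiniteDimensional K V] {s : MulAut H} {τ : H →* Module.End K V} {T : Module.End K V} (h : Irr r s τ T)
    (hfix : ∃ v, v ≠ 0 ∧ T v = v) {k : ℕ} (hres : R (k + 1) (fixed s) = ⊥)
    (hyp : ∀ x ∈ R k (fixed s), ∀ v, T v = v → τ x v = v)
    (hyp' : ∀ k', k = k' + 1 → ∀ y ∈ R k' (fixed s), (orderOf y).Coprime q → ∀ v, T v = v → τ y v = v) :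
    ∀ x ∈ R k (fixed s), x = 1 :=
  bstar_aux (q := q) _ H le_rfl V s τ T h hfix k hres hyp hyp'

end Cfsg.Agent.TurullTwo
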