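import Cfsg.Agent.Lib.TurullTwo.Reduce
import Cfsg.Agent.Lib.TurullTwo.Star
import Cfsg.Agent.Lib.CoprimeHHS.Shult
import Cfsg.Agent.Lib.CN.Basic

/-! Without fixed vectors the series of the group is no longer than that of the fixed subgroup. -/

set_option autoImplicit false

universe u v w

open scoped commutatorElement
open Module Cfsg.Agent.CoprimeHHS Cfsg.Agent.CoprimeLength

namespace Cfsg.Agent.TurullTwo

variable {H : Type u} [Group H] [Finite H] {K : Type w} [Field K] [IsAlgClosed K] {V : Type v}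
  [AddCommGroup V] [Module K V] [FiniteDimensional K V] {r : ℕ} {s : MulAut H}
  {τ : H →* Module.End K V} {T : Module.End K V}

/-- Without fixed vectors the displacements are trivial or special. -/
theorem special_disp [Group.IsSolvable H] [Nontrivial V] (q : ℕ) [Fact q.Prime] [CharP K q] (h : Irr r s τ T)
    (hno : ∀ v, T v = v → v = 0) :
    disp s (⊤ : Subgroup H) = ⊥ ∨
      Special r (inv_disp (Inv.top (s := s))).aut (τ.comp (disp s (⊤ : Subgroup H)).subtype) T := by
  have hsum : ∑ i ∈ Finset.range r, T ^ i = 0 := LinearMap.ext fun v => hno _ (by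
    have h1 := congrArg (fun F : Module.End K V => F v) (mul_geom_sum T r)
    simp only [h.pow, sub_self, Module.End.mul_apply, LinearMap.sub_apply, Module.End.one_apply,
      LinearMap.zero_apply, sub_eq_zero] at h1
    exact h1)
  have hrep : Rep r s τ T := ⟨h.pow, hsum, h.conj⟩
  have hq : q.Prime := Fact.out
  haveI := disp_normal s
  set B := disp s (⊤ : Subgroup H) with hB
  have hBi : Inv s B := inv_disp Inv.top
  have hBd : disp s B = B := h.cop.disp_disp Inv.top
  have hchar : ∀ (t : ℕ), Inv s (Cfsg.pCore t H) := fun t x hx =>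
    Subgroup.characteristic_iff_map_le.1 (PBasic.pCore_characteristic t H) s ⟨x, hx, rfl⟩
  have hcore : Cfsg.pCore q H = ⊥ := by
    haveI := PBasic.pCore_characteristic q H
    exact h.eq_bot_of_isPGroup (hchar q) (PBasic.pCore_isPGroup q H)
  by_cases hq2 : q = 2
  · subst hq2
    refine Or.inl ?_
    have hcen : ∀ t : Nat.Primes, Cfsg.pCore (t : ℕ) H ≤ fixed s := by
      intro t x hx
      haveI := Fact.mk t.2
      haveI := Fact.mk h.cop.prime
      by_cases ht : (t : ℕ) = 2
      · rw [ht, hcore, Subgroup.mem_bot] at hx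
        rw [hx]; exact one_mem _
      by_cases htr : (t : ℕ) = r
      · obtain ⟨a, ha⟩ := (PBasic.pCore_isPGroup (t : ℕ) H).exists_card_eq
        rcases a with - | a
        · have h1 : Cfsg.pCore (t : ℕ) H = ⊥ := Subgroup.card_eq_one.1 (by simpa using ha)
          rw [h1, Subgroup.mem_bot] at hx
          rw [hx]; exact one_mem _
        · exact absurd ((dvd_pow_self _ a.succ_ne_zero).trans (ha ▸ Subgroup.card_subgroup_dvd_card _))
            (htr ▸ h.cop.ndvd)
      have htK : ((t : ℕ) : K) ≠ 0 := fun e => ht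
        ((Nat.prime_dvd_prime_iff_eq hq t.2).1 ((CharP.cast_eq_zero_iff K 2 _).1 e)).symm
      exact h.inj (CoprimeFree.action_trivial ht htr h.rK htK (PBasic.pCore_isPGroup (t : ℕ) H)
        (τ.comp (Cfsg.pCore (t : ℕ) H).subtype) T (hchar t).aut (h.cop.sub (hchar t)).pow_eq
        h.pow hsum (hrep.comp (hchar t)).conj ⟨x, hx⟩)
    have hF : Cfsg.fittingSubgroup H ≤ fixed s := by
      rw [FittingCores.fitting_eq_iSup_pCore]
      exact iSup_le hcen
    have hFn : (Cfsg.fittingSubgroup H).Normal := FittingCores.fitting_normal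
    have hBF : B ≤ Subgroup.centralizer (Cfsg.fittingSubgroup H : Set H) := by
      rw [hB, disp, Subgroup.closure_le]
      rintro _ ⟨x, -, rfl⟩
      rw [SetLike.mem_coe, Subgroup.mem_centralizer_iff]
      intro y hy
      have h1 := mem_fixed.1 (hF (hFn.conj_mem y hy x))
      rw [map_mul, map_mul, map_inv, mem_fixed.1 (hF hy)] at h1
      calc y * (x⁻¹ * s x) = x⁻¹ * (x * y * x⁻¹) * s x := by group
        _ = x⁻¹ * (s x * y * (s x)⁻¹) * s x := by rw [h1]
        _ = x⁻¹ * s x * y := by group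
    refine hBd.symm.trans (disp_eq_bot.2 ?_)
    exact hBF.trans (FittingCores.centralizer_fitting_le.trans hF)
  have h2K : (2 : K) ≠ 0 := fun e => hq2
    ((Nat.prime_dvd_prime_iff_eq hq Nat.prime_two).1 ((CharP.cast_eq_zero_iff _ q 2).1 (by exact_mod_cast e)))
  have hF : Faith r s τ T := ⟨h.cop, hrep, h.inj, h2K, h.rK⟩
  refine Or.inr ?_
  haveI := Fact.mk Nat.prime_two
  have hEq : ¬ q ∣ Nat.card B := fun hd => by
    obtain ⟨x, hx⟩ := exists_prime_orderOf_dvd_card' (G := B) q hd
    have hzp : IsPGroup q (Subgroup.zpowers (x : H)) :=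
      IsPGroup.of_card (n := 1) (by rw [Nat.card_zpowers, Subgroup.orderOf_coe, hx, pow_one])
    have h1 := disp_le_pCore hq hq2 h.cop hrep h.inj (Subgroup.zpowers_le.2 x.2) hzp
    rw [hcore, Subgroup.zpowers_le, Subgroup.mem_bot] at h1
    rw [show x = 1 from Subtype.ext h1, orderOf_one] at hx
    exact hq.ne_one hx.symm
  obtain ⟨S', -, hS'B, hS'i, hS'p, hS'c⟩ :=
    h.cop.exists_sylow_ge 2 hBi (bot_le : (⊥ : Subgroup H) ≤ B) IsPGroup.of_bot Inv.bot
  have hB2 : IsPGroup 2 B := by
    have h1 := (hF.sub hBi).disp_top_eq (hBi.subgroupOf hS'i)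
      (by rw [Nat.card_congr (Subgroup.subgroupOfEquivOfLe hS'B).toEquiv, hS'c]) fun t ht hd e =>
        hEq (((Nat.prime_dvd_prime_iff_eq hq ht).1 ((CharP.cast_eq_zero_iff _ q t).1 e)) ▸ hd)
    have h2 := congrArg (Subgroup.map B.subtype) h1
    have hdH := disp_subgroupOf hBi (le_refl B)
    rw [Subgroup.subgroupOf_self] at hdH
    rw [hdH, disp_subgroupOf hBi hS'B, hBd] at h2
    exact hS'p.to_le (h2.le.trans (disp_le hS'i))
  refine ⟨h.cop.sub hBi, hB2, hrep.comp hBi, h.inj.comp B.subtype_injective, ?_, h2K, h.rK⟩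
  refine Subgroup.map_injective B.subtype_injective ?_
  rw [← Subgroup.subgroupOf_self B, disp_subgroupOf hBi le_rfl, hBd, Subgroup.subgroupOf_self,
    ← MonoidHom.range_eq_map, Subgroup.range_subtype]

/-- Without fixed vectors the series of the group ends with that of the fixed subgroup. -/
theorem slem [Group.IsSolvable H] [Nontrivial V] (q : ℕ) [Fact q.Prime] [CharP K q] (h : Irr r s τ T)
    (hno : ∀ v, T v = v → v = 0) {m : ℕ} (hres : R (m + 1) (fixed s) = ⊥) :
    R (m + 1) (⊤ : Subgroup H) = ⊥ := by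
  rcases special_disp q h hno with hB | hS
  · exact eq_bot_iff.2 ((R_mono (disp_eq_bot.1 hB) (m + 1)).trans hres.le)
  haveI := disp_normal s
  haveI := Fact.mk Nat.prime_two
  set B := disp s (⊤ : Subgroup H) with hB
  have hBi : Inv s B := inv_disp Inv.top
  have hBd : disp s B = B := h.cop.disp_disp Inv.top
  have hBC : ∀ x : H, ∃ b ∈ B, ∃ c, s c = c ∧ x = b * c := fun x => by
    obtain ⟨d, hd', c, -, hc, e⟩ := h.cop.exists_disp_mul Inv.top (Subgroup.mem_top x)
    exact ⟨d, hd', c, hc, e⟩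
  set Z := fixed s ⊓ B with hZ
  have hZB : Z ≤ B := inf_le_right
  have hZi : Inv s Z := (inv_fixed s).inf hBi
  have hZs : ∀ z ∈ Z, s z = z := fun z hz => mem_fixed.1 hz.1
  have hcen : ∀ z ∈ Z, ∀ b ∈ B, b * z = z * b := fun z hz b hb =>
    congrArg Subtype.val (hS.fixed_central (z := (⟨z, hz.2⟩ : B))
      (mem_fixed.2 (Subtype.ext (mem_fixed.1 hz.1))) ⟨b, hb⟩)
  have hfixed : ∀ b ∈ B, (∀ g ∈ B, g * b = b * g) → b ∈ Z := fun b hb hc =>
    ⟨mem_fixed.2 (congrArg Subtype.val (hS.mem_center_iff.1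
      (Subgroup.mem_center_iff.2 fun g : B => Subtype.ext (hc g g.2)) : _ = (⟨b, hb⟩ : B))), hb⟩
  haveI hZn : Z.Normal := ⟨fun z hz g => hfixed _ ((inferInstance : B.Normal).conj_mem z hz.2 g) fun b hb => by
    have h1 := hcen z hz _ ((inferInstance : B.Normal).conj_mem' b hb g)
    calc b * (g * z * g⁻¹) = g * (g⁻¹ * b * g * z) * g⁻¹ := by group
      _ = g * (z * (g⁻¹ * b * g)) * g⁻¹ := by rw [h1]
      _ = g * z * g⁻¹ * b := by group⟩
  have hder : ∀ a ∈ B, ∀ b ∈ B, ⁅a, b⁆ ∈ Z := fun a ha b hb =>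
    ⟨mem_fixed.2 (congrArg Subtype.val (mem_fixed.1 (hS.comm_fixed ⟨a, ha⟩ ⟨b, hb⟩))),
      Subgroup.commutator_le_right B B (Subgroup.commutator_mem_commutator ha hb)⟩
  have hnilM : Group.IsNilpotent ↥(R m (fixed s)) := res_eq_bot.1 hres
  -- the elements of odd order centralise the displacements
  have hcentB : ∀ d ∈ R m (fixed s), (orderOf d).Coprime 2 → ∀ b ∈ B, d * b = b * d := by
    intro d hd hd2
    have hdC : s d = d := R_le m _ hd
    have hdZ : ∀ z ∈ Z, d * z = z * d := by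
      intro z hz
      set z' := ⁅d, z⁆ with hz'
      have hz'M : z' ∈ R m (fixed s) := by
        rw [hz', commutatorElement_def, mul_assoc d, mul_assoc d]
        exact mul_mem hd (R_conj_mem m hz.1 (inv_mem hd))
      have hz'Z : z' ∈ Z := by
        rw [hz', commutatorElement_def]
        exact mul_mem (hZn.conj_mem z hz d) (inv_mem hz)
      have hz'2 : ∃ a, orderOf z' = 2 ^ a := by
        obtain ⟨a, ha⟩ := IsPGroup.iff_orderOf.1 hS.pgroup (⟨z', hz'Z.2⟩ : B)
        exact ⟨a, by rw [← ha, Subgroup.orderOf_mk]⟩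
      obtain ⟨a, ha⟩ := hz'2
      have hc : Commute d z' := CN.commute_of_coprime hnilM hd hz'M (by rw [ha]; exact hd2.pow_right a)
      have hpow : ∀ i : ℕ, d ^ i * z * (d ^ i)⁻¹ = z' ^ i * z := fun i => by
        induction i with
        | zero => simp
        | succ i ih =>
          calc d ^ (i + 1) * z * (d ^ (i + 1))⁻¹ = d * (d ^ i * z * (d ^ i)⁻¹) * d⁻¹ := by
                rw [pow_succ']; group
            _ = d * z' ^ i * z * d⁻¹ := by rw [ih]; group
            _ = z' ^ i * (d * z * d⁻¹) := by rw [(hc.pow_right i).eq]; group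
            _ = z' ^ (i + 1) * z := by rw [hz', commutatorElement_def, pow_succ]; group
      have h1 := hpow (orderOf d)
      rw [pow_orderOf_eq_one, inv_one, one_mul, mul_one] at h1
      have h2 : z' ^ orderOf d = 1 := mul_right_cancel (b := z) (by rw [one_mul]; exact h1.symm)
      have h3 : z' = 1 := orderOf_eq_one_iff.1 (Nat.eq_one_of_dvd_coprimes (hd2.pow_right a)
        (orderOf_dvd_of_pow_eq_one h2) (ha ▸ dvd_rfl))
      exact commutatorElement_eq_one_iff_mul_comm.1 h3
    have hdZ' : ∀ b ∈ B, b⁻¹ * (d * b * d⁻¹) ∈ Z := by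
      rcases reduce h (G0 := B) hBi hBi hZB hZB hBC (fun b hb hsb => ⟨mem_fixed.2 hsb, hb⟩) hder m 1
        (Or.inr rfl) (fun x _ _ v hv => by rw [hno v hv, map_zero]) with h1 | hstar
      · intro b _
        rw [h1 d hd (Nat.coprime_one_right _), one_mul, inv_one, mul_one, inv_mul_cancel]
        exact one_mem Z
      have hE : Ext s τ T B Z 2 := ⟨Nat.prime_two, inferInstance, hBi, hZB, hcen,
        Subgroup.commutator_le.2 hder, fun b hb hsb => ⟨mem_fixed.2 hsb, hb⟩, hZs,
        fun b hb => ⟨mem_fixed.2 (congrArg Subtype.val (mem_fixed.1 (hS.sq_fixed ⟨b, hb⟩))), pow_mem hb 2⟩,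
        hstar, fun z hz e => by
          obtain ⟨a, ha⟩ := IsPGroup.iff_orderOf.1 hS.pgroup (⟨z, hz⟩ : B)
          rw [Subgroup.orderOf_mk] at ha
          rw [ha, Nat.cast_pow] at e
          exact hS.two (pow_eq_zero_iff'.1 (by exact_mod_cast e)).1⟩
      intro b hb
      refine hE.mem_of_forall_rad h (mul_mem (inv_mem hb) ((inferInstance : B.Normal).conj_mem b hb d))
        fun P hP => ?_
      rcases hE.sign hP h hdC hdZ (fun v hv => by rw [hno v hv, map_zero]) hd2 with h1 | ⟨⟨v, hv0, hv⟩, -⟩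
      · exact h1 b hb
      · exact absurd (hno v hv) hv0
    let M : Subgroup H :=
      { carrier := {b | b ∈ B ∧ d * b = b * d}
        one_mem' := ⟨one_mem B, by rw [one_mul, mul_one]⟩
        mul_mem' := fun {a c} ha hc => ⟨mul_mem ha.1 hc.1, by rw [← mul_assoc, ha.2, mul_assoc, hc.2, mul_assoc]⟩
        inv_mem' := fun {a} ha => ⟨inv_mem ha.1, by
          rw [mul_inv_eq_iff_eq_mul, mul_assoc, ha.2, inv_mul_cancel_left]⟩ }
    suffices hle : B ≤ M from fun b hb => (hle hb).2
    conv_lhs => rw [← hBd]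
    rw [disp, Subgroup.closure_le]
    rintro _ ⟨b, hb, rfl⟩
    refine ⟨mul_mem (inv_mem hb) (hBi b hb), ?_⟩
    set f := b⁻¹ * (d * b * d⁻¹) with hf
    have h1 : d * b * d⁻¹ = b * f := by rw [hf]; group
    have h2 : d * s b * d⁻¹ = s b * f := by
      have := congrArg s h1
      rwa [map_mul, map_mul, map_inv, hdC, map_mul, hZs f (hdZ' b hb)] at this
    have h3 := hcen f (hdZ' b hb) _ (mul_mem (inv_mem hb) (hBi b hb))
    refine mul_inv_eq_iff_eq_mul.1 ?_
    calc d * (b⁻¹ * s b) * d⁻¹ = (d * b * d⁻¹)⁻¹ * (d * s b * d⁻¹) := by group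
      _ = f⁻¹ * (b⁻¹ * s b * f) := by rw [h1, h2]; group
      _ = b⁻¹ * s b := by rw [h3, inv_mul_cancel_left]
  -- a nilpotent subgroup containing the term
  set M := R m (fixed s) with hM
  haveI := hnilM
  obtain ⟨Q⟩ : Nonempty (Sylow 2 M) := inferInstance
  haveI : (Q : Subgroup M).Normal := inferInstance
  set P2 := B ⊔ (Q : Subgroup M).map M.subtype with hP2
  have hP2p : IsPGroup 2 P2 := hS.pgroup.to_sup_of_normal_left (Q.isPGroup'.map _)
  set O := Subgroup.closure {x : H | x ∈ M ∧ (orderOf x).Coprime 2} with hO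
  have hOn : Group.IsNilpotent O := by
    obtain ⟨j, hj⟩ := (Subgroup.isNilpotent_iff_lowerCentralSeries _).1 hnilM
    refine (Subgroup.isNilpotent_iff_lowerCentralSeries _).2 ⟨j, eq_bot_iff.2 ((lcs_mono ?_ j).trans hj.le)⟩
    exact (Subgroup.closure_le _).2 fun x hx => hx.1
  have hOP : ∀ a ∈ O, ∀ b ∈ P2, a * b = b * a := by
    have hle : O ≤ Subgroup.centralizer (P2 : Set H) := by
      rw [hO, Subgroup.closure_le]
      rintro x ⟨hxM, hx2⟩
      have hsub : P2 ≤ Subgroup.centralizer ({x} : Set H) := by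
        rw [hP2, sup_le_iff]
        refine ⟨fun b hb => Subgroup.mem_centralizer_singleton_iff.2 (hcentB x hxM hx2 b hb).symm, ?_⟩
        rintro _ ⟨y, hy, rfl⟩
        refine Subgroup.mem_centralizer_singleton_iff.2 (CN.commute_of_coprime hnilM hxM y.2 ?_).symm.eq
        obtain ⟨a, ha⟩ := IsPGroup.iff_orderOf.1 Q.isPGroup' ⟨y, hy⟩
        rw [Subgroup.orderOf_mk] at ha
        rw [Subgroup.orderOf_coe, ha]
        exact hx2.pow_right a
      rw [SetLike.mem_coe, Subgroup.mem_centralizer_iff]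
      exact fun y hy => Subgroup.mem_centralizer_singleton_iff.1 (hsub hy)
    exact fun a ha b hb => (Subgroup.mem_centralizer_iff.1 (hle ha) b hb).symm
  have hnil := isNilpotent_sup hOn hP2p.isNilpotent hOP
  have hle : R m (⊤ : Subgroup H) ≤ O ⊔ P2 := by
    intro x hx
    have hmap : (⊤ : Subgroup H).map (QuotientGroup.mk' B) = (fixed s).map (QuotientGroup.mk' B) := by
      refine le_antisymm ?_ (Subgroup.map_mono le_top)
      rintro _ ⟨y, -, rfl⟩
      obtain ⟨b, hb, c, hc, rfl⟩ := hBC y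
      exact ⟨c, mem_fixed.2 hc, by rw [map_mul, show QuotientGroup.mk' B b = 1 from (QuotientGroup.eq_one_iff b).2 hb, one_mul]⟩
    have h1 : QuotientGroup.mk' B x ∈ (R m (fixed s)).map (QuotientGroup.mk' B) := by
      rw [map_R, ← hmap, ← map_R]
      exact ⟨x, hx, rfl⟩
    obtain ⟨c, hc, e⟩ := h1
    obtain ⟨u, v, huv, hu, hv, ⟨a, hua⟩, hvc⟩ := PBasic.exists_pPart_mul (p := 2) c
    have huM : u ∈ M := Subgroup.zpowers_le.2 hc hu
    have hvM : v ∈ M := Subgroup.zpowers_le.2 hc hv
    have hcO : c ∈ O ⊔ P2 := by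
      rw [← huv]
      refine mul_mem (Subgroup.mem_sup_right (Subgroup.mem_sup_right ?_))
        (Subgroup.mem_sup_left (Subgroup.subset_closure ⟨hvM, hvc⟩))
      have hz : IsPGroup 2 (Subgroup.zpowers (⟨u, huM⟩ : M)) :=
        IsPGroup.of_card (n := a) (by rw [Nat.card_zpowers, Subgroup.orderOf_mk, hua])
      have he := Q.is_maximal' (hz.to_sup_of_normal_right Q.isPGroup') le_sup_right
      exact ⟨⟨u, huM⟩, he.le (Subgroup.mem_sup_left (Subgroup.mem_zpowers _)), rfl⟩
    rw [show x = x * c⁻¹ * c by rw [inv_mul_cancel_right]]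
    refine mul_mem (Subgroup.mem_sup_right (Subgroup.mem_sup_left ?_)) hcO
    rw [← QuotientGroup.eq_one_iff (N := B), QuotientGroup.mk_mul, QuotientGroup.mk_inv, mul_inv_eq_one]
    exact e.symm
  exact eq_bot_iff.2 ((res_mono hle).trans (res_eq_bot.2 hnil).le)

end Cfsg.Agent.TurullTwo
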