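import Cfsg.Agent.Lib.TurullTwo.Star
import Cfsg.Agent.Lib.TurullTwo.Slem
import Cfsg.Agent.Lib.TurullTwo.FZero
import Cfsg.Agent.Lib.Solvable.CoprimeFreeGroup
import Cfsg.Agent.Lib.PLocal.FixedPointFree
import Mathlib.RingTheory.TensorProduct.Finite

/-! The series of the group is at most two steps longer than that of the fixed subgroup. -/

set_option autoImplicit false

universe u v w

open scoped commutatorElement TensorProduct
open Module Cfsg.Agent.CoprimeHHS Cfsg.Agent.CoprimeLength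

namespace Cfsg.Agent.TurullTwo

/-- A vector killed by the extensions of some maps comes with a vector killed by the maps. -/
theorem exists_killed_of_base {F : Type*} [Field F] {K : Type*} [Field K] [Algebra F K] {M : Type*}
    [AddCommGroup M] [Module F M] {ι : Type*} [Fintype ι] (f : ι → Module.End F M) {v : K ⊗[F] M}
    (hv0 : v ≠ 0) (hv : ∀ i, (f i).baseChange K v = 0) : ∃ u : M, u ≠ 0 ∧ ∀ i, f i u = 0 := by
  classical
  by_contra hc
  push Not at hc
  let Ψ : M →ₗ[F] (ι → M) := LinearMap.pi f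
  have hΨ : LinearMap.ker Ψ = ⊥ := LinearMap.ker_eq_bot'.2 fun x hx => by
    by_contra hx0
    obtain ⟨i, hi⟩ := hc x hx0
    exact hi (congrFun hx i)
  obtain ⟨Φ, hΦ⟩ := LinearMap.exists_leftInverse_of_injective Ψ hΨ
  let g : ι → Module.End F M := fun i => Φ.comp (LinearMap.single F (fun _ => M) i)
  have key : ∀ t : K ⊗[F] M, ∑ i, (g i).baseChange K ((f i).baseChange K t) = t := by
    intro t
    induction t using TensorProduct.induction_on with
    | zero => simp
    | tmul a x =>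
      simp only [LinearMap.baseChange_tmul]
      rw [← TensorProduct.tmul_sum]
      congr 1
      show ∑ i, Φ (Pi.single i (f i x)) = x
      rw [← map_sum, show ∑ i, (Pi.single i (f i x) : ι → M) = Ψ x from Finset.univ_sum_single (Ψ x)]
      exact congrArg (fun G : M →ₗ[F] M => G x) hΦ
    | add c d hc hd => simp only [map_add, Finset.sum_add_distrib, hc, hd]
  refine hv0 ((key v).symm.trans (Finset.sum_eq_zero fun i _ => ?_))
  rw [hv i, map_zero]

variable {r : ℕ}

theorem R_inv {H : Type u} [Group H] [Finite H] (s : MulAut H) (k : ℕ) : Inv s (R k (⊤ : Subgroup H)) :=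
  fun x hx => by
    have h1 : (R k (⊤ : Subgroup H)).map s.toMonoidHom = R k ⊤ := by
      rw [map_R, Subgroup.map_top_of_surjective _ s.surjective]
    exact h1.le ⟨x, hx, rfl⟩

/-- The term acts trivially on an irreducible action satisfying the hypotheses on the fixed vectors. -/
theorem factor_trivial {G : Type u} [Group G] [Finite G] [Group.IsSolvable G] {s : MulAut G} (hs : Cop r s) {m : ℕ}
    (hres : R (m + 1) (fixed s) = ⊥)
    (ih : ∀ (H : Type u) [Group H] [Finite H] [Group.IsSolvable H], Nat.card H < Nat.card G → ∀ t : MulAut H,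
      Cop r t → ∀ k : ℕ, R (k + 1) (fixed t) = ⊥ →
        (∀ N : Subgroup H, N.Normal → Inv t N → Group.IsNilpotent N → R k (fixed t) ⊓ N = ⊥) →
        R (k + 2) (⊤ : Subgroup H) = ⊥)
    {K : Type w} [Field K] [IsAlgClosed K] {q : ℕ} [Fact q.Prime] [CharP K q] {W : Type v} [AddCommGroup W]
    [Module K W] [FiniteDimensional K W] [Nontrivial W] {τ : G →* Module.End K W} {T : Module.End K W}
    (hact : Act r s τ T) (hker : τ.ker ≠ ⊥)
    (h1 : ∀ d ∈ R m (fixed s), ∀ w, T w = w → τ d w = w)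
    (h2 : ∀ m', m = m' + 1 → ∀ y ∈ R m' (fixed s), (orderOf y).Coprime q → ∀ w, T w = w → τ y w = w) :
    R (m + 1) (⊤ : Subgroup G) ≤ τ.ker := by
  obtain ⟨hi, hIrr⟩ := hact.quot
  suffices hbot : R (m + 1) (⊤ : Subgroup (G ⧸ τ.ker)) = ⊥ by
    intro x hx
    have h' : QuotientGroup.mk' τ.ker x ∈ (R (m + 1) (⊤ : Subgroup G)).map (QuotientGroup.mk' τ.ker) :=
      ⟨x, hx, rfl⟩
    rw [map_R, Subgroup.map_top_of_surjective _ (QuotientGroup.mk'_surjective _), hbot, Subgroup.mem_bot] at h'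
    exact (QuotientGroup.eq_one_iff x).1 h'
  have hres' : R (m + 1) (fixed hi.qAut) = ⊥ := by rw [R_fixed_qAut hs hi, hres, Subgroup.map_bot]
  by_cases hno : ∀ w, T w = w → w = 0
  · exact slem q hIrr hno hres'
  push Not at hno
  obtain ⟨w₀, hw₀, hw₀0⟩ := hno
  have hfix : ∃ w, w ≠ 0 ∧ T w = w := ⟨w₀, hw₀0, hw₀⟩
  have hl1 : ∀ x ∈ R m (fixed hi.qAut), ∀ w, T w = w → QuotientGroup.lift τ.ker τ le_rfl x w = w := by
    intro x hx w hw
    rw [R_fixed_qAut hs hi] at hx
    obtain ⟨y, hy, rfl⟩ := hx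
    exact h1 y hy w hw
  have hl2 : ∀ m', m = m' + 1 → ∀ y ∈ R m' (fixed hi.qAut), (orderOf y).Coprime q → ∀ w, T w = w →
      QuotientGroup.lift τ.ker τ le_rfl y w = w := by
    intro m' hm' y hy hyq w hw
    rw [R_fixed_qAut hs hi] at hy
    obtain ⟨y', hy', hyq', rfl⟩ := exists_coprime_lift (Or.inl Fact.out) _ hy hyq
    exact h2 m' hm' y' hy' hyq' w hw
  have hRm : R m (fixed hi.qAut) = ⊥ :=
    (Subgroup.eq_bot_iff_forall _).2 (bstar (q := q) hIrr hfix hres' hl1 hl2)
  cases m with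
  | zero =>
    have hnil : Group.IsNilpotent (G ⧸ τ.ker) := FixedPointFreeThompson.isNilpotent hi.qAut hs.prime
      (hs.quot hi).pow_eq fun x hx => by
        have : x ∈ R 0 (fixed hi.qAut) := hx
        rwa [hRm, Subgroup.mem_bot] at this
    exact res_eq_bot.2 inferInstance
  | succ m' =>
    have hlt : Nat.card (G ⧸ τ.ker) < Nat.card G := by
      have h3 : 1 < Nat.card τ.ker := Finite.one_lt_card_iff_nontrivial.2 ((Subgroup.nontrivial_iff_ne_bot _).2 hker)
      rw [Subgroup.card_eq_card_quotient_mul_card_subgroup τ.ker]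
      exact lt_mul_of_one_lt_right Nat.card_pos h3
    refine ih (G ⧸ τ.ker) hlt hi.qAut (hs.quot hi) m' hRm fun N hNn hNi hNnil => ?_
    have hcore : Cfsg.pCore q (G ⧸ τ.ker) = ⊥ := by
      haveI := PBasic.pCore_characteristic q (G ⧸ τ.ker)
      exact hIrr.eq_bot_of_isPGroup (fun x hx => Subgroup.characteristic_iff_map_le.1
        (PBasic.pCore_characteristic q (G ⧸ τ.ker)) hi.qAut ⟨x, hx, rfl⟩) (PBasic.pCore_isPGroup q _)
    have hpcore : ∀ t : ℕ, t.Prime → ∀ z ∈ N, (∃ a, orderOf z = t ^ a) → z ∈ Cfsg.pCore t (G ⧸ τ.ker) := by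
      intro t ht z hz ⟨a, ha⟩
      haveI := Fact.mk ht
      haveI := hNnil
      obtain ⟨P⟩ : Nonempty (Sylow t N) := inferInstance
      haveI : (P : Subgroup N).Normal := inferInstance
      have hzp : IsPGroup t (Subgroup.zpowers (⟨z, hz⟩ : N)) :=
        IsPGroup.of_card (n := a) (by rw [Nat.card_zpowers, Subgroup.orderOf_mk, ha])
      have he := P.is_maximal' (hzp.to_sup_of_normal_right P.isPGroup') le_sup_right
      exact FittingCores.sylow_le_pCore_of_nilpotent hNn t P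
        ⟨⟨z, hz⟩, he.le (Subgroup.mem_sup_left (Subgroup.mem_zpowers _)), rfl⟩
    refine (Subgroup.eq_bot_iff_forall _).2 fun x hx => ?_
    rw [← Subgroup.mem_bot]
    refine CN.mem_of_primePow ⊥ x fun t z ht hz hzo => ?_
    have hzR : z ∈ R m' (fixed hi.qAut) := Subgroup.zpowers_le.2 hx.1 hz
    have hzN : z ∈ N := Subgroup.zpowers_le.2 hx.2 hz
    have hzc := hpcore t ht z hzN hzo
    by_cases htq : t = q
    · rwa [htq, hcore] at hzc
    haveI := PBasic.pCore_characteristic t (G ⧸ τ.ker)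
    obtain ⟨a, ha⟩ := hzo
    exact Subgroup.mem_bot.2 (fzero hIrr hfix (hl2 m' rfl) hzR
      (by rw [ha]; exact ((Nat.coprime_primes ht Fact.out).2 htq).pow_left a) ht
      inferInstance (fun y hy => Subgroup.characteristic_iff_map_le.1
        (PBasic.pCore_characteristic t (G ⧸ τ.ker)) hi.qAut ⟨y, hy, rfl⟩)
      (PBasic.pCore_isPGroup t _) hzc)

set_option maxHeartbeats 1000000 in
/-- The term acts trivially on the top section of a nilpotent invariant normal subgroup. -/
theorem top_section {G : Type u} [Group G] [Finite G] [Group.IsSolvable G] {s : MulAut G} (hs : Cop r s) {m : ℕ}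
    (hres : R (m + 1) (fixed s) = ⊥)
    (hN : ∀ N : Subgroup G, N.Normal → Inv s N → Group.IsNilpotent N → R m (fixed s) ⊓ N = ⊥)
    (ih : ∀ (H : Type u) [Group H] [Finite H] [Group.IsSolvable H], Nat.card H < Nat.card G → ∀ t : MulAut H,
      Cop r t → ∀ k : ℕ, R (k + 1) (fixed t) = ⊥ →
        (∀ N : Subgroup H, N.Normal → Inv t N → Group.IsNilpotent N → R k (fixed t) ⊓ N = ⊥) →
        R (k + 2) (⊤ : Subgroup H) = ⊥)
    {P : Subgroup G} [P.Normal] (hPi : Inv s P) (hPnil : Group.IsNilpotent P) (hP0 : P ≠ ⊥) :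
    ∃ Q : Subgroup G, Q.Normal ∧ Inv s Q ∧ Q < P ∧ ⁅P, R (m + 1) (⊤ : Subgroup G)⁆ ≤ Q := by
  classical
  obtain ⟨Q, ⟨hQn, hQi, hQP, hPQ⟩, hmax'⟩ := WellFounded.has_min (wellFounded_gt (α := Subgroup G))
    {Q | Q.Normal ∧ Inv s Q ∧ Q ≤ P ∧ ¬ P ≤ Q}
    ⟨⊥, inferInstance, Inv.bot, bot_le, fun h => hP0 (eq_bot_iff.2 h)⟩
  haveI := hQn
  have hmax : ∀ L : Subgroup G, L.Normal → Inv s L → Q ≤ L → L ≤ P → L = Q ∨ L = P := by
    intro L hLn hLi hQL hLP
    rcases hQL.eq_or_lt with e | hlt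
    · exact Or.inl e.symm
    · exact Or.inr (le_antisymm hLP (by_contra fun hc => hmax' L ⟨hLn, hLi, hLP, hc⟩ hlt))
  have hder : ⁅P, P⁆ ≤ Q := by
    rcases hmax (Q ⊔ ⁅P, P⁆) inferInstance (hQi.sup (inv_commutator hPi hPi)) le_sup_left
      (sup_le hQP (Subgroup.commutator_le_right P P)) with e | e
    · exact le_sup_right.trans e.le
    · exact absurd (le_of_le_sup_commutator e.ge) hPQ
  obtain ⟨q, hq, hexp, x₀, hx₀P, hx₀, hx₀q⟩ := exists_exp_of_max hPi hQi hQP hPQ hder hmax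
  haveI := Fact.mk hq
  refine ⟨Q, hQn, hQi, lt_of_le_of_ne hQP fun e => hPQ e.ge, ?_⟩
  set L := R (m + 1) (⊤ : Subgroup G) with hL
  haveI hLn : L.Normal := R_normal ⊤ (m + 1)
  have hLi : Inv s L := R_inv s (m + 1)
  -- the module
  set A := P.map (QuotientGroup.mk' Q) with hA
  haveI hAn : A.Normal := Subgroup.Normal.map inferInstance _ (QuotientGroup.mk'_surjective Q)
  have hAi : Inv hQi.qAut A := hQi.map_mk hPi
  have hcomm : ∀ x y : A, x * y = y * x := by
        rintro ⟨_, a, ha, rfl⟩ ⟨_, b, hb, rfl⟩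
        refine Subtype.ext (commutatorElement_eq_one_iff_mul_comm.1 ?_)
        show ⁅QuotientGroup.mk' Q a, QuotientGroup.mk' Q b⁆ = 1
        rw [← map_commutatorElement]
        exact (QuotientGroup.eq_one_iff _).2 (hder (Subgroup.commutator_mem_commutator ha hb))
  letI : CommGroup A := { (inferInstance : Group A) with mul_comm := hcomm }
  have hqv : ∀ v : Additive ↥A, q • v = 0 := fun v => by
    obtain ⟨⟨_, a, ha, rfl⟩, rfl⟩ := Additive.ofMul.surjective v
    rw [← ofMul_pow, ofMul_eq_zero]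
    refine Subtype.ext ?_
    show (QuotientGroup.mk' Q a) ^ q = 1
    rw [← map_pow]
    exact (QuotientGroup.eq_one_iff _).2 (hexp a ha)
  haveI iMod : Module (ZMod q) (Additive ↥A) := AddCommGroup.zmodModule hqv
  let mkM : ∀ u, u ∈ P → Additive A := fun u hu => Additive.ofMul ⟨QuotientGroup.mk' Q u, u, hu, rfl⟩
  have hmkM : ∀ v, ∃ u, ∃ hu : u ∈ P, v = mkM u hu := fun v => by
    obtain ⟨⟨_, a, ha, rfl⟩, rfl⟩ := Additive.ofMul.surjective v
    exact ⟨a, ha, rfl⟩
  have hmkeq : ∀ {a b : G} (ha : a ∈ P) (hb : b ∈ P), mkM a ha = mkM b hb ↔ a⁻¹ * b ∈ Q := by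
    intro a b ha hb
    refine ⟨fun e => ?_, fun e => congrArg Additive.ofMul (Subtype.ext (QuotientGroup.eq.2 e))⟩
    exact QuotientGroup.eq.1 (congrArg Subtype.val (Additive.ofMul.injective e))
  let ρ := (CoprimeFree.autEnd q ↥A).comp ((MulAut.conjNormal : G ⧸ Q →* MulAut ↥A).comp (QuotientGroup.mk' Q))
  let X := CoprimeFree.autEnd q ↥A hAi.aut
  have hρmk : ∀ g u (hu : u ∈ P), ρ g (mkM u hu) = mkM (g * u * g⁻¹) ((inferInstance : P.Normal).conj_mem u hu g) :=
    fun g u hu => congrArg Additive.ofMul (Subtype.ext (by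
      show ((MulAut.conjNormal (QuotientGroup.mk' Q g) (⟨QuotientGroup.mk' Q u, u, hu, rfl⟩ : A) : A) : G ⧸ Q) =
        QuotientGroup.mk' Q (g * u * g⁻¹)
      rw [MulAut.conjNormal_apply, map_mul, map_mul, map_inv]))
  have hXmk : ∀ u (hu : u ∈ P), X (mkM u hu) = mkM (s u) (hPi u hu) := fun u hu => rfl
  have hX : X ^ r = 1 := by
    show (CoprimeFree.autEnd q A hAi.aut) ^ r = 1
    rw [← map_pow, ((hs.quot hQi).sub hAi).pow_eq, map_one]
  have hconj : ∀ g, X * ρ g = ρ (s g) * X := fun g => LinearMap.ext fun v => by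
    obtain ⟨u, hu, rfl⟩ := hmkM v
    rw [Module.End.mul_apply, Module.End.mul_apply, hρmk g u hu,
      hXmk _ ((inferInstance : P.Normal).conj_mem u hu g), hXmk u hu, hρmk (s g) (s u) (hPi u hu)]
    exact (hmkeq (hPi _ ((inferInstance : P.Normal).conj_mem u hu g))
      ((inferInstance : P.Normal).conj_mem _ (hPi u hu) (s g))).2 (by rw [map_mul, map_mul, map_inv, inv_mul_cancel]; exact one_mem Q)
  have hqdvd : q ∣ Nat.card G := by
    have h0 : orderOf (x₀ : G ⧸ Q) = q := orderOf_eq_prime (by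
      rw [← QuotientGroup.mk_pow]; exact (QuotientGroup.eq_one_iff _).2 hx₀q)
      fun e => hx₀ ((QuotientGroup.eq_one_iff _).1 e)
    exact (h0 ▸ orderOf_dvd_natCard (x₀ : G ⧸ Q)).trans (Subgroup.card_quotient_dvd_card Q)
  have hrq : (r : ZMod q) ≠ 0 := fun e => hs.ndvd
    ((Nat.prime_dvd_prime_iff_eq hq hs.prime).1 ((ZMod.natCast_eq_zero_iff _ _).1 e) ▸ hqdvd)
  let e0 : Module.End (ZMod q) (Additive A) := (r : ZMod q)⁻¹ • ∑ i ∈ Finset.range r, X ^ i
  have hfixM : ∀ v, ∃ c, ∃ hc : c ∈ P, s c = c ∧ e0 v = mkM c hc := by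
    intro v
    obtain ⟨u, hu, he⟩ := hmkM (e0 v)
    have h0 : X (e0 v) = e0 v := by
      have h0' := fixed_average (T := X) hrq hX v
      simp only [e0, LinearMap.smul_apply, LinearMap.sum_apply]
      exact h0'
    rw [he, hXmk u hu, eq_comm, hmkeq hu (hPi u hu)] at h0
    obtain ⟨c, hc, hsc, hcu⟩ := hs.exists_fixed hPi hQi hQP Subgroup.le_normalizer_of_normal hu h0
    exact ⟨c, hc, hsc, by rw [he, hmkeq hu hc]; exact hcu⟩
  have hd1 : ∀ d ∈ R m (fixed s), ρ d * e0 = e0 := fun d hd => LinearMap.ext fun v => by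
    obtain ⟨c, hc, hsc, he⟩ := hfixM v
    rw [Module.End.mul_apply, he, hρmk d c hc, hmkeq ((inferInstance : P.Normal).conj_mem c hc d) hc]
    have h1 : ⁅d, c⁆ ∈ R m (fixed s) ⊓ P := by
      refine ⟨?_, ?_⟩
      · rw [commutatorElement_def, mul_assoc d, mul_assoc d]
        exact mul_mem hd (R_conj_mem m (mem_fixed.2 hsc) (inv_mem hd))
      · show ⁅d, c⁆ ∈ P
        rw [commutatorElement_def]
        exact mul_mem ((inferInstance : P.Normal).conj_mem c hc d) (inv_mem hc)
    rw [hN P inferInstance hPi hPnil, Subgroup.mem_bot, commutatorElement_eq_one_iff_mul_comm] at h1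
    rw [h1, mul_inv_cancel_right, inv_mul_cancel]
    exact one_mem Q
  have hd2 : ∀ m', m = m' + 1 → ∀ y ∈ R m' (fixed s), (orderOf y).Coprime q → ρ y * e0 = e0 := by
    rintro m' rfl y hy hyq
    refine LinearMap.ext fun v => ?_
    obtain ⟨c, hc, hsc, he⟩ := hfixM v
    rw [Module.End.mul_apply, he, hρmk y c hc, hmkeq ((inferInstance : P.Normal).conj_mem c hc y) hc]
    obtain ⟨j, hj⟩ := exists_res_eq (R m' (fixed s))
    have hyP : ∀ u ∈ P, y * u * y⁻¹ ∈ P := fun u hu => (inferInstance : P.Normal).conj_mem u hu y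
    have h1 : iterComm y c (j + 1) ∈ R (m' + 1) (fixed s) ⊓ P := by
      refine ⟨?_, iterComm_mem_normal hyP hc _⟩
      show iterComm y c (j + 1) ∈ res (R m' (fixed s))
      rw [hj]
      exact iterComm_mem hy (fun w hw => R_conj_mem m' (mem_fixed.2 hsc) hw) j
    rw [hN P inferInstance hPi hPnil, Subgroup.mem_bot] at h1
    have h2 : ⁅y, c⁆ ∈ Q := comm_mem_of_unipotent hQP hder hyP (fun u hu => hQn.conj_mem u hu y) (pow_orderOf_eq_one y) hyq
      (fun u hu => ⟨1, by rw [pow_one]; exact hexp u hu⟩) (u := iterComm y c) hc (fun _ => rfl) (k := j + 1)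
      (by rw [h1]; exact one_mem Q)
    have h3 := hQn.conj_mem' _ (inv_mem h2) c
    rw [commutatorElement_def] at h3
    rwa [show c⁻¹ * (y * c * y⁻¹ * c⁻¹)⁻¹ * c = c⁻¹ * c * ((y * c * y⁻¹)⁻¹ * c) by group, inv_mul_cancel,
      one_mul] at h3
  -- extension of the scalars
  set K := AlgebraicClosure (ZMod q) with hK
  haveI : CharP K q := charP_of_injective_algebraMap' (ZMod q) q
  haveI : Module.Finite (ZMod q) (Additive A) := Module.Finite.of_finite
  let Φ : Module.End (ZMod q) (Additive A) →ₐ[ZMod q] Module.End K (K ⊗[ZMod q] Additive A) :=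
    Module.End.baseChangeHom (ZMod q) K (Additive A)
  have hΦ : Function.Injective Φ := LinearMap.baseChangeHom_injective (ZMod q) (Additive A) K
  let τ : G →* Module.End K (K ⊗[ZMod q] Additive A) := Φ.toRingHom.toMonoidHom.comp ρ
  have hτ : ∀ g, τ g = Φ (ρ g) := fun g => rfl
  set T := Φ X with hT
  have hTr : T ^ r = 1 := by rw [hT, ← map_pow, hX, map_one]
  have hTconj : ∀ g, T * τ g = τ (s g) * T := fun g => by rw [hτ, hτ, hT, ← map_mul, hconj, map_mul]
  have hrK : (r : K) ≠ 0 := fun e => hrq ((ZMod.natCast_eq_zero_iff _ _).2 ((CharP.cast_eq_zero_iff K q _).1 e))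
  have hTfix : ∀ v, T v = v → Φ e0 v = v := by
    intro v hv
    have h0 : r • e0 = ∑ i ∈ Finset.range r, X ^ i := by
      rw [← Nat.cast_smul_eq_nsmul (ZMod q), smul_smul, mul_inv_cancel₀ hrq, one_smul]
    have h1 := congrArg (fun F : Module.End K (K ⊗[ZMod q] Additive A) => F v) (congrArg Φ h0)
    have hpow : ∀ i : ℕ, (T ^ i) v = v := fun i => by
      induction i with
      | zero => rfl
      | succ i ih => rw [pow_succ, Module.End.mul_apply, hv, ih]
    simp only [map_nsmul, map_sum, map_pow, ← hT, LinearMap.smul_apply, LinearMap.sum_apply, hpow,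
      Finset.sum_const, Finset.card_range] at h1
    rw [← Nat.cast_smul_eq_nsmul K, ← Nat.cast_smul_eq_nsmul K] at h1
    exact smul_right_injective _ hrK h1
  have hfixV : ∀ d, ρ d * e0 = e0 → ∀ v, T v = v → τ d v = v := fun d hd v hv => by
    conv_lhs => rw [← hTfix v hv, hτ, ← Module.End.mul_apply, ← map_mul, hd]
    exact hTfix v hv
  -- an irreducible subspace
  haveI : Nontrivial (Additive A) := by
    refine ⟨⟨mkM x₀ hx₀P, mkM 1 (one_mem P), fun e => hx₀ ?_⟩⟩
    rw [hmkeq hx₀P (one_mem P), mul_one] at e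
    exact inv_mem_iff.1 e
  haveI : Nontrivial (K ⊗[ZMod q] Additive A) := by
    by_contra hc
    rw [not_nontrivial_iff_subsingleton] at hc
    exact one_ne_zero (hΦ (Subsingleton.elim (Φ (1 : Module.End (ZMod q) (Additive A))) (Φ 0)))
  obtain ⟨W, ⟨hW0, hW, hWT⟩, hWmin⟩ := WellFounded.has_min
    (wellFounded_lt (α := Submodule K (K ⊗[ZMod q] Additive A)))
    {W | W ≠ ⊥ ∧ (∀ g, ∀ v ∈ W, τ g v ∈ W) ∧ ∀ v ∈ W, T v ∈ W}
    ⟨⊤, top_ne_bot, fun _ _ _ => trivial, fun _ _ => trivial⟩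
  haveI : Nontrivial W := Submodule.nontrivial_iff_ne_bot.2 hW0
  let τW : G →* Module.End K W := Rep.resEnd τ W hW
  let TW : Module.End K W := T.restrict hWT
  have hTWpow : ∀ (i : ℕ) (u : W), ((TW ^ i) u : K ⊗[ZMod q] Additive A) = (T ^ i) u := fun i => by
    induction i with
    | zero => intro u; rfl
    | succ i ih =>
      intro u
      rw [pow_succ', Module.End.mul_apply, LinearMap.coe_restrict_apply, ih, pow_succ', Module.End.mul_apply]
  have hact : Act (K := K) (V := ↥W) r s τW TW := by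
    refine ⟨hs, hrK, LinearMap.ext fun u => Subtype.ext (by rw [hTWpow, hTr]; rfl),
      fun g => LinearMap.ext fun u => Subtype.ext
        (congrArg (fun F : Module.End K (K ⊗[ZMod q] Additive A) => F u) (hTconj g)), fun U hU hUT => ?_⟩
    by_cases hU0 : U = ⊥
    · exact Or.inl hU0
    refine Or.inr (Submodule.map_injective_of_injective W.injective_subtype ?_)
    rw [Submodule.map_subtype_top]
    refine (Submodule.map_subtype_le W U).eq_or_lt.resolve_right fun hlt => hWmin (U.map W.subtype) ⟨?_, ?_, ?_⟩ hlt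
    · exact fun e => hU0 (Submodule.map_injective_of_injective W.injective_subtype (by rw [e, Submodule.map_bot]))
    · rintro g _ ⟨u, hu, rfl⟩; exact ⟨τW g u, hU g u hu, rfl⟩
    · rintro _ ⟨u, hu, rfl⟩; exact ⟨TW u, hUT u hu, rfl⟩
  have hPker : P ≤ τW.ker := fun p hp => by
    rw [MonoidHom.mem_ker]
    have h1 : ρ p = 1 := LinearMap.ext fun v => by
      obtain ⟨u, hu, rfl⟩ := hmkM v
      rw [hρmk p u hu, Module.End.one_apply, hmkeq ((inferInstance : P.Normal).conj_mem u hu p) hu]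
      rw [show (p * u * p⁻¹)⁻¹ * u = ⁅p, u⁻¹⁆ by rw [commutatorElement_def]; group]
      exact hder (Subgroup.commutator_mem_commutator hp (inv_mem hu))
    refine LinearMap.ext fun w => Subtype.ext ?_
    show τ p (w : K ⊗[ZMod q] Additive A) = w
    rw [hτ, h1, map_one]
    rfl
  have hLker : L ≤ τW.ker := factor_trivial (q := q) hs hres ih hact
    (fun e => hP0 (eq_bot_iff.2 (hPker.trans e.le)))
    (fun d hd w hw => Subtype.ext (hfixV d (hd1 d hd) _ (congrArg Subtype.val hw)))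
    fun m' hm' y hy hyq w hw => Subtype.ext (hfixV y (hd2 m' hm' y hy hyq) _ (congrArg Subtype.val hw))
  -- back to the section
  obtain ⟨⟨w, hwW⟩, hw0⟩ := exists_ne (0 : W)
  letI : Fintype L := Fintype.ofFinite L
  obtain ⟨v, hv0, hv⟩ := exists_killed_of_base (fun x : L => ρ x - 1)
    (v := w) (fun e => hw0 (Subtype.ext e)) (fun x => by
      show Φ (ρ x - 1) w = 0
      rw [map_sub, map_one, LinearMap.sub_apply, Module.End.one_apply, sub_eq_zero, ← hτ]
      exact congrArg (fun F : Module.End K W => ((F ⟨w, hwW⟩ : W) : K ⊗[ZMod q] Additive A)) (hLker x.2))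
  obtain ⟨u, hu, rfl⟩ := hmkM v
  let Q' : Subgroup G :=
    { carrier := {a | a ∈ P ∧ ∀ x ∈ L, ⁅x, a⁆ ∈ Q}
      one_mem' := ⟨one_mem P, fun x _ => by rw [commutatorElement_one_right]; exact one_mem Q⟩
      mul_mem' := fun {a b} ha hb => ⟨mul_mem ha.1 hb.1, fun x hx => by
        rw [show ⁅x, a * b⁆ = ⁅x, a⁆ * (a * ⁅x, b⁆ * a⁻¹) by simp only [commutatorElement_def]; group]
        exact mul_mem (ha.2 x hx) (hQn.conj_mem _ (hb.2 x hx) a)⟩
      inv_mem' := fun {a} ha => ⟨inv_mem ha.1, fun x hx => by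
        rw [show ⁅x, a⁻¹⁆ = a⁻¹ * ⁅x, a⁆⁻¹ * a⁻¹⁻¹ by simp only [commutatorElement_def]; group]
        exact hQn.conj_mem _ (inv_mem (ha.2 x hx)) a⁻¹⟩ }
  have hQ'n : Q'.Normal := ⟨fun a ha g => ⟨(inferInstance : P.Normal).conj_mem a ha.1 g, fun x hx => by
    rw [show ⁅x, g * a * g⁻¹⁆ = g * ⁅g⁻¹ * x * g, a⁆ * g⁻¹ by simp only [commutatorElement_def]; group]
    exact hQn.conj_mem _ (ha.2 _ (hLn.conj_mem' x hx g)) g⟩⟩
  have hQ'i : Inv s Q' := fun a ha => ⟨hPi a ha.1, fun x hx => by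
    obtain ⟨x', rfl⟩ := s.surjective x
    rw [← map_commutatorElement]
    exact hQi _ (ha.2 x' (hLi.symm_mem hx))⟩
  rcases hmax Q' hQ'n hQ'i (fun a ha => ⟨hQP ha, fun x _ => by
      rw [commutatorElement_def]; exact mul_mem (hQn.conj_mem a ha x) (inv_mem ha)⟩) (fun a ha => ha.1) with e | e
  · refine absurd ((hmkeq hu (one_mem P)).2 ?_) hv0
    rw [mul_one]
    refine inv_mem (e.le ⟨hu, fun x hx => ?_⟩)
    have h1 := hv ⟨x, hx⟩
    rw [LinearMap.sub_apply, Module.End.one_apply, sub_eq_zero] at h1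
    have h2 := (hmkeq hu ((inferInstance : P.Normal).conj_mem u hu x)).1 (h1.symm.trans (hρmk x u hu))
    have h3 := hQn.conj_mem _ h2 u
    rwa [mul_inv_cancel_left, ← commutatorElement_def] at h3
  · rw [Subgroup.commutator_le]
    intro a ha x hx
    rw [← commutatorElement_inv]
    exact inv_mem ((e.ge ha).2 x hx)

theorem psi_aux (r : ℕ) : ∀ (n : ℕ) (G : Type u) [Group G] [Finite G] [Group.IsSolvable G], Nat.card G ≤ n →
    ∀ s : MulAut G, Cop r s → ∀ m : ℕ, R (m + 1) (fixed s) = ⊥ →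
      (∀ N : Subgroup G, N.Normal → Inv s N → Group.IsNilpotent N → R m (fixed s) ⊓ N = ⊥) →
      R (m + 2) (⊤ : Subgroup G) = ⊥ := by
  intro n
  induction n using Nat.strong_induction_on with
  | _ n ih =>
  intro G _ _ _ hcard s hs m hres hN
  have ih' : ∀ (H : Type u) [Group H] [Finite H] [Group.IsSolvable H], Nat.card H < Nat.card G → ∀ t : MulAut H,
      Cop r t → ∀ k : ℕ, R (k + 1) (fixed t) = ⊥ →
        (∀ N : Subgroup H, N.Normal → Inv t N → Group.IsNilpotent N → R k (fixed t) ⊓ N = ⊥) →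
        R (k + 2) (⊤ : Subgroup H) = ⊥ :=
    fun H _ _ _ hlt => ih (Nat.card H) (lt_of_lt_of_le hlt hcard) H le_rfl
  set L := R (m + 1) (⊤ : Subgroup G) with hL
  haveI : L.Normal := R_normal ⊤ (m + 1)
  have hchain : ∀ (c : ℕ) (P : Subgroup G), Nat.card P ≤ c → P.Normal → Inv s P → Group.IsNilpotent P →
      ∀ f : ℕ → Subgroup G, f 0 ≤ P → (∀ j, f (j + 1) ≤ ⁅f j, L⁆) → ∃ j, f j = ⊥ := by
    intro c
    induction c using Nat.strong_induction_on with
    | _ c ihc =>
    intro P hPc hPn hPi hPnil f hf0 hf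
    by_cases hP0 : P = ⊥
    · exact ⟨0, eq_bot_iff.2 (hf0.trans hP0.le)⟩
    haveI := hPn
    obtain ⟨Q, hQn, hQi, hQP, hPL⟩ := top_section hs hres hN ih' hPi hPnil hP0
    have hlt : Nat.card Q < c := lt_of_lt_of_le (lt_of_le_of_ne (Subgroup.card_le_of_le hQP.le) fun e =>
      hQP.ne (Subgroup.eq_of_le_of_card_ge hQP.le e.ge)) hPc
    have hQnil : Group.IsNilpotent Q := by
      obtain ⟨i, hi⟩ := (Subgroup.isNilpotent_iff_lowerCentralSeries _).1 hPnil
      exact (Subgroup.isNilpotent_iff_lowerCentralSeries _).2 ⟨i, eq_bot_iff.2 ((lcs_mono hQP.le i).trans hi.le)⟩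
    obtain ⟨j, hj⟩ := ihc _ hlt Q le_rfl hQn hQi hQnil (fun j => f (j + 1))
      ((hf 0).trans ((Subgroup.commutator_mono hf0 le_rfl).trans hPL)) (fun j => hf (j + 1))
    exact ⟨j + 1, hj⟩
  have hder : ∀ (c : ℕ) (D : Subgroup G), Nat.card D ≤ c → D.Normal → Inv s D → D ≤ L → Group.IsNilpotent D := by
    intro c
    induction c using Nat.strong_induction_on with
    | _ c ihc =>
    intro D hDc hDn hDi hDL
    by_cases hD0 : D = ⊥
    · subst hD0; infer_instance
    haveI := hDn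
    have hlt : ⁅D, D⁆ < D := Group.IsSolvable.commutator_lt_of_ne_bot hD0
    have hnil := ihc (Nat.card ↥⁅D, D⁆) (lt_of_lt_of_le (lt_of_le_of_ne (Subgroup.card_le_of_le hlt.le) fun e =>
      hlt.ne (Subgroup.eq_of_le_of_card_ge hlt.le e.ge)) hDc) _ le_rfl inferInstance (inv_commutator hDi hDi)
      (hlt.le.trans hDL)
    obtain ⟨j, hj⟩ := hchain _ ⁅D, D⁆ le_rfl inferInstance (inv_commutator hDi hDi) hnil
      (fun j => D.lowerCentralSeries (j + 1))
      (by rw [Subgroup.lowerCentralSeries_succ]; exact le_rfl)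
      (fun j => by rw [Subgroup.lowerCentralSeries_succ D (j + 1)]; exact Subgroup.commutator_mono le_rfl hDL)
    exact (Subgroup.isNilpotent_iff_lowerCentralSeries _).2 ⟨j + 1, hj⟩
  exact res_eq_bot.2 (hder _ L le_rfl inferInstance (R_inv s (m + 1)) le_rfl)

/-- The series of the group is at most two steps longer than that of the fixed subgroup, when the term meets the
nilpotent normal invariant subgroups trivially. -/
theorem psi {G : Type u} [Group G] [Finite G] [Group.IsSolvable G] {s : MulAut G} (hs : Cop r s) {m : ℕ}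
    (hres : R (m + 1) (fixed s) = ⊥)
    (hN : ∀ N : Subgroup G, N.Normal → Inv s N → Group.IsNilpotent N → R m (fixed s) ⊓ N = ⊥) :
    R (m + 2) (⊤ : Subgroup G) = ⊥ :=
  psi_aux r _ G le_rfl s hs m hres hN

end Cfsg.Agent.TurullTwo
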