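import Cfsg.Agent.Lib.TurullTwo.Family
import Cfsg.Agent.Lib.CoprimeHHS.Rep
import Cfsg.Agent.Lib.CoprimeHHS.Sector
import Cfsg.Agent.Lib.Transfer.Basic

/-! Subquotients carrying a fixed vector, passage to a faithful action, chief sections. -/

set_option autoImplicit false

universe u v w

open scoped commutatorElement
open Module Cfsg.Agent.CoprimeHHS Cfsg.Agent.CoprimeLength

namespace Cfsg.Agent.TurullTwo

variable {H : Type u} [Group H] [Finite H] {K : Type w} [Field K] {V : Type v} [AddCommGroup V] [Module K V]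
  {r : ℕ} {s : MulAut H} {τ : H →* Module.End K V} {T : Module.End K V}

/-- An irreducible action of `H⟨s⟩`, not necessarily faithful. -/
structure Act (r : ℕ) (s : MulAut H) (τ : H →* Module.End K V) (T : Module.End K V) : Prop where
  cop : Cop r s
  rK : (r : K) ≠ 0
  pow : T ^ r = 1
  conj : ∀ x, T * τ x = τ (s x) * T
  irr : ∀ W : Submodule K V, (∀ x, ∀ v ∈ W, τ x v ∈ W) → (∀ v ∈ W, T v ∈ W) → W = ⊥ ∨ W = ⊤

/-- A subgroup of the fixed subgroup is carried along a quotient. -/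
theorem R_fixed_qAut (hs : Cop r s) {N : Subgroup H} [N.Normal] (hN : Inv s N) (k : ℕ) :
    R k (fixed hN.qAut) = (R k (fixed s)).map (QuotientGroup.mk' N) := by
  rw [hs.fixed_qAut hN, map_R]

/-- The action of the quotient by the kernel is faithful. -/
theorem Act.quot (h : Act r s τ T) :
    ∃ hi : Inv s τ.ker, Irr r hi.qAut (QuotientGroup.lift τ.ker τ le_rfl) T := by
  have hi : Inv s τ.ker := fun x hx => by
    rw [MonoidHom.mem_ker] at hx ⊢
    have h1 := h.conj x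
    rw [hx, mul_one] at h1
    have h2 := congrArg (fun F => F * T ^ (r - 1)) h1
    simp only [mul_assoc] at h2
    rw [← pow_succ', Nat.sub_add_cancel h.cop.prime.one_le, h.pow, mul_one] at h2
    exact h2.symm
  refine ⟨hi, h.cop.quot hi, h.rK, h.pow, fun x => ?_, fun W hW hT => h.irr W (fun x => hW (x : H ⧸ τ.ker)) hT, ?_⟩
  · obtain ⟨y, rfl⟩ := QuotientGroup.mk_surjective x
    exact h.conj y
  · intro a b e
    obtain ⟨x, rfl⟩ := QuotientGroup.mk_surjective a
    obtain ⟨y, rfl⟩ := QuotientGroup.mk_surjective b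
    rw [QuotientGroup.lift_mk, QuotientGroup.lift_mk] at e
    refine QuotientGroup.eq.2 ?_
    rw [MonoidHom.mem_ker, map_mul, ← e, ← map_mul, inv_mul_cancel, map_one]

omit [Finite H] in
theorem fixed_average (hrK : (r : K) ≠ 0) (hT : T ^ r = 1) (u : V) :
    T ((r : K)⁻¹ • ∑ i ∈ Finset.range r, (T ^ i) u) = (r : K)⁻¹ • ∑ i ∈ Finset.range r, (T ^ i) u := by
  rw [map_smul, map_sum]
  congr 1
  obtain ⟨r', hr'⟩ : ∃ r', r = r' + 1 := ⟨r - 1, by
    have : r ≠ 0 := fun e => hrK (by rw [e, Nat.cast_zero])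
    omega⟩
  rw [hr', Finset.sum_range_succ, Finset.sum_range_succ' (fun l => (T ^ l) u)]
  congr 1
  · exact Finset.sum_congr rfl fun l _ => by rw [pow_succ' T, Module.End.mul_apply]
  · rw [← Module.End.mul_apply T, ← pow_succ', ← hr', hT, pow_zero]

/-- An invariant subgroup acts irreducibly on some subquotient with a fixed vector. -/
theorem exists_sub [FiniteDimensional K V] (h : Irr r s τ T) (hfix : ∃ v, v ≠ 0 ∧ T v = v) {U : Subgroup H}
    (hU : Inv s U) :
    ∃ (W : Type v) (_ : AddCommGroup W) (_ : Module K W) (_ : FiniteDimensional K W)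
      (τ' : U →* Module.End K W) (T' : Module.End K W), Act r hU.aut τ' T' ∧ (∃ w, w ≠ 0 ∧ T' w = w) ∧
        (∀ x : U, (∀ v, T v = v → τ x v = v) → ∀ w, T' w = w → τ' x w = w) ∧
        (∀ N : Subgroup U, (Nat.card N : K) ≠ 0 → (∀ x ∈ N, τ' x = 1) →
          ∃ v, v ≠ 0 ∧ ∀ x ∈ N, τ (x : H) v = v) := by
  obtain ⟨v₀, hv₀, hTv₀⟩ := hfix
  let W2 : Submodule K V := Submodule.span K (Set.range fun x : U => τ x v₀)
  have hclosed : ∀ F : Module.End K V, (∀ x : U, F (τ x v₀) ∈ W2) → ∀ w ∈ W2, F w ∈ W2 := fun F hF w hw => by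
    refine Submodule.span_le (p := W2.comap F) |>.2 ?_ hw
    rintro _ ⟨x, rfl⟩
    exact hF x
  have hW2 : ∀ x : U, ∀ w ∈ W2, τ x w ∈ W2 := fun x => hclosed _ fun y =>
    Submodule.subset_span ⟨x * y, by
      show τ ((x : H) * y) v₀ = _
      rw [map_mul, Module.End.mul_apply]⟩
  have hW2T : ∀ w ∈ W2, T w ∈ W2 := hclosed T fun y =>
    Submodule.subset_span ⟨hU.aut y, by
      show τ (s y) v₀ = _
      rw [h.conj_apply, hTv₀]⟩
  have hv2 : v₀ ∈ W2 := Submodule.subset_span ⟨1, by simp⟩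
  let τ2 : U →* Module.End K W2 := Rep.resEnd (τ.comp U.subtype) W2 hW2
  let T2 : Module.End K W2 := T.restrict hW2T
  let u₀ : W2 := ⟨v₀, hv2⟩
  obtain ⟨W1, ⟨hW1, hW1T, hu₀⟩, hmax⟩ := WellFounded.has_min (wellFounded_gt (α := Submodule K W2))
    {W1 | (∀ x : U, ∀ w ∈ W1, τ2 x w ∈ W1) ∧ (∀ w ∈ W1, T2 w ∈ W1) ∧ u₀ ∉ W1}
    ⟨⊥, fun x w hw => by rw [(Submodule.mem_bot K).1 hw, map_zero]; exact zero_mem _,
      fun w hw => by rw [(Submodule.mem_bot K).1 hw, map_zero]; exact zero_mem _,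
      fun hm => hv₀ (congrArg Subtype.val ((Submodule.mem_bot K).1 hm))⟩
  let T' : Module.End K (W2 ⧸ W1) := W1.mapQ W1 T2 (fun v hv => hW1T v hv)
  have hT'mk : ∀ u : W2, T' (Submodule.Quotient.mk u) = Submodule.Quotient.mk (T2 u) := fun u => rfl
  have hpow2 : ∀ (i : ℕ) (u : W2), ((T2 ^ i) u : V) = (T ^ i) u := fun i => by
    induction i with
    | zero => intro u; rfl
    | succ i ih =>
      intro u
      rw [pow_succ', Module.End.mul_apply, LinearMap.coe_restrict_apply, ih, pow_succ', Module.End.mul_apply]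
  have hT2r : T2 ^ r = 1 := LinearMap.ext fun u => Subtype.ext (by rw [hpow2, h.pow]; rfl)
  have hpowq : ∀ (i : ℕ) (u : W2), (T' ^ i) (Submodule.Quotient.mk u) = Submodule.Quotient.mk ((T2 ^ i) u) := by
    intro i
    induction i with
    | zero => intro u; rfl
    | succ i ih => intro u; rw [pow_succ', Module.End.mul_apply, ih, hT'mk, pow_succ', Module.End.mul_apply]
  refine ⟨W2 ⧸ W1, inferInstance, inferInstance, inferInstance, Rep.quotEnd τ2 W1 hW1, T', ?_, ?_, ?_, ?_⟩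
  · refine ⟨h.cop.sub hU, h.rK, ?_, fun x => ?_, fun W hW hT => ?_⟩
    · refine LinearMap.ext fun y => ?_
      obtain ⟨u, rfl⟩ := Submodule.Quotient.mk_surjective W1 y
      rw [hpowq, hT2r]; rfl
    · refine LinearMap.ext fun y => ?_
      obtain ⟨u, rfl⟩ := Submodule.Quotient.mk_surjective W1 y
      exact congrArg (Submodule.Quotient.mk (p := W1)) (Subtype.ext (h.conj_apply x u))
    · set W' : Submodule K W2 := W.comap W1.mkQ with hW'
      by_cases hu : u₀ ∈ W'
      · right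
        rw [eq_top_iff]
        intro y _
        obtain ⟨⟨u, hu2⟩, rfl⟩ := Submodule.Quotient.mk_surjective W1 y
        have key : W2 ≤ W'.map W2.subtype := by
          refine Submodule.span_le.2 ?_
          rintro _ ⟨x, rfl⟩
          exact ⟨τ2 x u₀, hW x _ hu, rfl⟩
        obtain ⟨u', hu', he⟩ := key hu2
        rw [show (⟨u, hu2⟩ : W2) = u' from (Subtype.ext he).symm]
        exact hu'
      · left
        have hle : W1 ≤ W' := fun u hu => by
          show W1.mkQ u ∈ W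
          rw [Submodule.mkQ_apply, (Submodule.Quotient.mk_eq_zero W1).2 hu]
          exact zero_mem _
        have heq : W1 = W' := hle.eq_or_lt.resolve_right fun hlt =>
          hmax W' ⟨fun x w hw => hW x _ hw, fun w hw => hT _ hw, hu⟩ hlt
        rw [eq_bot_iff]
        intro y hy
        obtain ⟨u, rfl⟩ := Submodule.Quotient.mk_surjective W1 y
        rw [Submodule.mem_bot, Submodule.Quotient.mk_eq_zero, heq]
        exact hy
  · refine ⟨Submodule.Quotient.mk u₀, fun e => hu₀ ((Submodule.Quotient.mk_eq_zero W1).1 e), ?_⟩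
    rw [hT'mk]
    exact congrArg _ (Subtype.ext hTv₀)
  · intro x hx w hw
    obtain ⟨u, rfl⟩ := Submodule.Quotient.mk_surjective W1 w
    let u' : W2 := (r : K)⁻¹ • ∑ i ∈ Finset.range r, (T2 ^ i) u
    have hu' : T2 u' = u' := fixed_average h.rK hT2r u
    have hfi : ∀ i : ℕ, (T' ^ i) (Submodule.Quotient.mk u) = Submodule.Quotient.mk u := fun i => by
      induction i with
      | zero => rfl
      | succ i ih => rw [pow_succ, Module.End.mul_apply, hw, ih]
    have he : (Submodule.Quotient.mk u' : W2 ⧸ W1) = Submodule.Quotient.mk u := by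
      rw [← Submodule.mkQ_apply, map_smul, map_sum]
      simp only [Submodule.mkQ_apply, ← hpowq, hfi, Finset.sum_const, Finset.card_range,
        ← Nat.cast_smul_eq_nsmul K, smul_smul, inv_mul_cancel₀ h.rK, one_smul]
    rw [← he]
    exact congrArg (Submodule.Quotient.mk (p := W1)) (Subtype.ext (hx _ (congrArg Subtype.val hu')))
  · intro N hN hN1

    refine ⟨(eN τ2 N u₀ : V), fun e => hu₀ ?_, fun x hx => ?_⟩
    · have h1 : (Submodule.Quotient.mk (eN τ2 N u₀) : W2 ⧸ W1) = Submodule.Quotient.mk u₀ := by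
        let _ : Fintype N := Fintype.ofFinite N
        rw [eN, LinearMap.smul_apply, LinearMap.sum_apply, ← Submodule.mkQ_apply, map_smul, map_sum]
        have hfi : ∀ x : N, W1.mkQ (τ2 x u₀) = W1.mkQ u₀ := fun x =>
          congrArg (fun F : Module.End K (W2 ⧸ W1) => F (W1.mkQ u₀)) (hN1 x x.2)
        simp only [hfi, Finset.sum_const, Finset.card_univ, ← Nat.card_eq_fintype_card,
          ← Nat.cast_smul_eq_nsmul K, smul_smul, inv_mul_cancel₀ hN, one_smul]
        rfl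
      rw [show eN τ2 N u₀ = 0 from Subtype.ext e, Submodule.Quotient.mk_zero] at h1
      exact (Submodule.Quotient.mk_eq_zero W1).1 h1.symm
    · exact congrArg Subtype.val (congrArg (fun F : Module.End K W2 => F u₀) (mul_eN (τ := τ2) hx))

variable {q : ℕ} [Fact q.Prime] [CharP K q]

/-- A normal `q`-subgroup of an invariant normal subgroup is trivial. -/
theorem Irr.eq_bot_of_normal_in [Nontrivial V] (h : Irr r s τ T) {G0 P : Subgroup H} [G0.Normal]
    (hGi : Inv s G0) (hPG : P ≤ G0) (hP : IsPGroup q P) (hn : ∀ g ∈ G0, ∀ x ∈ P, g * x * g⁻¹ ∈ P) :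
    P = ⊥ := by
  have hle : P.subgroupOf G0 ≤ Cfsg.pCore q G0 := by
    refine PBasic.le_pCore ⟨fun x hx g => ?_⟩ (hP.of_equiv (Subgroup.subgroupOfEquivOfLe hPG).symm)
    exact hn g g.2 x hx
  have := PBasic.pCore_characteristic q G0
  have hbot : (Cfsg.pCore q G0).map G0.subtype = ⊥ := by
    refine h.eq_bot_of_isPGroup (fun x hx => ?_) ((PBasic.pCore_isPGroup q G0).map _)
    obtain ⟨y, hy, rfl⟩ := hx
    exact ⟨hGi.aut y, Subgroup.characteristic_iff_map_le.1 (PBasic.pCore_characteristic q G0) hGi.aut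
      ⟨y, hy, rfl⟩, rfl⟩
  refine eq_bot_iff.2 fun x hx => hbot.le ⟨⟨x, hPG hx⟩, hle hx, rfl⟩

omit [Finite H] in
theorem card_ne_zero {U : Type*} [Group U] [Finite U] (hU : ∀ x : U, orderOf x ≠ q) : (Nat.card U : K) ≠ 0 :=
  fun e => by
    obtain ⟨x, hx⟩ := exists_prime_orderOf_dvd_card' q ((CharP.cast_eq_zero_iff K q _).1 e)
    exact hU x hx

/-- An element central in an invariant normal subgroup has order prime to the characteristic. -/
theorem Irr.orderOf_ne_zero (q : ℕ) [Fact q.Prime] [CharP K q] [Nontrivial V] (h : Irr r s τ T) {G0 : Subgroup H} [G0.Normal] (hGi : Inv s G0)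
    {z : H} (hz : z ∈ G0) (hzc : ∀ g ∈ G0, g * z = z * g) : (orderOf z : K) ≠ 0 := by
  intro e
  obtain ⟨c, hc⟩ := (CharP.cast_eq_zero_iff K q _).1 e
  have hq : Nat.Prime q := Fact.out
  have hy : orderOf (z ^ c) = q := by
    have hc0 : 0 < c := Nat.pos_of_ne_zero fun e0 => (orderOf_pos z).ne' (by rw [hc, e0, mul_zero])
    rw [orderOf_pow, hc, Nat.gcd_eq_right (dvd_mul_left c q), Nat.mul_div_cancel _ hc0]
  have hbot := h.eq_bot_of_normal_in hGi (P := Subgroup.zpowers (z ^ c)) (Subgroup.zpowers_le.2 (pow_mem hz c))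
    (IsPGroup.of_card (n := 1) (by rw [Nat.card_zpowers, hy, pow_one])) fun g hg x hx => by
      have hcm : g * x = x * g := by
        have hcc : z ^ c ∈ Subgroup.centralizer ({g} : Set H) :=
          pow_mem (Subgroup.mem_centralizer_singleton_iff.2 (hzc g hg).symm) c
        exact (Subgroup.mem_centralizer_singleton_iff.1 (Subgroup.zpowers_le.2 hcc hx)).symm
      rwa [hcm, mul_inv_cancel_right]
  rw [Subgroup.zpowers_eq_bot] at hbot
  rw [hbot, orderOf_one] at hy
  exact hq.ne_one hy.symm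

omit [Fact q.Prime] [CharP K q] in
/-- The projections recover an element. -/
theorem comm_eN_mul [IsAlgClosed K] {G0 N : Subgroup H} {z : H} (hN : N ≤ G0)
    (hn : ∀ g ∈ G0, ∀ x ∈ N, g * x * g⁻¹ ∈ N) (hcard : (Nat.card N : K) ≠ 0) (hz : z ∈ G0)
    (ho : (orderOf z : K) ≠ 0) (hzc : ∀ g ∈ G0, ⁅z, g⁆ ∈ N) {F : Module.End K V}
    (hF : ∀ E, IsGen τ G0 E → F * E = E * F) : F * (eN τ N * τ z) = (eN τ N * τ z) * F := by
  classical
  rcases Nat.lt_or_ge 1 (orderOf z) with h1 | h1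
  · have := NeZero.mk ho
    obtain ⟨ζ, hζ⟩ := HasEnoughRootsOfUnity.exists_primitiveRoot K (orderOf z)
    have hproj : ∀ j, Sector.eproj (orderOf z) ζ (τ z) j = eps τ z (ζ ^ j) := fun j => by
      simp only [Sector.eproj, eps, inv_pow, map_pow]
    have hc : ∀ j : ℕ, (ζ ^ j) ^ orderOf z = 1 := fun j => by rw [← pow_mul, mul_comm, pow_mul, hζ.pow_eq_one, one_pow]
    have hz' : eN τ N * τ z = ∑ j ∈ Finset.range (orderOf z), (ζ ^ j) • (eN τ N * eps τ z (ζ ^ j)) := by
      conv_lhs => rw [← mul_one (τ z), ← Sector.sum_eproj hζ h1 ho (τ z), Finset.mul_sum, Finset.mul_sum]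
      refine Finset.sum_congr rfl fun j _ => ?_
      rw [hproj, tau_eps (hc j), mul_smul_comm]
    rw [hz', Finset.mul_sum, Finset.sum_mul]
    refine Finset.sum_congr rfl fun j _ => ?_
    rw [mul_smul_comm, smul_mul_assoc, hF _ ⟨N, z, ζ ^ j, hN, hn, hcard, hz, ho, hzc, hc j, rfl⟩]
  · have hz1 : z = 1 := orderOf_eq_one_iff.1 (le_antisymm h1 (orderOf_pos z))
    subst hz1
    have := hF _ ⟨N, 1, 1, hN, hn, hcard, hz, ho, hzc, one_pow _, rfl⟩
    have he : eps τ (1 : H) (1 : K) = 1 := by simp [eps]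
    rwa [he, ← map_one τ] at this

/-- A maximal invariant normal subgroup of `B` containing the derived subgroup. -/
structure Chief (s : MulAut H) (B B0 : Subgroup H) : Prop where
  normal : B0.Normal
  inv : Inv s B0
  le : B0 ≤ B
  not_le : ¬ B ≤ B0
  der : ⁅B, B⁆ ≤ B0
  fix : ∀ b ∈ B, s b = b → b ∈ B0
  max : ∀ L : Subgroup H, L.Normal → Inv s L → B0 ≤ L → L ≤ B → L = B0 ∨ L = B

omit [Finite H] in
theorem inv_commutator {A B : Subgroup H} (hA : Inv s A) (hB : Inv s B) : Inv s ⁅A, B⁆ := fun x hx => by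
  have hle : (⁅A, B⁆).map s.toMonoidHom ≤ ⁅A, B⁆ := by
    rw [Subgroup.map_commutator]
    exact Subgroup.commutator_mono (fun _ ⟨u, hu, e⟩ => e ▸ hA u hu) (fun _ ⟨u, hu, e⟩ => e ▸ hB u hu)
  exact hle ⟨x, hx, rfl⟩

theorem exists_chief (B : Subgroup H) [B.Normal] (hBi : Inv s B)
    (hBd : disp s B = B) {L₀ : Subgroup H} [L₀.Normal] (hL₀i : Inv s L₀) (hL₀B : L₀ ≤ B)
    (hL₀ : ⁅B, B⁆ ≤ L₀) (hL₀n : ¬ B ≤ L₀) (hBC : ∀ x : H, ∃ b ∈ B, ∃ c, s c = c ∧ x = b * c) :
    ∃ B0, Chief s B B0 ∧ L₀ ≤ B0 := by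
  obtain ⟨B0, ⟨hn, hi, hle, hnot, hL⟩, hmax⟩ := WellFounded.has_min (wellFounded_gt (α := Subgroup H))
    {L | L.Normal ∧ Inv s L ∧ L ≤ B ∧ ¬ B ≤ L ∧ L₀ ≤ L} ⟨L₀, ‹_›, hL₀i, hL₀B, hL₀n, le_rfl⟩
  have hder : ⁅B, B⁆ ≤ B0 := hL₀.trans hL
  have hm : ∀ L : Subgroup H, L.Normal → Inv s L → B0 ≤ L → L ≤ B → L = B0 ∨ L = B := by
    intro L hLn hLi hBL hLB
    rcases hBL.eq_or_lt with e | hlt
    · exact Or.inl e.symm
    · refine Or.inr (le_antisymm hLB (by_contra fun hc => hmax L ⟨hLn, hLi, hLB, hc, hL.trans hBL⟩ hlt))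
  refine ⟨B0, ⟨hn, hi, hle, hnot, hder, ?_, hm⟩, hL⟩
  intro b hb hsb
  set M := (fixed s ⊓ B) ⊔ B0 with hM
  have hMB : M ≤ B := sup_le inf_le_right hle
  have key : ∀ g, ∀ x ∈ M, g * x * g⁻¹ ∈ M := by
    intro g x hx
    obtain ⟨y, hy, z, hz, rfl⟩ := Subgroup.mem_sup_of_normal_right.1 hx
    obtain ⟨b', hb', c, hc, rfl⟩ := hBC g
    rw [show b' * c * (y * z) * (b' * c)⁻¹ =
      ⁅b', c * y * c⁻¹⁆ * (c * y * c⁻¹) * (b' * c * z * (b' * c)⁻¹) by rw [commutatorElement_def]; group]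
    have hcy : c * y * c⁻¹ ∈ fixed s ⊓ B := Subgroup.mem_inf.2
      ⟨mul_mem (mul_mem (mem_fixed.2 hc) hy.1) (inv_mem (mem_fixed.2 hc)), (inferInstance : B.Normal).conj_mem y hy.2 c⟩
    exact mul_mem (mul_mem (Subgroup.mem_sup_right (hder (Subgroup.commutator_mem_commutator hb' hcy.2)))
      (Subgroup.mem_sup_left hcy)) (Subgroup.mem_sup_right (hn.conj_mem z hz _))
  have hMi : Inv s M := ((inv_fixed s).inf hBi).sup hi
  rcases hm M ⟨fun x hx g => key g x hx⟩ hMi le_sup_right hMB with e | e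
  · exact e.le (Subgroup.mem_sup_left ⟨mem_fixed.2 hsb, hb⟩)
  · refine absurd ?_ hnot
    calc B = disp s B := hBd.symm
      _ ≤ B0 := by
        rw [disp, Subgroup.closure_le]
        rintro _ ⟨x, hx, rfl⟩
        obtain ⟨y, hy, z, hz, rfl⟩ := Subgroup.mem_sup_of_normal_right.1 (e.ge hx)
        show (y * z)⁻¹ * s (y * z) ∈ B0
        rw [map_mul, mem_fixed.1 hy.1, show (y * z)⁻¹ * (y * s z) = z⁻¹ * s z by group]
        exact mul_mem (inv_mem hz) (hi z hz)

omit [Finite H] in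
/-- A solvable normal subgroup which is the product of a normal subgroup and its derived subgroup is that
subgroup. -/
theorem le_of_le_sup_commutator [Group.IsSolvable H] {B N : Subgroup H} [N.Normal] (h : B ≤ N ⊔ ⁅B, B⁆) :
    B ≤ N := by
  set B' := B.map (QuotientGroup.mk' N) with hB'
  have hperf : B' ≤ ⁅B', B'⁆ := by
    rintro _ ⟨x, hx, rfl⟩
    obtain ⟨n, hn, c, hc, rfl⟩ := Subgroup.mem_sup_of_normal_left.1 (h hx)
    rw [map_mul, show QuotientGroup.mk' N n = 1 from (QuotientGroup.eq_one_iff n).2 hn, one_mul, hB',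
      ← Subgroup.map_commutator]
    exact ⟨c, hc, rfl⟩
  have : Group.IsSolvable (H ⧸ N) := Group.isSolvable_of_surjective (QuotientGroup.mk'_surjective N)
  obtain ⟨j, hj⟩ := (inferInstance : Group.IsSolvable (H ⧸ N))
  have hle : ∀ i, B' ≤ derivedSeries (H ⧸ N) i := fun i => by
    induction i with
    | zero => exact le_top
    | succ i ih =>
      rw [derivedSeries_succ]
      exact hperf.trans (Subgroup.commutator_mono ih ih)
  intro x hx
  have := (hle j) ⟨x, hx, rfl⟩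
  rw [hj, Subgroup.mem_bot] at this
  exact (QuotientGroup.eq_one_iff x).1 this

/-- A central element of a subgroup with fixed family is fixed and central in `B`. -/
theorem Irr.central_of_star (q : ℕ) [Fact q.Prime] [CharP K q] [IsAlgClosed K] [Nontrivial V] (h : Irr r s τ T)
    {B G0 : Subgroup H} [G0.Normal] (hGi : Inv s G0)
    (hstar : ∀ E, IsGen τ G0 E → T * E = E * T ∧ ∀ b ∈ B, τ b * E = E * τ b)
    {z : H} (hz : z ∈ G0) (hzc : ∀ g ∈ G0, g * z = z * g) : s z = z ∧ ∀ b ∈ B, b * z = z * b := by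
  have ho := h.orderOf_ne_zero q hGi hz hzc
  have key : ∀ F, (∀ E, IsGen τ G0 E → F * E = E * F) → F * τ z = τ z * F := fun F hF => by
    have hb : (Nat.card (⊥ : Subgroup H) : K) ≠ 0 := by rw [Subgroup.card_bot, Nat.cast_one]; exact one_ne_zero
    have := comm_eN_mul (N := ⊥) bot_le (fun g _ x hx => by
      rw [Subgroup.mem_bot.1 hx, mul_one, mul_inv_cancel]; exact one_mem _) hb hz ho (fun g hg => by
      rw [Subgroup.mem_bot, commutatorElement_eq_one_iff_mul_comm]; exact (hzc g hg).symm) hF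
    have he : eN τ (⊥ : Subgroup H) = 1 := LinearMap.ext fun v => eN_apply_fixed hb fun x hx => by
      rw [Subgroup.mem_bot.1 hx, map_one]; rfl
    rwa [he, one_mul] at this
  refine ⟨h.inj ?_, fun b hb => h.inj ?_⟩
  · have h1 := key T fun E hE => (hstar E hE).1
    rw [h.conj] at h1
    have h2 := congrArg (fun F => F * T ^ (r - 1)) h1
    simp only [mul_assoc] at h2
    rwa [h.T_cancel.1, mul_one, mul_one] at h2
  · rw [map_mul, map_mul]
    exact key (τ b) fun E hE => (hstar E hE).2 b hb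

/-- An element fixing the fixed vectors and centralising a chief section of `B` and its lower part is trivial. -/
theorem Irr.eq_one_of_chief (q : ℕ) [Fact q.Prime] [CharP K q] [IsAlgClosed K] [Nontrivial V] (h : Irr r s τ T) {B B0 : Subgroup H} [B.Normal]
    (hBi : Inv s B) (hBd : disp s B = B) (hch : Chief s B B0)
    (hBC : ∀ x : H, ∃ b ∈ B, ∃ c, s c = c ∧ x = b * c) (hfix : ∃ v, v ≠ 0 ∧ T v = v)
    (hstar : ∀ E, IsGen τ B0 E → T * E = E * T ∧ ∀ b ∈ B, τ b * E = E * τ b)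
    {d : H} (hsd : s d = d) (hd : ∀ v, T v = v → τ d v = v) (hd0 : ∀ x ∈ B0, d * x = x * d)
    (hdB : ∀ b ∈ B, ⁅b, d⁆ ∈ B0) : d = 1 := by
  have := hch.normal
  refine h.eq_one_of_centralizes hBi hBC hfix hd ?_
  have hz : ∀ z ∈ B0, (∀ g ∈ B0, g * z = z * g) → s z = z ∧ ∀ b ∈ B, b * z = z * b := fun z hz hzc =>
    h.central_of_star q hch.inv hstar hz hzc
  -- the derivation
  let M : Subgroup H :=
    { carrier := {b | b ∈ B ∧ ⁅b, d⁆ = 1}
      one_mem' := ⟨one_mem B, by simp⟩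
      mul_mem' := fun {a c} ha hc => ⟨mul_mem ha.1 hc.1, by
        rw [show ⁅a * c, d⁆ = a * ⁅c, d⁆ * a⁻¹ * ⁅a, d⁆ by simp only [commutatorElement_def]; group, hc.2, ha.2]
        group⟩
      inv_mem' := fun {a} ha => ⟨inv_mem ha.1, by
        rw [show ⁅a⁻¹, d⁆ = a⁻¹ * ⁅a, d⁆⁻¹ * a⁻¹⁻¹ by simp only [commutatorElement_def]; group, ha.2]
        group⟩ }
  have hcen : ∀ b ∈ B, ∀ g ∈ B0, g * ⁅b, d⁆ = ⁅b, d⁆ * g := by
    intro b hb g hg
    have h1 : ∀ y ∈ B0, (b * d * b⁻¹) * y = y * (b * d * b⁻¹) := fun y hy => by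
      have h2 := hd0 _ (hch.normal.conj_mem' y hy b)
      calc b * d * b⁻¹ * y = b * (d * (b⁻¹ * y * b)) * b⁻¹ := by group
        _ = b * ((b⁻¹ * y * b) * d) * b⁻¹ := by rw [h2]
        _ = _ := by group
    rw [show ⁅b, d⁆ = (b * d * b⁻¹) * d⁻¹ by rw [commutatorElement_def]]
    have h3 : d⁻¹ * g = g * d⁻¹ := by
      rw [inv_mul_eq_iff_eq_mul, ← mul_assoc, hd0 g hg, mul_inv_cancel_right]
    rw [← mul_assoc, ← h1 g hg, mul_assoc _ d⁻¹, h3, ← mul_assoc]
  have hBM : B ≤ M := by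
    rw [← hBd, disp, Subgroup.closure_le]
    rintro _ ⟨b, hb, rfl⟩
    refine ⟨mul_mem (inv_mem hb) (hBi b hb), ?_⟩
    obtain ⟨hs1, hs2⟩ := hz _ (hdB b hb) (hcen b hb)
    have h1 : ⁅s b, d⁆ = ⁅b, d⁆ := by
      conv_lhs => rw [← hsd]
      rw [← map_commutatorElement, hs1]
    rw [show ⁅b⁻¹ * s b, d⁆ = b⁻¹ * (⁅s b, d⁆ * ⁅b, d⁆⁻¹) * b⁻¹⁻¹ by simp only [commutatorElement_def]; group, h1,
      mul_inv_cancel]
    group
  intro b hb
  exact (commutatorElement_eq_one_iff_mul_comm.1 (hBM hb).2).symm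

end Cfsg.Agent.TurullTwo
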